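import Mathlib

/-!
Auxiliary facts for fixed-point-free automorphisms: quotients, the subgroup generated by the
commutators with an automorphism, extension of scalars, and chains with nilpotent factors.
-/

set_option autoImplicit false

open Module

namespace CfsgLib.ShultGross

universe u v w

section Group

variable {G : Type u} [Group G]

theorem exists_quotient_aut [Finite G] (σ : MulAut G) (N : Subgroup G) [N.Normal]
    (hN : ∀ x ∈ N, σ x ∈ N) (hfpf : ∀ g, σ g = g → g = 1) :
    ∃ σ' : MulAut (G ⧸ N), (∀ (i : ℕ) (g : G), (σ' ^ i) g = (((σ ^ i) g : G) : G ⧸ N)) ∧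
      (∀ m : ℕ, σ ^ m = 1 → σ' ^ m = 1) ∧ ∀ q, σ' q = q → q = 1 := by
  have hmap : N.map (σ : G →* G) = N :=
    Subgroup.eq_of_le_of_card_ge (by rintro _ ⟨x, hx, rfl⟩; exact hN x hx)
      (Subgroup.card_map_of_injective (f := (σ : G →* G)) σ.injective).ge
  have hpow : ∀ (i : ℕ) (g : G), ((QuotientGroup.congr N N σ hmap : MulAut (G ⧸ N)) ^ i) g =
      (((σ ^ i) g : G) : G ⧸ N) := by
    intro i
    induction i with
    | zero => simp
    | succ i ih =>
      intro g
      rw [pow_succ', MulAut.mul_apply, ih, pow_succ' σ, MulAut.mul_apply]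
      rfl
  refine ⟨QuotientGroup.congr N N σ hmap, hpow, fun m hm => ?_, ?_⟩
  · ext q
    induction q using QuotientGroup.induction_on with
    | H g => rw [hpow, hm]; rfl
  · intro q
    induction q using QuotientGroup.induction_on with
    | H g =>
      intro hg
      have hg' : g⁻¹ * σ g ∈ N := QuotientGroup.eq.1 hg.symm
      have hinj : Function.Injective (fun a : G => a⁻¹ * σ a) := by
        intro a b hab
        simp only at hab
        have h1 : σ (b * a⁻¹) = b * a⁻¹ := by
          have h2 : σ b = b * (a⁻¹ * σ a) := by rw [hab, mul_inv_cancel_left]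
          rw [map_mul, map_inv, h2]
          group
        exact (mul_inv_eq_one.1 (hfpf _ h1)).symm
      have hinjN : Function.Injective
          (fun a : N => (⟨(a : G)⁻¹ * σ a, mul_mem (inv_mem a.2) (hN _ a.2)⟩ : N)) :=
        fun a b hab => Subtype.ext (hinj (congrArg Subtype.val hab))
      obtain ⟨a, ha⟩ := (Finite.injective_iff_surjective.1 hinjN) ⟨_, hg'⟩
      rw [QuotientGroup.eq_one_iff, ← hinj (congrArg Subtype.val ha)]
      exact a.2

/-- The subgroup generated by the commutators with an automorphism. -/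
def twist (τ : MulAut G) : Subgroup G := Subgroup.closure {y | ∃ x, y = x⁻¹ * τ x}

theorem mem_twist (τ : MulAut G) (x : G) : x⁻¹ * τ x ∈ twist τ := Subgroup.subset_closure ⟨x, rfl⟩

theorem twist_normal (τ : MulAut G) : (twist τ).Normal := by
  refine ⟨fun y hy g => ?_⟩
  refine (show twist τ ≤ (twist τ).comap (MulAut.conj g : G →* G) from
    (Subgroup.closure_le _).2 ?_) hy
  rintro _ ⟨x, rfl⟩
  show g * (x⁻¹ * τ x) * g⁻¹ ∈ twist τ
  have : g * (x⁻¹ * τ x) * g⁻¹ = ((x * g⁻¹)⁻¹ * τ (x * g⁻¹)) * (g⁻¹⁻¹ * τ g⁻¹)⁻¹ := by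
    rw [map_mul]; group
  rw [this]
  exact mul_mem (mem_twist τ _) (inv_mem (mem_twist τ _))

theorem map_twist_le {H : Type v} [Group H] (f : G →* H) (τ : MulAut G) (τ' : MulAut H)
    (h : ∀ x, τ' (f x) = f (τ x)) : (twist τ).map f ≤ twist τ' := by
  rw [Subgroup.map_le_iff_le_comap]
  refine (Subgroup.closure_le _).2 ?_
  rintro _ ⟨x, rfl⟩
  show f (x⁻¹ * τ x) ∈ twist τ'
  rw [map_mul, map_inv, ← h]
  exact mem_twist τ' _

theorem twist_invariant (σ : MulAut G) (τ : MulAut G) (h : ∀ x, τ (σ x) = σ (τ x)) {y : G}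
    (hy : y ∈ twist τ) : σ y ∈ twist τ :=
  map_twist_le (σ : G →* G) τ τ h ⟨y, hy, rfl⟩

end Group

section Scalars

variable (F : Type u) [Field F] (W : Type v) [AddCommGroup W] [Module F W] [FiniteDimensional F W]

/-- Extension of scalars to an algebraic closure, on endomorphism rings. -/
theorem exists_extend_scalars :
    ∃ (m : ℕ) (Θ : Module.End F W →+* Module.End (AlgebraicClosure F) (Fin m → AlgebraicClosure F)),
      Function.Injective Θ := by
  classical
  let b := Module.finBasis F W
  refine ⟨finrank F W, (Matrix.toLinAlgEquiv'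
      (R := AlgebraicClosure F) (n := Fin (finrank F W))).toRingEquiv.toRingHom.comp
    ((algebraMap F (AlgebraicClosure F)).mapMatrix.comp
      (LinearMap.toMatrixAlgEquiv b).toRingEquiv.toRingHom), ?_⟩
  simp only [RingHom.coe_comp]
  exact (AlgEquiv.injective _).comp
    ((Matrix.map_injective (algebraMap F (AlgebraicClosure F)).injective).comp (AlgEquiv.injective _))

end Scalars

/-- Prepending a nilpotent normal subgroup to a chain with nilpotent factors. -/
theorem chain_cons {G : Type u} [Group G] (N : Subgroup G) [N.Normal] (hN : Group.IsNilpotent N)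
    {m : ℕ} (h : ∃ F : Fin (m + 1) → Subgroup (G ⧸ N), F 0 = ⊥ ∧ F (Fin.last m) = ⊤ ∧ Monotone F ∧
      (∀ i, (F i).Normal) ∧ ∀ i : Fin m, ∃ k : ℕ, (F i.succ).lowerCentralSeries k ≤ F i.castSucc) :
    ∃ F : Fin (m + 1 + 1) → Subgroup G, F 0 = ⊥ ∧ F (Fin.last (m + 1)) = ⊤ ∧ Monotone F ∧
      (∀ i, (F i).Normal) ∧
      ∀ i : Fin (m + 1), ∃ k : ℕ, (F i.succ).lowerCentralSeries k ≤ F i.castSucc := by
  obtain ⟨F, h0, hl, hmono, hn, hk⟩ := h
  refine ⟨Fin.cons ⊥ (fun i => (F i).comap (QuotientGroup.mk' N)), by simp, ?_, ?_, ?_, ?_⟩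
  · rw [← Fin.succ_last, Fin.cons_succ, hl, Subgroup.comap_top]
  · intro i j hij
    refine Fin.cases ?_ (fun j' => ?_) j hij
    · intro hij
      rw [Fin.le_zero_iff.1 hij]
    · intro hij
      refine Fin.cases ?_ (fun i' => ?_) i hij
      · intro _; simp
      · intro hij
        simp only [Fin.cons_succ]
        exact Subgroup.comap_mono (hmono (Fin.succ_le_succ_iff.1 hij))
  · intro i
    refine Fin.cases ?_ (fun i' => ?_) i
    · simp only [Fin.cons_zero]; infer_instance
    · simp only [Fin.cons_succ]; exact (hn i').comap _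
  · intro i
    refine Fin.cases ?_ (fun i' => ?_) i
    · obtain ⟨k, hk'⟩ := (Subgroup.isNilpotent_iff_lowerCentralSeries N).1 hN
      refine ⟨k, ?_⟩
      simp only [Fin.castSucc_zero, Fin.cons_zero, Fin.cons_succ]
      rw [h0, MonoidHom.comap_bot, QuotientGroup.ker_mk', hk']
    · obtain ⟨k, hk'⟩ := hk i'
      refine ⟨k, ?_⟩
      simp only [Fin.castSucc_succ, Fin.cons_succ]
      rw [← Subgroup.map_le_iff_le_comap, Subgroup.map_lowerCentralSeries]
      refine le_trans ?_ hk'
      exact Subgroup.lowerCentralSeries_mono k (Subgroup.map_comap_le _ _)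

end CfsgLib.ShultGross
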