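import Mathlib
import Cfsg.Agent.ShultGross.Base

/-!
The faithful module of a minimal invariant normal subgroup, over an algebraically closed field.
-/

set_option autoImplicit false

open Finset Module

namespace CfsgLib.ShultGross

universe u

variable {G : Type u} [Group G] [Finite G]

/-- A minimal invariant normal subgroup of a solvable group is elementary abelian. -/
theorem exists_minimal_invariant [Nontrivial G] (hsolv : Group.IsSolvable G) (σ : MulAut G) :
    ∃ (M : Subgroup G) (r : ℕ), r.Prime ∧ M.Normal ∧ (∀ x ∈ M, σ x ∈ M) ∧ M ≠ ⊥ ∧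
      (∀ x ∈ M, ∀ y ∈ M, x * y = y * x) ∧ (∀ x ∈ M, x ^ r = 1) ∧ r ∣ Nat.card M ∧
      ∀ L : Subgroup G, L.Normal → (∀ x ∈ L, σ x ∈ L) → L ≤ M → L ≠ M → L = ⊥ := by
  haveI := hsolv
  obtain ⟨M, ⟨hMn, hMi, hMb⟩, hmin⟩ := (wellFounded_lt (α := Subgroup G)).has_min
    {M | M.Normal ∧ (∀ x ∈ M, σ x ∈ M) ∧ M ≠ ⊥} ⟨⊤, inferInstance, fun _ _ => trivial, top_ne_bot⟩
  haveI := hMn
  have hmineq : ∀ L : Subgroup G, L.Normal → (∀ x ∈ L, σ x ∈ L) → L ≤ M → L ≠ M → L = ⊥ :=
    fun L h1 h2 h3 h4 => by_contra fun h5 => hmin L ⟨h1, h2, h5⟩ (lt_of_le_of_ne h3 h4)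
  have hlt := Group.IsSolvable.commutator_lt_of_ne_bot hMb
  have hMM : ⁅M, M⁆ = ⊥ := by
    refine hmineq _ inferInstance (fun k hk => ?_) hlt.le hlt.ne
    have h1 : ⁅M, M⁆.map (σ : G →* G) ≤ ⁅M, M⁆ := by
      rw [Subgroup.map_commutator]
      have : M.map (σ : G →* G) ≤ M := by
        rintro _ ⟨y, hy, rfl⟩
        exact hMi y hy
      exact Subgroup.commutator_mono this this
    exact h1 ⟨k, hk, rfl⟩
  have hMab : ∀ x ∈ M, ∀ y ∈ M, x * y = y * x := fun x hx y hy => by
    have := Subgroup.commutator_mem_commutator hx hy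
    rw [hMM, Subgroup.mem_bot, commutatorElement_eq_one_iff_mul_comm] at this
    exact this
  haveI : Nontrivial M := (Subgroup.nontrivial_iff_ne_bot M).2 hMb
  set r := (Nat.card M).minFac
  have hr' : r.Prime := Nat.minFac_prime Finite.one_lt_card.ne'
  haveI := Fact.mk hr'
  let Ω : Subgroup G :=
    { carrier := {x | x ∈ M ∧ x ^ r = 1}
      one_mem' := ⟨one_mem _, one_pow _⟩
      mul_mem' := fun {x y} (hx : _ ∧ _) (hy : _ ∧ _) => ⟨mul_mem hx.1 hy.1, by
        rw [Commute.mul_pow (hMab x hx.1 y hy.1), hx.2, hy.2, one_mul]⟩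
      inv_mem' := fun {x} (hx : _ ∧ _) => ⟨inv_mem hx.1, by rw [inv_pow, hx.2, inv_one]⟩ }
  have hΩ : Ω = M := by
    by_contra hne
    have hb := hmineq Ω
      ⟨fun x hx g => ⟨hMn.conj_mem x hx.1 g, by rw [conj_pow, hx.2, mul_one, mul_inv_cancel]⟩⟩
      (fun x hx => ⟨hMi x hx.1, by rw [← map_pow, hx.2, map_one]⟩) (fun x hx => hx.1) hne
    obtain ⟨x, hx⟩ := exists_prime_orderOf_dvd_card' (G := M) r (Nat.minFac_dvd _)
    have : (x : G) ∈ Ω := ⟨x.2, by
      have := pow_orderOf_eq_one x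
      rw [hx] at this
      exact congrArg Subtype.val this⟩
    rw [hb, Subgroup.mem_bot] at this
    have hx1 : x = 1 := Subtype.ext this
    rw [hx1, orderOf_one] at hx
    exact hr'.one_lt.ne hx
  exact ⟨M, r, hr', hMn, hMi, hMb, hMab, fun x hx => (hΩ.ge hx).2, Nat.minFac_dvd _, hmineq⟩

theorem exists_end_embedding {r : ℕ} [Fact r.Prime] (B : Type u) [AddCommGroup B] [Finite B]
    [Module (ZMod r) B] :
    ∃ (m : ℕ) (Θ : AddMonoid.End B →+* Module.End (AlgebraicClosure (ZMod r))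
        (Fin m → AlgebraicClosure (ZMod r))), Function.Injective Θ := by
  have hfd : Module.Finite (ZMod r) B := Module.Finite.of_finite
  obtain ⟨m, Θ, hΘ⟩ := exists_extend_scalars (ZMod r) B
  let L : AddMonoid.End B →+* Module.End (ZMod r) B :=
    { toFun := fun f =>
        { toFun := f
          map_add' := fun x y => map_add f x y
          map_smul' := fun c x => ZMod.map_smul f c x }
      map_one' := LinearMap.ext fun _ => rfl
      map_mul' := fun _ _ => LinearMap.ext fun _ => rfl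
      map_zero' := LinearMap.ext fun _ => rfl
      map_add' := fun _ _ => LinearMap.ext fun _ => rfl }
  refine ⟨m, Θ.comp L, hΘ.comp fun f g h => ?_⟩
  exact AddMonoidHom.ext fun x => LinearMap.congr_fun h x

/-- An elementary abelian `r`-group as a module over an algebraically closed field. -/
theorem exists_operators {r : ℕ} [Fact r.Prime] (W : Type u) [CommGroup W] [Finite W]
    (hexp : ∀ w : W, w ^ r = 1) :
    ∃ (m : ℕ) (Φ : MulAut W →* Module.End (AlgebraicClosure (ZMod r))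
        (Fin m → AlgebraicClosure (ZMod r))), Function.Injective Φ ∧
      ∀ (f : MulAut W) (N : ℕ), (∀ w, ∏ i ∈ range N, (f ^ i) w = 1) →
        ∑ i ∈ range N, Φ f ^ i = 0 := by
  obtain ⟨m, Θ, hΘ⟩ := @exists_end_embedding r _ (Additive W) _ _
    (AddCommGroup.zmodModule fun v : Additive W => hexp v.toMul)
  let toEnd : MulAut W →* AddMonoid.End (Additive W) :=
    { toFun := fun f => MonoidHom.toAdditive f.toMonoidHom
      map_one' := AddMonoidHom.ext fun _ => rfl
      map_mul' := fun _ _ => AddMonoidHom.ext fun _ => rfl }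
  refine ⟨m, Θ.toMonoidHom.comp toEnd, hΘ.comp fun f g h => ?_, fun f N hf => ?_⟩
  · ext x
    exact congrArg (fun k : AddMonoid.End (Additive W) => Additive.toMul (k (Additive.ofMul x))) h
  · show ∑ i ∈ range N, Θ (toEnd f) ^ i = 0
    simp only [← map_pow]
    rw [← map_sum]
    refine (congrArg Θ (AddMonoidHom.ext fun v => ?_)).trans (map_zero Θ)
    have hev : (∑ i ∈ range N, toEnd (f ^ i)) v =
        ∑ i ∈ range N, Additive.ofMul ((f ^ i) (Additive.toMul v)) :=
      map_sum (AddMonoidHom.eval v) (fun i => toEnd (f ^ i)) (range N)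
    refine hev.trans ?_
    rw [← ofMul_prod, hf]
    rfl

/-- The module data attached to an invariant elementary abelian normal subgroup `M` with
centraliser `C`. -/
theorem exists_module {r : ℕ} [Fact r.Prime] (σ : MulAut G) (hfpf : ∀ g, σ g = g → g = 1) {N : ℕ}
    (hσ : σ ^ N = 1) (M : Subgroup G) [M.Normal] (hMi : ∀ x ∈ M, σ x ∈ M)
    (hMab : ∀ x ∈ M, ∀ y ∈ M, x * y = y * x) (hexp : ∀ x ∈ M, x ^ r = 1) (C : Subgroup G)
    [C.Normal] (hC : ∀ g, g ∈ C ↔ ∀ x ∈ M, g * x = x * g) :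
    ∃ (m : ℕ) (ψ : G ⧸ C →* Module.End (AlgebraicClosure (ZMod r))
        (Fin m → AlgebraicClosure (ZMod r))) (s : Module.End (AlgebraicClosure (ZMod r))
        (Fin m → AlgebraicClosure (ZMod r))),
      Function.Injective ψ ∧ s ^ N = 1 ∧
      (∀ g : G, s * ψ (g : G ⧸ C) = ψ ((σ g : G) : G ⧸ C) * s) ∧ ∑ i ∈ range N, s ^ i = 0 := by
  letI : CommGroup M := { (inferInstance : Group M) with
    mul_comm := fun x y => Subtype.ext (hMab x x.2 y y.2) }
  obtain ⟨m, Φ, hΦ, hΦsum⟩ := exists_operators (r := r) M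
    (fun v => Subtype.ext (hexp _ v.2))
  let c : G →* MulAut M := MulAut.conjNormal
  have hker : C ≤ c.ker := by
    intro g hg
    rw [MonoidHom.mem_ker]
    ext x
    show g * (x : G) * g⁻¹ = x
    rw [(hC g).1 hg x x.2, mul_inv_cancel_right]
  have hker' : ∀ g, c g = 1 → g ∈ C := by
    intro g hg
    rw [hC]
    intro x hx
    have := congrArg (fun f : MulAut M => ((f ⟨x, hx⟩ : M) : G)) hg
    exact mul_inv_eq_iff_eq_mul.1 this
  let σM : MulAut M := MulEquiv.ofBijective
    ({ toFun := fun x => ⟨σ x, hMi _ x.2⟩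
       map_one' := Subtype.ext (map_one σ)
       map_mul' := fun x y => Subtype.ext (map_mul σ _ _) } : M →* M)
    (Finite.injective_iff_bijective.1 fun x y h =>
      Subtype.ext (σ.injective (congrArg Subtype.val h)))
  have hσM : ∀ (i : ℕ) (x : M), (((σM ^ i) x : M) : G) = (σ ^ i) x := by
    intro i
    induction i with
    | zero => intro x; simp
    | succ i ih =>
      intro x
      rw [pow_succ', MulAut.mul_apply, pow_succ' σ, MulAut.mul_apply, ← ih]
      rfl
  refine ⟨m, QuotientGroup.lift C (Φ.comp c)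
    (fun g hg => MonoidHom.mem_ker.2 (by
      show Φ (c g) = 1
      rw [MonoidHom.mem_ker.1 (hker hg), map_one])), Φ σM, ?_, ?_, ?_, ?_⟩
  · intro a b h
    induction a using QuotientGroup.induction_on with
    | H a =>
      induction b using QuotientGroup.induction_on with
      | H b =>
        have h1 : c a = c b := hΦ h
        refine QuotientGroup.eq.2 (hker' _ ?_)
        rw [map_mul, map_inv, h1, inv_mul_cancel]
  · rw [← map_pow, show σM ^ N = 1 from MulEquiv.ext fun x => Subtype.ext (by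
      rw [hσM, hσ, MulAut.one_apply, MulAut.one_apply]), map_one]
  · intro g
    show Φ σM * Φ (c g) = Φ (c (σ g)) * Φ σM
    rw [← map_mul, ← map_mul]
    congr 1
    ext x
    show σ (g * x * g⁻¹) = σ g * σ x * (σ g)⁻¹
    simp
  · refine hΦsum σM N fun v => Subtype.ext (hfpf _ ?_)
    have hh := Finset.prod_range_succ' (fun i => (σM ^ i) v) N
    have hN1 : σM ^ N = σM ^ 0 := MulEquiv.ext fun x => Subtype.ext (by rw [hσM, hσ]; simp)
    rw [Finset.prod_range_succ, hN1] at hh
    show ((σM (∏ i ∈ range N, (σM ^ i) v) : M) : G) = _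
    rw [map_prod]
    conv_rhs => rw [mul_right_cancel hh]
    refine congrArg Subtype.val (Finset.prod_congr rfl fun i _ => ?_)
    rw [pow_succ', MulAut.mul_apply]

/-- The faithful quotient has no invariant normal `r`-subgroup. -/
theorem core_eq_bot {r : ℕ} [Fact r.Prime] (σ : MulAut G) (M : Subgroup G) [M.Normal]
    (hMi : ∀ x ∈ M, σ x ∈ M) (hMb : r ∣ Nat.card M)
    (hmin : ∀ L : Subgroup G, L.Normal → (∀ x ∈ L, σ x ∈ L) → L ≤ M → L ≠ M → L = ⊥)
    (C : Subgroup G) [C.Normal] (hC : ∀ g, g ∈ C ↔ ∀ x ∈ M, g * x = x * g)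
    (P : Subgroup (G ⧸ C)) (hPn : P.Normal) (σC : MulAut (G ⧸ C))
    (hσC : ∀ g : G, σC (g : G ⧸ C) = ((σ g : G) : G ⧸ C)) (hPi : ∀ x ∈ P, σC x ∈ P)
    (hP : IsPGroup r P) : P = ⊥ := by
  let ψ₀ : G ⧸ C →* MulAut M := QuotientGroup.lift C MulAut.conjNormal fun g hg => by
    rw [MonoidHom.mem_ker]
    ext x
    show g * (x : G) * g⁻¹ = x
    rw [(hC g).1 hg x x.2, mul_inv_cancel_right]
  letI : MulAction P M := MulAction.compHom M (ψ₀.comp P.subtype)
  have hone : (1 : M) ∈ MulAction.fixedPoints P M := fun x => map_one (ψ₀ (x : G ⧸ C))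
  obtain ⟨v, hv, hv1⟩ := hP.exists_fixed_point_of_prime_dvd_card_of_fixed_point M hMb hone
  let W : Subgroup G :=
    { carrier := {w | ∃ h : w ∈ M, ∀ x ∈ P, ψ₀ x ⟨w, h⟩ = ⟨w, h⟩}
      one_mem' := ⟨one_mem _, fun x _ => map_one (ψ₀ x)⟩
      mul_mem' := fun {y z} ⟨hy, hy'⟩ ⟨hz, hz'⟩ => ⟨mul_mem hy hz, fun x hx => by
        have := map_mul (ψ₀ x) ⟨y, hy⟩ ⟨z, hz⟩
        rw [hy' x hx, hz' x hx] at this
        exact this⟩
      inv_mem' := fun {y} ⟨hy, hy'⟩ => ⟨inv_mem hy, fun x hx => by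
        have := map_inv (ψ₀ x) ⟨y, hy⟩
        rw [hy' x hx] at this
        exact this⟩ }
  have hW : W = M := by
    by_contra hne
    have hWn : W.Normal := by
      constructor
      rintro w ⟨hw, hw'⟩ g
      refine ⟨(inferInstance : M.Normal).conj_mem w hw g, fun x hx => ?_⟩
      induction x using QuotientGroup.induction_on with
      | H k =>
        have h1 : ((g⁻¹ * k * g : G) : G ⧸ C) ∈ P := by
          have := hPn.conj_mem _ hx ((g⁻¹ : G) : G ⧸ C)
          rw [show g⁻¹ * k * g = g⁻¹ * k * g⁻¹⁻¹ by rw [inv_inv]]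
          exact this
        have h2 : g⁻¹ * k * g * w * (g⁻¹ * k * g)⁻¹ = w := congrArg Subtype.val (hw' _ h1)
        refine Subtype.ext ?_
        show k * (g * w * g⁻¹) * k⁻¹ = g * w * g⁻¹
        calc k * (g * w * g⁻¹) * k⁻¹ = g * (g⁻¹ * k * g * w * (g⁻¹ * k * g)⁻¹) * g⁻¹ := by group
          _ = _ := by rw [h2]
    have hb := hmin W hWn ?_ (fun w hw => hw.1) hne
    · exact hv1 (Subtype.ext (Subgroup.mem_bot.1
        (hb ▸ (⟨v.2, fun x hx => hv ⟨x, hx⟩⟩ : (v : G) ∈ W)))).symm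
    · rintro w ⟨hw, hw'⟩
      refine ⟨hMi w hw, fun x hx => ?_⟩
      have hbij : Function.Bijective (fun y : P => (⟨σC y, hPi _ y.2⟩ : P)) :=
        Finite.injective_iff_bijective.1 fun a b h =>
          Subtype.ext (σC.injective (congrArg Subtype.val h))
      obtain ⟨⟨y, hy⟩, hyx⟩ := hbij.2 ⟨x, hx⟩
      have hyx' : σC y = x := congrArg Subtype.val hyx
      subst hyx'
      induction y using QuotientGroup.induction_on with
      | H k =>
        have h2 : k * w * k⁻¹ = w := congrArg Subtype.val (hw' _ hy)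
        refine Subtype.ext ?_
        conv_lhs => rw [show (ψ₀ (σC (k : G ⧸ C))) = ψ₀ ((σ k : G) : G ⧸ C) from by rw [hσC]]
        show σ k * σ w * (σ k)⁻¹ = σ w
        rw [← map_inv, ← map_mul, ← map_mul, h2]
  rw [Subgroup.eq_bot_iff_forall]
  intro x hx
  induction x using QuotientGroup.induction_on with
  | H k =>
    rw [QuotientGroup.eq_one_iff, hC]
    intro w hw
    obtain ⟨hwM, hw'⟩ := hW.ge hw
    exact mul_inv_eq_iff_eq_mul.1 (congrArg Subtype.val (hw' _ hx))

end CfsgLib.ShultGross
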