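import Mathlib

/-!
Arithmetic and permutation counting for the exceptional configuration `2 ^ m + 1 = p ^ k`.
-/

set_option autoImplicit false

namespace CfsgLib.ShultGross

theorem two_mul_mul_dvd_of_pow_dvd {p m k n e : ℕ} [hp : Fact p.Prime] (hp2 : p ≠ 2) (hk : 1 ≤ k)
    (hkn : k ≤ n) (hm : 2 ^ m + 1 = p ^ k) (h : p ^ n ∣ 2 ^ e - 1) :
    2 * m * p ^ (n - k) ∣ e := by
  have hp3 : 3 ≤ p := by have := hp.out.two_le; omega
  have hpk : 3 ≤ p ^ k := hp3.trans (Nat.le_self_pow (by omega) p)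
  have hm1 : 1 ≤ m := by
    rcases Nat.eq_zero_or_pos m with rfl | h'
    · simp only [pow_zero] at hm; omega
    · exact h'
  have hk' : p ^ k ∣ 2 ^ e - 1 := (pow_dvd_pow p hkn).trans h
  -- reduce the exponent modulo `2 m`
  have h2m : p ^ k ∣ 2 ^ (2 * m) - 1 := by
    refine ⟨2 ^ m - 1, ?_⟩
    rw [← hm, ← Nat.sq_sub_sq, one_pow, ← pow_mul, mul_comm m 2]
  have hone : ∀ t, p ^ k ∣ 2 ^ (2 * m * t) - 1 := fun t =>
    h2m.trans (by simpa using Nat.pow_sub_pow_dvd_pow_sub_pow 2 1 (dvd_mul_right (2 * m) t))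
  obtain ⟨t, r, hr, rfl⟩ : ∃ t r, r < 2 * m ∧ e = 2 * m * t + r :=
    ⟨e / (2 * m), e % (2 * m), Nat.mod_lt _ (by omega), (Nat.div_add_mod e (2 * m)).symm⟩
  have hr1 : p ^ k ∣ 2 ^ r - 1 := by
    have h1 : 2 ^ (2 * m * t + r) - 1 = 2 ^ r * (2 ^ (2 * m * t) - 1) + (2 ^ r - 1) := by
      have ha : 1 ≤ 2 ^ (2 * m * t) := Nat.one_le_two_pow
      have hb : 1 ≤ 2 ^ r := Nat.one_le_two_pow
      have hc : 2 ^ r ≤ 2 ^ r * 2 ^ (2 * m * t) := Nat.le_mul_of_pos_right _ ha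
      rw [Nat.mul_sub, mul_one, pow_add, mul_comm (2 ^ (2 * m * t))]
      omega
    rw [h1] at hk'
    exact (Nat.dvd_add_right (dvd_mul_of_dvd_right (hone t) _)).1 hk'
  have hr0 : r = 0 := by
    by_contra hr0
    have hb : 2 ≤ 2 ^ r := Nat.le_self_pow hr0 2
    rcases Nat.lt_or_ge r m with hlt | hge
    · have hlt' : 2 ^ r < 2 ^ m := Nat.pow_lt_pow_right (by norm_num) hlt
      have := Nat.le_of_dvd (by omega) hr1
      omega
    · obtain ⟨j, rfl⟩ : ∃ j, r = m + j := ⟨r - m, by omega⟩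
      have hj : j < m := by omega
      have hj' : 2 * 2 ^ j ≤ 2 ^ m := by
        rw [← pow_succ']; exact Nat.pow_le_pow_right (by norm_num) hj
      have h1 : 2 ^ (m + j) - 1 + (2 ^ j + 1) = p ^ k * 2 ^ j := by
        have : 1 ≤ 2 ^ (m + j) := Nat.one_le_two_pow
        rw [← hm, add_mul, one_mul, ← pow_add]
        omega
      have h2 : p ^ k ∣ 2 ^ j + 1 := (Nat.dvd_add_right hr1).1 (h1 ▸ dvd_mul_right _ _)
      have := Nat.le_of_dvd (by omega) h2
      have : 1 ≤ 2 ^ j := Nat.one_le_two_pow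
      omega
  subst hr0
  rw [add_zero] at h ⊢
  rcases Nat.eq_zero_or_pos t with rfl | ht
  · simp
  refine Nat.mul_dvd_mul_left _ ?_
  set y := 2 ^ (2 * m) with hy
  have hy1 : 1 < y := Nat.one_lt_two_pow (by omega)
  have hm2 : 2 ≤ 2 ^ m := Nat.le_self_pow (by omega) 2
  have hyval : y - 1 = p ^ k * (2 ^ m - 1) := by
    rw [← hm, ← Nat.sq_sub_sq, one_pow, hy, ← pow_mul, mul_comm m 2]
  have hpm : ¬ p ∣ 2 ^ m - 1 := by
    intro hd
    have h1 : p ∣ p ^ k := dvd_pow_self p (by omega)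
    have h2 : p ∣ 2 := by
      have h3 := Nat.dvd_sub h1 hd
      rwa [← hm, show 2 ^ m + 1 - (2 ^ m - 1) = 2 by omega] at h3
    exact hp2 ((Nat.prime_dvd_prime_iff_eq hp.out Nat.prime_two).1 h2)
  have hv : padicValNat p (y - 1) = k := by
    rw [hyval, padicValNat.mul (by positivity) (by omega), padicValNat.prime_pow,
      padicValNat.eq_zero_of_not_dvd hpm, add_zero]
  have hpy : ¬ p ∣ y := by
    intro hd
    exact hp2 ((Nat.prime_dvd_prime_iff_eq hp.out Nat.prime_two).1 (hp.out.dvd_of_dvd_pow hd))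
  have hdy : p ∣ y - 1 := (dvd_pow_self p (by omega)).trans ⟨_, hyval⟩
  have hlte := padicValNat.pow_sub_pow (p := p) (x := y) (y := 1)
    (hp.out.odd_of_ne_two hp2) hy1 hdy hpy (n := t) ht.ne'
  rw [one_pow, hv] at hlte
  rw [pow_mul] at h
  have hne : y ^ t - 1 ≠ 0 := by
    have := Nat.one_lt_pow ht.ne' hy1
    omega
  have h3 := (padicValNat_dvd_iff_le hne).1 h
  exact (padicValNat_dvd_iff_le ht.ne').2 (by omega)

/-- A permutation of order dividing `N` moving all points but `w₀` semiregularly. -/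
theorem dvd_card_sub_one {W : Type*} [Finite W] {N : ℕ} (hN : 0 < N) (π : Equiv.Perm W) (w₀ : W)
    (hπ : π ^ N = 1) (hπ₀ : π w₀ = w₀)
    (hfree : ∀ i ∈ Finset.Ico 1 N, ∀ w, w ≠ w₀ → (π ^ i) w ≠ w) : N ∣ Nat.card W - 1 := by
  classical
  cases nonempty_fintype W
  rcases subsingleton_or_nontrivial W with hW | hW
  · haveI : Unique W := ⟨⟨w₀⟩, fun a => Subsingleton.elim a w₀⟩
    simp
  obtain ⟨w₁, hw₁⟩ := exists_ne w₀
  have hord : orderOf π = N := by
    refine Nat.le_antisymm (orderOf_le_of_pow_eq_one hN hπ) ?_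
    by_contra! hlt
    refine hfree _ (Finset.mem_Ico.2 ⟨orderOf_pos π, hlt⟩) w₁ hw₁ ?_
    rw [pow_orderOf_eq_one]
    rfl
  have hfix : ∀ g ∈ Subgroup.zpowers π, g w₀ = w₀ := by
    rintro g ⟨i, rfl⟩
    exact Equiv.Perm.zpow_apply_eq_self_of_apply_eq_self hπ₀ i
  letI : MulAction (Subgroup.zpowers π) {w : W // w ≠ w₀} :=
    { smul := fun g w => ⟨(g : Equiv.Perm W) w, fun h => w.2
        ((g : Equiv.Perm W).injective (h.trans (hfix _ g.2).symm))⟩
      one_smul := fun w => Subtype.ext rfl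
      mul_smul := fun g h w => Subtype.ext rfl }
  have hstab : ∀ b : {w : W // w ≠ w₀}, MulAction.stabilizer (Subgroup.zpowers π) b = ⊥ := by
    intro b
    rw [Subgroup.eq_bot_iff_forall]
    rintro ⟨g, hg⟩ hgb
    rw [← mem_powers_iff_mem_zpowers, Submonoid.mem_powers_iff] at hg
    obtain ⟨i, rfl⟩ := hg
    have h1 : (π ^ i) b.1 = b.1 := congrArg Subtype.val hgb
    apply Subtype.ext
    show π ^ i = 1
    rw [← pow_mod_orderOf, hord] at h1 ⊢
    rcases Nat.eq_zero_or_pos (i % N) with h0 | h0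
    · rw [h0, pow_zero]
    · exact absurd h1 (hfree _ (Finset.mem_Ico.2 ⟨h0, Nat.mod_lt _ hN⟩) _ b.2)
  have hcard := Nat.card_congr (MulAction.selfEquivOrbitsQuotientProd hstab)
  rw [Nat.card_prod, Nat.card_zpowers, hord] at hcard
  have h2 : Nat.card {w : W // w ≠ w₀} = Nat.card W - 1 := by
    rw [Nat.card_eq_fintype_card, Nat.card_eq_fintype_card]
    simp
  rw [← h2, hcard]
  exact dvd_mul_left _ _

end CfsgLib.ShultGross
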