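import Mathlib

/-!
Counting eigenvalue multiplicities: an operator of finite order permuting a monomial basis of the
endomorphism ring without fixed points misses an eigenvalue only in the exceptional configuration.
-/

set_option autoImplicit false

open Finset Module

namespace CfsgLib.ShultGross

universe u v w

variable {K : Type u} [Field K] {V : Type v} [AddCommGroup V] [Module K V]
  [FiniteDimensional K V]

theorem finrank_centralizer_le {N : ℕ} (hN : (N : K) ≠ 0) (s : Module.End K V) (hs : s ^ N = 1)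
    {W : Type w} [Finite W] (e : W → Module.End K V)
    (hspan : Submodule.span K (Set.range e) = ⊤) (w₀ : W) (π : Equiv.Perm W)
    (hmove : ∀ w, ∃ c : K, s * e w = c • (e (π w) * s))
    (hπ₀ : π w₀ = w₀) (hfree : ∀ i ∈ Finset.Ico 1 N, ∀ w, w ≠ w₀ → (π ^ i) w ≠ w) :
    (finrank K (LinearMap.ker (LinearMap.mulLeft K s - LinearMap.mulRight K s)) - 1) * N
      ≤ Nat.card W - 1 := by
  classical
  cases nonempty_fintype W
  have hN0 : 0 < N := Nat.pos_of_ne_zero fun h => hN (by rw [h, Nat.cast_zero])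
  let Φ : Module.End K (Module.End K V) :=
    ∑ i ∈ range N, LinearMap.mulLeft K (s ^ i) * LinearMap.mulRight K (s ^ (N - i))
  have hΦ : ∀ X, Φ X = ∑ i ∈ range N, s ^ i * X * s ^ (N - i) := fun X => by
    simp [Φ, mul_assoc]
  have hΦconj : ∀ X, Φ (s * X * s ^ (N - 1)) = Φ X := by
    intro X
    have hterm : ∀ i ∈ range N, s ^ i * (s * X * s ^ (N - 1)) * s ^ (N - i)
        = s ^ (i + 1) * X * s ^ (N - (i + 1)) := by
      intro i hi
      rw [Finset.mem_range] at hi
      have : s ^ (N - 1) * s ^ (N - i) = s ^ (N - (i + 1)) := by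
        rw [← pow_add, show N - 1 + (N - i) = N + (N - (i + 1)) by omega, pow_add, hs, one_mul]
      rw [pow_succ s i]
      simp only [mul_assoc]
      rw [this]
    rw [hΦ, hΦ, Finset.sum_congr rfl hterm]
    have hsucc := Finset.sum_range_succ' (fun i => s ^ i * X * s ^ (N - i)) N
    rw [Finset.sum_range_succ, Nat.sub_self, Nat.sub_zero, hs, pow_zero, one_mul, mul_one]
      at hsucc
    exact (add_right_cancel hsucc).symm
  have hrel : ∀ m w, ∃ c : K, Φ (e w) = c • Φ (e ((π ^ m) w)) := by
    intro m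
    induction m with
    | zero => exact fun w => ⟨1, by simp⟩
    | succ m ih =>
      intro w
      obtain ⟨c, hc⟩ := ih w
      obtain ⟨c', hc'⟩ := hmove ((π ^ m) w)
      refine ⟨c * c', ?_⟩
      rw [hc, ← hΦconj (e ((π ^ m) w)), hc', smul_mul_assoc, mul_assoc, ← pow_succ',
        Nat.sub_add_cancel hN0, hs, mul_one, map_smul, smul_smul, pow_succ', Equiv.Perm.mul_apply]
  have hle : LinearMap.ker (LinearMap.mulLeft K s - LinearMap.mulRight K s) ≤
      Submodule.span K (Set.range fun w => Φ (e w)) := by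
    intro X hX
    have hcomm : Commute s X := by
      show s * X = X * s
      simpa [LinearMap.mem_ker, sub_eq_zero] using hX
    have hval : Φ X = (N : K) • X := by
      rw [hΦ, Finset.sum_congr rfl (fun i hi => ?_), Finset.sum_const, card_range,
        Nat.cast_smul_eq_nsmul]
      rw [Finset.mem_range] at hi
      rw [(hcomm.pow_left i).eq, mul_assoc, ← pow_add, Nat.add_sub_cancel' hi.le, hs, mul_one]
    have hmem : Φ X ∈ Submodule.span K (Set.range fun w => Φ (e w)) := by
      have : Φ X ∈ (Submodule.span K (Set.range e)).map Φ :=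
        Submodule.mem_map_of_mem (hspan ▸ Submodule.mem_top)
      rwa [Submodule.map_span, ← Set.range_comp] at this
    rw [hval] at hmem
    simpa [smul_smul, inv_mul_cancel₀ hN] using Submodule.smul_mem _ (N : K)⁻¹ hmem
  obtain ⟨κ, a, ha, hspan', hli⟩ := exists_linearIndependent' K (fun w => Φ (e w))
  have : Finite κ := Finite.of_injective a ha
  cases nonempty_fintype κ
  have hdim : finrank K (LinearMap.ker (LinearMap.mulLeft K s - LinearMap.mulRight K s)) ≤
      Nat.card κ := by
    refine (Submodule.finrank_mono hle).trans ?_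
    rw [← hspan', finrank_span_eq_card hli, Nat.card_eq_fintype_card]
  refine le_trans (Nat.mul_le_mul_right N (Nat.sub_le_sub_right hdim 1)) ?_
  let f : {k : κ // a k ≠ w₀} × Fin N → {w : W // w ≠ w₀} := fun x =>
    ⟨(π ^ (x.2 : ℕ)) (a x.1), fun h => x.1.2 ((π ^ (x.2 : ℕ)).injective (by
      rw [h, Equiv.Perm.pow_apply_eq_self_of_apply_eq_self hπ₀]))⟩
  have hord : ∀ (k k' : {k : κ // a k ≠ w₀}) (i j : Fin N), (i : ℕ) ≤ j →
      (π ^ (i : ℕ)) (a k) = (π ^ (j : ℕ)) (a k') → (k, i) = (k', j) := by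
    rintro ⟨k, hk⟩ ⟨k', hk'⟩ i j hij h'
    have e1 : a k = (π ^ ((j : ℕ) - i)) (a k') := by
      apply (π ^ (i : ℕ)).injective
      rw [h', ← Equiv.Perm.mul_apply, ← pow_add, Nat.add_sub_cancel' hij]
    obtain ⟨c, hc⟩ := hrel ((j : ℕ) - i) (a k')
    rw [← e1] at hc
    have hkk : k' = k := hli.eq_of_smul_apply_eq_smul_apply (i := k') (j := k) (1 : K) c
      one_ne_zero (by rw [one_smul]; exact hc)
    subst hkk
    have hij' : i = j := Fin.ext (by
      by_contra hne
      exact hfree _ (Finset.mem_Ico.2 ⟨by omega, by omega⟩) _ hk' e1.symm)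
    subst hij'
    rfl
  have hf : Function.Injective f := by
    rintro ⟨k, i⟩ ⟨k', j⟩ h
    rcases le_total (i : ℕ) j with hij | hij
    · exact hord k k' i j hij (congrArg Subtype.val h)
    · exact (hord k' k j i hij (congrArg Subtype.val h).symm).symm
  have hcard := Nat.card_le_card_of_injective f hf
  rw [Nat.card_prod, Nat.card_eq_fintype_card (α := Fin N), Fintype.card_fin] at hcard
  have h1 : Nat.card κ - 1 ≤ Nat.card {k : κ // a k ≠ w₀} := by
    have hsub : Nat.card {k : κ // a k = w₀} ≤ 1 := by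
      rw [Finite.card_le_one_iff_subsingleton]
      exact ⟨fun x y => Subtype.ext (ha (x.2.trans y.2.symm))⟩
    have := Nat.card_congr (Equiv.sumCompl fun k => a k = w₀)
    rw [Nat.card_sum] at this
    simp only [ne_eq] at *
    omega
  have h2 : Nat.card {w : W // w ≠ w₀} = Nat.card W - 1 := by
    rw [Nat.card_eq_fintype_card, Nat.card_eq_fintype_card]
    simp
  calc (Nat.card κ - 1) * N ≤ Nat.card {k : κ // a k ≠ w₀} * N := Nat.mul_le_mul_right N h1
    _ ≤ _ := h2 ▸ hcard

variable [IsAlgClosed K]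

/-- If an operator with fixed-point-free monomial action misses the eigenvalue `1`, its dimension
is one less than its order and every other eigenvalue occurs. -/
theorem eigen_count {N : ℕ} (hN : (N : K) ≠ 0) (s : Module.End K V) (hs : s ^ N = 1)
    (hT : ∑ i ∈ range N, s ^ i = 0) {W : Type w} [Finite W]
    (hW : Nat.card W = finrank K V ^ 2) (e : W → Module.End K V)
    (hspan : Submodule.span K (Set.range e) = ⊤) (w₀ : W) (π : Equiv.Perm W)
    (hmove : ∀ w, ∃ c : K, s * e w = c • (e (π w) * s))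
    (hπ₀ : π w₀ = w₀) (hfree : ∀ i ∈ Finset.Ico 1 N, ∀ w, w ≠ w₀ → (π ^ i) w ≠ w)
    (hd : 2 ≤ finrank K V) :
    finrank K V + 1 = N ∧ ∀ ζ : K, ζ ^ N = 1 → ζ ≠ 1 → ∃ v, v ≠ 0 ∧ s v = ζ • v := by
  classical
  have hN0 : 0 < N := Nat.pos_of_ne_zero fun h => hN (by rw [h, Nat.cast_zero])
  set S := (Polynomial.nthRootsFinset N (1 : K)).erase 1 with hS
  have hScard : S.card ≤ N - 1 := by
    have h1 : (1 : K) ∈ Polynomial.nthRootsFinset N (1 : K) := by
      rw [Polynomial.mem_nthRootsFinset hN0, one_pow]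
    rw [hS, Finset.card_erase_of_mem h1]
    refine Nat.sub_le_sub_right ?_ 1
    rw [Polynomial.nthRootsFinset_def]
    exact (Multiset.toFinset_card_le _).trans (Polynomial.card_nthRoots N (1 : K))
  have hnone : ∀ μ : K, μ ∉ S → s.eigenspace μ = ⊥ := by
    intro μ hμ
    rw [Submodule.eq_bot_iff]
    intro v hv
    rw [Module.End.mem_eigenspace_iff] at hv
    by_contra hv0
    have hpow : ∀ i : ℕ, (s ^ i) v = μ ^ i • v := by
      intro i
      induction i with
      | zero => simp
      | succ i ih => rw [pow_succ' s, Module.End.mul_apply, ih, map_smul, hv, smul_smul, ← pow_succ]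
    have hμN : μ ^ N = 1 := by
      have h := hpow N
      rw [hs, Module.End.one_apply] at h
      by_contra hne
      have h' : (μ ^ N - 1) • v = 0 := by rw [sub_smul, one_smul, ← h, sub_self]
      rcases smul_eq_zero.1 h' with h'' | h''
      · exact hne (sub_eq_zero.1 h'')
      · exact hv0 h''
    have hμ1 : μ = 1 := by
      by_contra hne
      exact hμ (Finset.mem_erase.2 ⟨hne, (Polynomial.mem_nthRootsFinset hN0 1).2 hμN⟩)
    have hz := LinearMap.congr_fun hT v
    rw [LinearMap.sum_apply] at hz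
    simp only [hpow, hμ1, one_pow, one_smul, Finset.sum_const, card_range, LinearMap.zero_apply,
      ← Nat.cast_smul_eq_nsmul K] at hz
    rcases smul_eq_zero.1 hz with h | h
    · exact hN h
    · exact hv0 h
  have hss : s.IsSemisimple := by
    refine Module.End.isSemisimple_of_squarefree_aeval_eq_zero
      (p := Polynomial.X ^ N - Polynomial.C (1 : K)) ?_ ?_
    · exact (Polynomial.separable_X_pow_sub_C (1 : K) hN one_ne_zero).squarefree
    · simp [hs]
  set E : S → Submodule K V := fun ζ => s.eigenspace (ζ : K) with hE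
  have htop : ⨆ ζ, E ζ = ⊤ := by
    rw [eq_top_iff, ← Module.End.iSup_maxGenEigenspace_eq_top s]
    refine iSup_le fun μ => ?_
    rw [hss.isFinitelySemisimple.maxGenEigenspace_eq_eigenspace]
    by_cases hμ : μ ∈ S
    · exact le_iSup E ⟨μ, hμ⟩
    · rw [hnone μ hμ]; exact bot_le
  have hind : iSupIndep E := s.eigenspaces_iSupIndep.comp Subtype.val_injective
  have hint : DirectSum.IsInternal E :=
    DirectSum.isInternal_submodule_of_iSupIndep_of_iSup_eq_top hind htop
  let L : (∀ ζ, E ζ) ≃ₗ[K] V :=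
    (DirectSum.linearEquivFunOnFintype K S fun ζ => E ζ).symm.trans
      (LinearEquiv.ofBijective (DirectSum.coeLinearMap E) hint)
  have hLs : ∀ x, s (L x) = L (fun ζ => (ζ : K) • x ζ) := by
    intro x
    have hL : ∀ y : ∀ ζ, E ζ, L y = ∑ ζ, (y ζ : V) := by
      intro y
      obtain ⟨y, rfl⟩ := (DirectSum.linearEquivFunOnFintype K S fun ζ => E ζ).surjective y
      simp only [L, LinearEquiv.trans_apply, LinearEquiv.symm_apply_apply,
        LinearEquiv.ofBijective_apply]
      conv_lhs => rw [← DirectSum.sum_univ_of y]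
      rw [map_sum]
      exact Finset.sum_congr rfl fun ζ _ => DirectSum.coeLinearMap_of E ζ _
    rw [hL, hL, map_sum]
    exact Finset.sum_congr rfl fun ζ _ => Module.End.mem_eigenspace_iff.1 (x ζ).2
  let g : (∀ ζ, Module.End K (E ζ)) →ₗ[K]
      LinearMap.ker (LinearMap.mulLeft K s - LinearMap.mulRight K s) :=
    { toFun := fun f => ⟨L.toLinearMap ∘ₗ (LinearMap.pi fun ζ => f ζ ∘ₗ LinearMap.proj ζ) ∘ₗ
          L.symm.toLinearMap, by
        rw [LinearMap.mem_ker, LinearMap.sub_apply, sub_eq_zero]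
        refine LinearMap.ext fun v => ?_
        obtain ⟨x, rfl⟩ := L.surjective v
        simp only [LinearMap.mulLeft_apply, LinearMap.mulRight_apply, Module.End.mul_apply,
          LinearMap.coe_comp, LinearEquiv.coe_coe, Function.comp_apply,
          LinearEquiv.symm_apply_apply]
        rw [hLs, hLs, LinearEquiv.symm_apply_apply]
        congr 1
        funext ζ
        simp⟩
      map_add' := fun f f' => Subtype.ext (LinearMap.ext fun _ => map_add L _ _)
      map_smul' := fun c f => Subtype.ext (LinearMap.ext fun _ => map_smul L c _) }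
  have hg : Function.Injective g := by
    intro f f' h
    funext ζ
    refine LinearMap.ext fun x => ?_
    have h1 := LinearMap.congr_fun (congrArg Subtype.val h) (L (Pi.single ζ x))
    simp only [g, LinearMap.coe_mk, AddHom.coe_mk, LinearMap.coe_comp, LinearEquiv.coe_coe,
      Function.comp_apply, LinearEquiv.symm_apply_apply] at h1
    simpa using congrFun (L.injective h1) ζ
  set D := finrank K (LinearMap.ker (LinearMap.mulLeft K s - LinearMap.mulRight K s)) with hD
  set d := finrank K V with hd'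
  set m : S → ℕ := fun ζ => finrank K (E ζ) with hm
  have hsum : ∑ ζ, m ζ = d := by
    rw [hd', ← L.finrank_eq, Module.finrank_pi_fintype]
  have hsq : ∑ ζ, m ζ ^ 2 ≤ D := by
    have h := LinearMap.finrank_le_finrank_of_injective hg
    rw [Module.finrank_pi_fintype] at h
    simpa [hm, pow_two, Module.finrank_linearMap] using h
  have hup := finrank_centralizer_le hN s hs e hspan w₀ π hmove hπ₀ hfree
  rw [hW, ← hD] at hup
  have hcs : d ^ 2 ≤ (N - 1) * D := by
    have h := sq_sum_le_card_mul_sum_sq (s := (Finset.univ : Finset S)) (f := m)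
    rw [hsum, Finset.card_univ, Fintype.card_coe] at h
    exact h.trans (Nat.mul_le_mul hScard hsq)
  have hle : ∀ ζ, m ζ ≤ m ζ ^ 2 := fun ζ => Nat.le_self_pow two_ne_zero _
  have hdD : d ≤ D := hsum ▸ (Finset.sum_le_sum fun ζ _ => hle ζ).trans hsq
  obtain ⟨d', hd''⟩ : ∃ d', d = d' + 1 := ⟨d - 1, by omega⟩
  obtain ⟨D', hD'⟩ : ∃ D', D = D' + 1 := ⟨D - 1, by omega⟩
  obtain ⟨N', hN'⟩ : ∃ N', N = N' + 1 := ⟨N - 1, by omega⟩
  rw [hd'', hD', hN'] at hup hcs
  simp only [Nat.add_sub_cancel] at hup hcs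
  have hd2 : (d' + 1) ^ 2 - 1 = d' * (d' + 2) := by
    rw [show (d' + 1) ^ 2 = d' * (d' + 2) + 1 by ring, Nat.add_sub_cancel]
  rw [hd2] at hup
  have hdD' : d' ≤ D' := by omega
  have h1 : N' + 1 ≤ d' + 2 := by
    have : d' * (N' + 1) ≤ d' * (d' + 2) := (Nat.mul_le_mul_right _ hdD').trans hup
    exact Nat.le_of_mul_le_mul_left this (by omega)
  have h2 : d' + 1 ≤ N' := by
    have : (d' + 1) ^ 2 ≤ N' ^ 2 := by nlinarith
    exact Nat.pow_le_pow_iff_left two_ne_zero |>.1 this
  have hdN : d + 1 = N := by omega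
  have hDd : D ≤ d := by
    have : D' * (d' + 2) ≤ d' * (d' + 2) := by
      rw [show d' + 2 = N' + 1 by omega] at hup ⊢; exact hup
    have := Nat.le_of_mul_le_mul_right this (by omega)
    omega
  refine ⟨hdN, fun ζ hζ hζ1 => ?_⟩
  have heq : ∀ ζ, m ζ ^ 2 = m ζ := fun ζ =>
    ((Finset.sum_eq_sum_iff_of_le fun ζ _ => hle ζ).1
      (le_antisymm (Finset.sum_le_sum fun ζ _ => hle ζ) (by rw [hsum]; exact hsq.trans hDd))
      ζ (Finset.mem_univ ζ)).symm
  have hone : ∀ ζ, m ζ ≤ 1 := fun ζ => by
    have := heq ζ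
    nlinarith
  have hall : ∀ ζ, m ζ = 1 := by
    by_contra hh
    push Not at hh
    obtain ⟨ζ₁, hζ₁⟩ := hh
    have : ∑ ζ, m ζ < ∑ _ζ : S, 1 :=
      Finset.sum_lt_sum (fun ζ _ => hone ζ) ⟨ζ₁, Finset.mem_univ _, by have := hone ζ₁; omega⟩
    rw [hsum, Finset.sum_const, Finset.card_univ, Fintype.card_coe, smul_eq_mul, mul_one] at this
    omega
  have hfull : (Polynomial.nthRootsFinset N (1 : K)).erase 1 = S := rfl
  have hmem : ζ ∈ S := Finset.mem_erase.2 ⟨hζ1, (Polynomial.mem_nthRootsFinset hN0 1).2 hζ⟩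
  have hne : E ⟨ζ, hmem⟩ ≠ ⊥ := fun h => by
    have := hall ⟨ζ, hmem⟩
    rw [show m ⟨ζ, hmem⟩ = finrank K (E ⟨ζ, hmem⟩) from rfl, h, finrank_bot] at this
    omega
  obtain ⟨v, hv, hv0⟩ := Submodule.exists_mem_ne_zero_of_ne_bot hne
  exact ⟨v, hv0, Module.End.mem_eigenspace_iff.1 hv⟩

end CfsgLib.ShultGross
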