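import Mathlib
import Cfsg.Agent.ShultGross.Eigen
import Cfsg.Agent.HallHigman.CriticalCase

/-!
The exceptional configuration: a group of class two represented monomially, normalised by an
operator of order `N` acting freely on the quotient and without the eigenvalue `1`.
-/

set_option autoImplicit false

open Finset Module

namespace CfsgLib.ShultGross

universe u v w

variable {K : Type u} [Field K] {V : Type v} [AddCommGroup V] [Module K V]
  [FiniteDimensional K V] {Q : Type w} [Group Q] [Finite Q] (R : Subgroup Q) [R.Normal]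

omit [FiniteDimensional K V] in
/-- The monomials attached to a non-degenerate quotient are independent on every invariant
subspace. -/
theorem monomial_eq_zero [Fintype (Q ⧸ R)] (hQ : (Nat.card Q : K) ≠ 0) (lam : R →* K)
    (ψ : Q →* Module.End K V) (hR : ∀ z : R, ψ z = lam z • 1) (hcomm : commutator Q ≤ R)
    (hnd : ∀ x, x ∉ R → ∃ (y : Q) (h : x * y * x⁻¹ * y⁻¹ ∈ R), lam ⟨_, h⟩ ≠ 1)
    (U : Submodule K V) (hU : ∀ q, ∀ v ∈ U, ψ q v ∈ U) (hU0 : U ≠ ⊥) (a : Q ⧸ R → K)
    (ha : ∀ v ∈ U, ∑ w, a w • ψ w.out v = 0) : a = 0 := by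
  classical
  cases nonempty_fintype Q
  funext w₀
  have hmem : ∀ x y : Q, x * y * x⁻¹ * y⁻¹ ∈ R := fun x y => hcomm <| by
    have := Subgroup.commutator_mem_commutator (Subgroup.mem_top x) (Subgroup.mem_top y)
    rwa [commutatorElement_def] at this
  -- conjugation multiplies a monomial by a scalar
  have hconj : ∀ y q : Q, ψ y * ψ q * ψ y⁻¹ = lam ⟨_, hmem y q⟩ • ψ q := fun y q => by
    calc ψ y * ψ q * ψ y⁻¹ = ψ (y * q * y⁻¹ * q⁻¹) * ψ q := by
          rw [← map_mul, ← map_mul, ← map_mul]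
          congr 1
          group
      _ = _ := by rw [hR ⟨_, hmem y q⟩, smul_mul_assoc, one_mul]
  have hψ0 : ∀ q, ψ q ≠ 0 := fun q h => by
    obtain ⟨v, hv, hv0⟩ := Submodule.exists_mem_ne_zero_of_ne_bot hU0
    apply hv0
    have h1 : ψ (q⁻¹ * q) v = v := by rw [inv_mul_cancel, map_one, Module.End.one_apply]
    rw [← h1, map_mul, h, mul_zero, LinearMap.zero_apply]
  have hsum0 : ∀ q : Q, q ∉ R → ∑ y, lam ⟨_, hmem y q⟩ = 0 := by
    intro q hq
    let χ : Q →* K :=
      { toFun := fun y => lam ⟨_, hmem y q⟩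
        map_one' := by
          rw [show (⟨_, hmem 1 q⟩ : R) = 1 from Subtype.ext (by simp), map_one]
        map_mul' := fun x y => by
          refine smul_left_injective K (hψ0 q) ?_
          show lam ⟨_, hmem (x * y) q⟩ • ψ q = (lam ⟨_, hmem x q⟩ * lam ⟨_, hmem y q⟩) • ψ q
          rw [← hconj, mul_comm, ← smul_smul, ← hconj x q, ← smul_mul_assoc, ← mul_smul_comm,
            ← hconj y q, mul_inv_rev, map_mul, map_mul]
          noncomm_ring }
    refine sum_hom_units_eq_zero χ fun h1 => ?_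
    obtain ⟨y, hy, hne⟩ := hnd q hq
    apply hne
    have h2 : lam ⟨_, hmem y q⟩ = 1 := DFunLike.congr_fun h1 y
    have h3 : (⟨_, hy⟩ : R) * ⟨_, hmem y q⟩ = 1 := Subtype.ext (by
      show q * y * q⁻¹ * y⁻¹ * (y * q * y⁻¹ * q⁻¹) = 1
      group)
    have h4 := congrArg lam h3
    rw [map_mul, h2, mul_one, map_one] at h4
    exact h4
  obtain ⟨v, hv, hv0⟩ := Submodule.exists_mem_ne_zero_of_ne_bot hU0
  have key : ∑ y, ψ y (∑ w, a w • ψ w.out (ψ w₀.out⁻¹ (ψ y⁻¹ v))) =
      ((Nat.card Q : K) * a w₀) • v := by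
    simp only [map_sum, map_smul]
    rw [Finset.sum_comm, Finset.sum_eq_single w₀ (fun w _ hw => ?_) (by simp)]
    · simp only [← Module.End.mul_apply, ← map_mul, mul_inv_cancel_left, mul_inv_cancel,
        map_one, Module.End.one_apply, Finset.sum_const, card_univ]
      rw [← Nat.card_eq_fintype_card, ← Nat.cast_smul_eq_nsmul K, smul_smul]
    · have hq : w.out * w₀.out⁻¹ ∉ R := by
        rw [← QuotientGroup.eq_one_iff]
        simp [mul_inv_eq_one, hw]
      have : ∀ y, ψ y (ψ w.out (ψ w₀.out⁻¹ (ψ y⁻¹ v))) =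
          lam ⟨_, hmem y (w.out * w₀.out⁻¹)⟩ • ψ (w.out * w₀.out⁻¹) v := fun y => by
        rw [← LinearMap.smul_apply, ← hconj, map_mul ψ w.out]
        simp [Module.End.mul_apply]
      simp only [this]
      rw [← Finset.smul_sum, ← Finset.sum_smul, hsum0 _ hq, zero_smul, smul_zero]
  have hz : ∀ y, (∑ w, a w • ψ w.out (ψ w₀.out⁻¹ (ψ y⁻¹ v))) = 0 :=
    fun y => ha _ (hU _ _ (hU _ _ hv))
  simp only [hz, map_zero, Finset.sum_const_zero] at key
  rcases smul_eq_zero.1 key.symm with h | h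
  · exact (mul_eq_zero.1 h).resolve_left hQ
  · exact absurd h hv0

variable [IsAlgClosed K]

/-- The exceptional configuration. -/
theorem monomial_exception [Nontrivial V] (hQ : (Nat.card Q : K) ≠ 0) (lam : R →* K)
    (ψ : Q →* Module.End K V) (hR : ∀ z : R, ψ z = lam z • 1) (hcomm : commutator Q ≤ R)
    (hnd : ∀ x, x ∉ R → ∃ (y : Q) (h : x * y * x⁻¹ * y⁻¹ ∈ R), lam ⟨_, h⟩ ≠ 1) (hRne : R ≠ ⊤)
    (σ : MulAut Q) (hσR : ∀ z ∈ R, σ z ∈ R) {N : ℕ} (hN : (N : K) ≠ 0) (s : Module.End K V)
    (hs : s ^ N = 1) (hcompat : ∀ q, s * ψ q = ψ (σ q) * s)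
    (hT : ∑ i ∈ range N, s ^ i = 0)
    (hfpf : ∀ i ∈ Finset.Ico 1 N, ∀ q, q⁻¹ * (σ ^ i) q ∈ R → q ∈ R) :
    (∃ d : ℕ, d + 1 = N ∧ Nat.card (Q ⧸ R) = d ^ 2) ∧
      ∀ X : Module.End K V, (∀ q, Commute X (ψ q)) → Commute X s := by
  classical
  cases nonempty_fintype Q
  cases nonempty_fintype (Q ⧸ R)
  have hN0 : 0 < N := Nat.pos_of_ne_zero fun h => hN (by rw [h, Nat.cast_zero])
  have hsu : s ^ (N - 1) * s = 1 := by rw [← pow_succ, Nat.sub_add_cancel hN0, hs]
  have hlamσ : ∀ (z : Q) (hz : z ∈ R), lam ⟨σ z, hσR z hz⟩ = lam ⟨z, hz⟩ := by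
    intro z hz
    have h := hcompat z
    rw [hR ⟨z, hz⟩, hR ⟨σ z, hσR z hz⟩, mul_smul_comm, mul_one, smul_mul_assoc, one_mul] at h
    refine (smul_left_injective K ?_ h).symm
    intro hs0
    rw [hs0, mul_zero] at hsu
    exact zero_ne_one hsu
  -- an irreducible invariant subspace
  obtain ⟨M₀, ⟨hM₀i, hM₀b⟩, hmin⟩ := (wellFounded_lt (α := Submodule K V)).has_min
    {M | (∀ q, ∀ v ∈ M, ψ q v ∈ M) ∧ M ≠ ⊥} ⟨⊤, fun _ _ _ => trivial, top_ne_bot⟩
  haveI : Nontrivial M₀ := Submodule.nontrivial_iff_ne_bot.2 hM₀b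
  let ρ : Q →* Module.End K M₀ :=
    { toFun := fun q => (ψ q).restrict (hM₀i q)
      map_one' := LinearMap.ext fun v => Subtype.ext (by simp)
      map_mul' := fun x y => LinearMap.ext fun v => Subtype.ext (by simp [Module.End.mul_apply]) }
  have hρ : ∀ q (v : M₀), (ρ q v : V) = ψ q v := fun q v => rfl
  have hirr : ∀ W : Submodule K M₀, (∀ g, ∀ w ∈ W, ρ g w ∈ W) → W = ⊥ ∨ W = ⊤ := by
    intro W hW
    by_contra! h
    refine hmin (W.map M₀.subtype) ⟨?_, ?_⟩ ?_
    · rintro q _ ⟨w, hw, rfl⟩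
      exact ⟨ρ q w, hW q w hw, rfl⟩
    · intro hb
      refine h.1 ((Submodule.eq_bot_iff _).2 fun w hw => ?_)
      have : (w : V) ∈ W.map M₀.subtype := ⟨w, hw, rfl⟩
      rw [hb, Submodule.mem_bot] at this
      exact Subtype.ext this
    · calc W.map M₀.subtype < (⊤ : Submodule K M₀).map M₀.subtype :=
            Submodule.map_strictMono_of_injective M₀.subtype_injective (lt_top_iff_ne_top.2 h.2)
        _ = M₀ := Submodule.map_subtype_top M₀
  have hdec : ∀ q : Q, ∃ z : R, q = (q : Q ⧸ R).out * z := fun q =>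
    ⟨⟨(q : Q ⧸ R).out⁻¹ * q, QuotientGroup.eq.1 (QuotientGroup.out_eq' _)⟩, by simp⟩
  have hρR : ∀ z : R, ρ z = lam z • 1 := fun z => LinearMap.ext fun v => Subtype.ext (by
    rw [hρ, hR]; rfl)
  -- coordinates
  let L₀ : (Q ⧸ R → K) →ₗ[K] Module.End K M₀ :=
    Fintype.linearCombination K fun w : Q ⧸ R => ρ w.out
  let LV : (Q ⧸ R → K) →ₗ[K] Module.End K V :=
    Fintype.linearCombination K fun w : Q ⧸ R => ψ w.out
  have hindep : ∀ U : Submodule K V, (∀ q, ∀ v ∈ U, ψ q v ∈ U) → U ≠ ⊥ → ∀ a,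
      (∀ v ∈ U, LV a v = 0) → a = 0 := fun U hU hU0 a ha =>
    monomial_eq_zero R hQ lam ψ hR hcomm hnd U hU hU0 a fun v hv => by
      simpa [LV, Fintype.linearCombination_apply] using ha v hv
  have hspan : Submodule.span K (Set.range fun w : Q ⧸ R => ρ w.out) = ⊤ := by
    obtain ⟨c, hc, hexp⟩ := CfsgLib.HallHigman.exists_trace_expansion ρ hirr
      (by rwa [← Nat.card_eq_fintype_card])
    rw [eq_top_iff]
    intro E _
    have hE : E = c⁻¹ • ∑ g, LinearMap.trace K M₀ (E * ρ g⁻¹) • ρ g := by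
      rw [hexp, smul_smul, inv_mul_cancel₀ hc, one_smul]
    rw [hE]
    refine Submodule.smul_mem _ _ (Submodule.sum_mem _ fun g _ => Submodule.smul_mem _ _ ?_)
    obtain ⟨z, hz⟩ := hdec g
    rw [hz, map_mul, hρR, mul_smul_comm, mul_one]
    exact Submodule.smul_mem _ _ (Submodule.subset_span ⟨_, rfl⟩)
  have hL₀inj : Function.Injective L₀ := by
    rw [injective_iff_map_eq_zero]
    intro a ha
    refine hindep M₀ hM₀i hM₀b a fun v hv => ?_
    have := congrArg Subtype.val (LinearMap.congr_fun ha ⟨v, hv⟩)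
    simpa [L₀, LV, Fintype.linearCombination_apply, LinearMap.sum_apply, hρ] using this
  have hL₀sur : Function.Surjective L₀ := by
    rw [← LinearMap.range_eq_top, Fintype.range_linearCombination, hspan]
  let L : (Q ⧸ R → K) ≃ₗ[K] Module.End K M₀ := LinearEquiv.ofBijective L₀ ⟨hL₀inj, hL₀sur⟩
  have hW : Nat.card (Q ⧸ R) = finrank K M₀ ^ 2 := by
    rw [Nat.card_eq_fintype_card, ← finrank_pi K (ι := Q ⧸ R), L.finrank_eq,
      Module.finrank_linearMap, pow_two]
  have hd : 2 ≤ finrank K M₀ := by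
    haveI : Nontrivial (Q ⧸ R) := QuotientGroup.nontrivial_iff.2 hRne
    have h1 : 1 < finrank K M₀ ^ 2 := hW ▸ Finite.one_lt_card
    by_contra! h
    interval_cases finrank K M₀ <;> simp at h1
  -- any multiplicative assignment extends to a homomorphism of algebras
  have hext : ∀ {B : Type v} [Ring B] [Algebra K B] (f : Q →* B),
      (∀ z : R, f z = algebraMap K B (lam z)) →
      ∃ F : Module.End K M₀ →ₐ[K] B, (∀ q, F (ρ q) = f q) ∧
        ∀ a, F (L a) = Fintype.linearCombination K (fun w : Q ⧸ R => f w.out) a := by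
    intro B _ _ f hf
    let F := (Fintype.linearCombination K fun w : Q ⧸ R => f w.out) ∘ₗ L.symm.toLinearMap
    have hFρ : ∀ q, F (ρ q) = f q := by
      intro q
      obtain ⟨z, hz⟩ := hdec q
      have h1 : ρ q = L (lam z • Pi.single (q : Q ⧸ R) 1) := by
        rw [map_smul]
        show ρ q = lam z • L₀ _
        rw [Fintype.linearCombination_apply_single, one_smul]
        conv_lhs => rw [hz, map_mul, hρR, mul_smul_comm, mul_one]
      rw [h1]
      show (Fintype.linearCombination K fun w : Q ⧸ R => f w.out) (L.symm (L _)) = f q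
      rw [L.symm_apply_apply, map_smul, Fintype.linearCombination_apply_single, one_smul]
      conv_rhs => rw [hz, map_mul, hf, ← Algebra.commutes, ← Algebra.smul_def]
    refine ⟨AlgHom.ofLinearMap F (by rw [← map_one ρ, hFρ, map_one]) ?_, hFρ, fun a => ?_⟩
    · intro X Y
      have hX : X ∈ Submodule.span K (Set.range fun w : Q ⧸ R => ρ w.out) :=
        hspan ▸ Submodule.mem_top
      have hY : Y ∈ Submodule.span K (Set.range fun w : Q ⧸ R => ρ w.out) :=
        hspan ▸ Submodule.mem_top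
      induction hX using Submodule.span_induction with
      | mem x hx =>
        obtain ⟨w, rfl⟩ := hx
        induction hY using Submodule.span_induction with
        | mem y hy =>
          obtain ⟨w', rfl⟩ := hy
          simp only [← map_mul, hFρ]
        | zero => simp
        | add y z _ _ h1 h2 => simp only [mul_add, map_add, h1, h2]
        | smul k y _ h1 => simp only [mul_smul_comm, map_smul, h1]
      | zero => simp
      | add x z _ _ h1 h2 => simp only [add_mul, map_add, h1, h2]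
      | smul k x _ h1 => simp only [smul_mul_assoc, map_smul, h1]
    · show F (L a) = _
      simp [F]
  obtain ⟨Ψ, hΨ, hΨL⟩ := hext (B := Module.End K V) ψ fun z => by
    rw [hR, Algebra.algebraMap_eq_smul_one]
  obtain ⟨Θ, hΘ, -⟩ := hext (B := Module.End K M₀) (ρ.comp σ.toMonoidHom) fun z => by
    show ρ (σ z) = _
    rw [hρR ⟨σ z, hσR z z.2⟩, hlamσ z z.2, Algebra.algebraMap_eq_smul_one]
  have hΘbij : Function.Bijective Θ := by
    have hsur : Function.Surjective Θ := by
      rw [← AlgHom.coe_toLinearMap, ← LinearMap.range_eq_top, eq_top_iff, ← hspan,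
        Submodule.span_le]
      rintro _ ⟨w, rfl⟩
      exact ⟨ρ (σ.symm w.out), by simp [hΘ]⟩
    exact ⟨(LinearMap.injective_iff_surjective (f := Θ.toLinearMap)).2 hsur, hsur⟩
  obtain ⟨T, hT₀⟩ := AlgEquiv.eq_linearEquivConjAlgEquiv (AlgEquiv.ofBijective Θ hΘbij)
  set u : Module.End K M₀ := T.toLinearMap with hu
  set u' : Module.End K M₀ := T.symm.toLinearMap with hu'
  have huu' : u * u' = 1 := LinearMap.ext fun v => T.apply_symm_apply v
  have hu'u : u' * u = 1 := LinearMap.ext fun v => T.symm_apply_apply v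
  have huρ : ∀ q, u * ρ q = ρ (σ q) * u := by
    intro q
    have h : Θ (ρ q) = u * ρ q * u' := DFunLike.congr_fun hT₀ (ρ q)
    rw [hΘ] at h
    show _ = (ρ.comp σ.toMonoidHom) q * u
    rw [h, mul_assoc, hu'u, mul_one]
  set U := Ψ u with hUdef
  set U' := Ψ u' with hU'def
  have hU'U : U' * U = 1 := by rw [← map_mul, hu'u, map_one]
  have hUU' : U * U' = 1 := by rw [← map_mul, huu', map_one]
  set C := U' * s with hCdef
  have hsUC : s = U * C := by rw [hCdef, ← mul_assoc, hUU', one_mul]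
  have hU'ψ : ∀ q, U' * ψ (σ q) = ψ q * U' := fun q => by
    rw [← hΨ, ← hΨ, ← map_mul, ← map_mul]
    congr 1
    calc u' * ρ (σ q) = u' * (ρ (σ q) * u) * u' := by
          rw [mul_assoc, mul_assoc, huu', mul_one]
      _ = _ := by rw [← huρ, ← mul_assoc, hu'u, one_mul]
  have hCψ : ∀ q, Commute C (ψ q) := fun q => by
    show U' * s * ψ q = ψ q * (U' * s)
    rw [mul_assoc, hcompat, ← mul_assoc, hU'ψ, mul_assoc]
  have hCΨ : ∀ X, Commute C (Ψ X) := by
    intro X
    have hX : X ∈ Submodule.span K (Set.range fun w : Q ⧸ R => ρ w.out) :=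
      hspan ▸ Submodule.mem_top
    induction hX using Submodule.span_induction with
    | mem x hx => obtain ⟨w, rfl⟩ := hx; rw [hΨ]; exact hCψ _
    | zero => rw [map_zero]; exact Commute.zero_right C
    | add x y _ _ h1 h2 => rw [map_add]; exact h1.add_right h2
    | smul k x _ h1 => rw [map_smul]; exact h1.smul_right k
  -- powers
  have hupow : ∀ (i : ℕ) q, u ^ i * ρ q = ρ ((σ ^ i) q) * u ^ i := by
    intro i q
    induction i with
    | zero => simp
    | succ i ih =>
      rw [pow_succ', mul_assoc, ih, ← mul_assoc, huρ, mul_assoc, pow_succ' σ, MulAut.mul_apply]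
  have hspow : ∀ (i : ℕ) q, s ^ i * ψ q = ψ ((σ ^ i) q) * s ^ i := by
    intro i q
    induction i with
    | zero => simp
    | succ i ih =>
      rw [pow_succ', mul_assoc, ih, ← mul_assoc, hcompat, mul_assoc, pow_succ' σ, MulAut.mul_apply]
  obtain ⟨a, ha⟩ := CfsgLib.HallHigman.exists_eq_smul_one_of_commute (fun q => ρ q) hirr (u ^ N)
    (fun q => by
      show u ^ N * ρ q = ρ q * u ^ N
      rw [hupow]
      congr 1
      have h := hspow N q
      rw [hs, one_mul, mul_one] at h
      exact LinearMap.ext fun v => Subtype.ext (by rw [hρ, hρ, ← h]))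
  have hUN : U ^ N = a • 1 := by rw [← map_pow, ha, map_smul, map_one]
  have hCN : a • C ^ N = 1 := by
    rw [← hs, hsUC, (hCΨ u).symm.mul_pow, hUN, smul_mul_assoc, one_mul]
  have ha0 : a ≠ 0 := fun h => by rw [h, zero_smul] at hCN; exact zero_ne_one hCN
  -- each eigenvalue of `C` gives an operator on `M₀` missing the eigenvalue `1`
  have hC : ∀ μ : K, C.eigenspace μ ≠ ⊥ → a * μ ^ N = 1 ∧
      ∑ i ∈ range N, (μ • u) ^ i = 0 := by
    intro μ hμ
    set E := C.eigenspace μ with hE
    have hEi : ∀ q, ∀ v ∈ E, ψ q v ∈ E := fun q v hv => by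
      rw [hE, Module.End.mem_eigenspace_iff] at hv ⊢
      rw [← Module.End.mul_apply, (hCψ q).eq, Module.End.mul_apply, hv, map_smul]
    obtain ⟨v, hv, hv0⟩ := Submodule.exists_mem_ne_zero_of_ne_bot hμ
    have hCv : ∀ (i : ℕ), ∀ x ∈ E, (s ^ i) x = Ψ ((μ • u) ^ i) x := by
      intro i x hx
      have hCi : ∀ j : ℕ, (C ^ j) x = μ ^ j • x := by
        intro j
        induction j with
        | zero => simp
        | succ j ih =>
          rw [pow_succ' C, Module.End.mul_apply, ih, map_smul, Module.End.mem_eigenspace_iff.1 hx,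
            smul_smul, pow_succ]
      rw [hsUC, (hCΨ u).symm.mul_pow, Module.End.mul_apply, hCi, map_smul, smul_pow, map_smul,
        map_pow, LinearMap.smul_apply]
    constructor
    · have h := hCv N v hv
      rw [hs, smul_pow, ha, map_smul, map_smul, map_one, Module.End.one_apply, smul_smul,
        LinearMap.smul_apply, Module.End.one_apply] at h
      by_contra hne
      have h' : (1 - μ ^ N * a) • v = 0 := by rw [sub_smul, one_smul, ← h, sub_self]
      rcases smul_eq_zero.1 h' with h'' | h''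
      · exact hne (by rw [mul_comm]; exact (sub_eq_zero.1 h'').symm)
      · exact hv0 h''
    · obtain ⟨b, hb⟩ := L.surjective (∑ i ∈ range N, (μ • u) ^ i)
      rw [← hb]
      convert map_zero L
      refine hindep E hEi hμ b fun x hx => ?_
      show (Fintype.linearCombination K fun w : Q ⧸ R => ψ w.out) b x = 0
      rw [← hΨL, hb, map_sum, LinearMap.sum_apply,
        Finset.sum_congr rfl (fun i _ => (hCv i x hx).symm), ← LinearMap.sum_apply, hT,
        LinearMap.zero_apply]
  obtain ⟨γ, hγ⟩ := Module.End.exists_eigenvalue C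
  obtain ⟨haγ, hTγ⟩ := hC γ hγ
  have hmap : R.map (σ : Q →* Q) = R :=
    Subgroup.eq_of_le_of_card_ge (by rintro _ ⟨x, hx, rfl⟩; exact hσR x hx)
      (Subgroup.card_map_of_injective (f := (σ : Q →* Q)) σ.injective).ge
  let π : Equiv.Perm (Q ⧸ R) := (QuotientGroup.congr R R σ hmap).toEquiv
  have hπmk : ∀ x : Q, π (x : Q ⧸ R) = ((σ x : Q) : Q ⧸ R) := fun x => rfl
  have hπpow : ∀ (i : ℕ) (x : Q), (π ^ i) (x : Q ⧸ R) = (((σ ^ i) x : Q) : Q ⧸ R) := by
    intro i x
    induction i with
    | zero => simp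
    | succ i ih => rw [pow_succ', Equiv.Perm.mul_apply, ih, hπmk, pow_succ' σ, MulAut.mul_apply]
  have hγN : (γ • u) ^ N = 1 := by rw [smul_pow, ha, smul_smul, mul_comm, haγ, one_smul]
  obtain ⟨hdN, hall⟩ := eigen_count hN (γ • u) hγN hTγ hW (fun w => ρ w.out) hspan 1 π
    (fun w => by
      obtain ⟨z, hz⟩ := hdec (σ w.out)
      have hw : ((σ w.out : Q) : Q ⧸ R) = π w := by rw [← hπmk, QuotientGroup.out_eq']
      refine ⟨lam z, ?_⟩
      rw [hw] at hz
      rw [smul_mul_assoc, huρ, hz, map_mul, hρR, mul_smul_comm, mul_one, smul_mul_assoc,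
        mul_smul_comm, smul_comm γ (lam z)])
    (by rw [← QuotientGroup.mk_one, hπmk, map_one])
    (fun i hi w hw hfix => hw (by
      induction w using QuotientGroup.induction_on with
      | H x =>
        rw [hπpow, eq_comm, QuotientGroup.eq] at hfix
        exact (QuotientGroup.eq_one_iff x).2 (hfpf i hi x hfix))) hd
  refine ⟨⟨_, hdN, hW⟩, ?_⟩
  -- `C` has only one eigenvalue, hence is a scalar
  have hone : ∀ μ : K, C.eigenspace μ ≠ ⊥ → μ = γ := by
    intro μ hμ
    obtain ⟨haμ, hTμ⟩ := hC μ hμ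
    by_contra hne
    have hμ0 : μ ≠ 0 := fun h => by
      rw [h, zero_pow hN0.ne', mul_zero] at haμ
      exact zero_ne_one haμ
    have hζ : (γ / μ) ^ N = 1 := by
      rw [div_pow, div_eq_one_iff_eq (pow_ne_zero N hμ0)]
      exact mul_left_cancel₀ ha0 (haγ.trans haμ.symm)
    obtain ⟨v, hv0, hv⟩ := hall _ hζ (fun h => hne ((div_eq_one_iff_eq hμ0).1 h).symm)
    have hfix : (μ • u) v = v := by
      have hγ0 : γ ≠ 0 := fun h => by
        rw [h, zero_pow hN0.ne', mul_zero] at haγ
        exact zero_ne_one haγ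
      rw [show μ • u = (μ / γ) • (γ • u) by rw [smul_smul, div_mul_cancel₀ _ hγ0],
        LinearMap.smul_apply, hv, smul_smul, div_mul_div_comm, mul_comm γ μ, div_self
        (mul_ne_zero hμ0 hγ0), one_smul]
    have hz := LinearMap.congr_fun hTμ v
    have hpow : ∀ i : ℕ, ((μ • u) ^ i) v = v := by
      intro i
      induction i with
      | zero => simp
      | succ i ih => rw [pow_succ', Module.End.mul_apply, ih, hfix]
    rw [LinearMap.sum_apply, Finset.sum_congr rfl (fun i _ => hpow i), Finset.sum_const,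
      card_range, LinearMap.zero_apply, ← Nat.cast_smul_eq_nsmul K] at hz
    rcases smul_eq_zero.1 hz with h | h
    · exact hN h
    · exact hv0 h
  have hCs : C.IsSemisimple := by
    refine Module.End.isSemisimple_of_squarefree_aeval_eq_zero
      (p := Polynomial.X ^ N - Polynomial.C a⁻¹) ?_ ?_
    · exact (Polynomial.separable_X_pow_sub_C a⁻¹ hN (inv_ne_zero ha0)).squarefree
    · have : C ^ N = a⁻¹ • (1 : Module.End K V) := by
        rw [← hCN, smul_smul, inv_mul_cancel₀ ha0, one_smul]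
      simp [this, Algebra.algebraMap_eq_smul_one]
  have hCγ : C.eigenspace γ = ⊤ := by
    rw [eq_top_iff, ← Module.End.iSup_maxGenEigenspace_eq_top C]
    refine iSup_le fun μ => ?_
    rw [hCs.isFinitelySemisimple.maxGenEigenspace_eq_eigenspace]
    by_cases hμ : C.eigenspace μ = ⊥
    · rw [hμ]; exact bot_le
    · rw [hone μ hμ]
  have hsγ : s = γ • U := by
    rw [hsUC]
    refine LinearMap.ext fun v => ?_
    have hv : v ∈ C.eigenspace γ := hCγ ▸ Submodule.mem_top
    rw [Module.End.mul_apply, Module.End.mem_eigenspace_iff.1 hv, map_smul, LinearMap.smul_apply]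
  intro X hX
  rw [hsγ]
  refine Commute.smul_right ?_ γ
  have hXΨ : ∀ Y, Commute X (Ψ Y) := by
    intro Y
    have hY : Y ∈ Submodule.span K (Set.range fun w : Q ⧸ R => ρ w.out) :=
      hspan ▸ Submodule.mem_top
    induction hY using Submodule.span_induction with
    | mem x hx => obtain ⟨w, rfl⟩ := hx; rw [hΨ]; exact hX _
    | zero => rw [map_zero]; exact Commute.zero_right X
    | add x y _ _ h1 h2 => rw [map_add]; exact h1.add_right h2
    | smul k x _ h1 => rw [map_smul]; exact h1.smul_right k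
  exact hXΨ u

end CfsgLib.ShultGross
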