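import Mathlib

/-!
Splitting an orbit sum along eigencharacters, and two small facts about operators of finite order.
-/

set_option autoImplicit false

open Finset Module

namespace CfsgLib.ShultGross

universe u v w

variable {K : Type u} [Field K] {V : Type v} [AddCommGroup V] [Module K V]

/-- The joint eigenspace of a character. -/
def charSpace {Q : Type w} [Group Q] {Z : Subgroup Q} (ψ : Q →* Module.End K V) (lam : Z →* K) :
    Submodule K V where
  carrier := {v | ∀ z : Z, ψ z v = lam z • v}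
  add_mem' := fun {a b} ha hb z => by rw [map_add, ha z, hb z, smul_add]
  zero_mem' := fun z => by rw [map_zero, smul_zero]
  smul_mem' := fun c v hv z => by rw [map_smul, hv z, smul_comm]

theorem mem_charSpace {Q : Type w} [Group Q] {Z : Subgroup Q} {ψ : Q →* Module.End K V}
    {lam : Z →* K} {v : V} : v ∈ charSpace ψ lam ↔ ∀ z : Z, ψ z v = lam z • v := Iff.rfl

/-- If the orbit sum of `s` kills `v`, so does the sum over the stabiliser of its character. -/
theorem sum_stab {Q : Type w} [Group Q] (σ : MulAut Q) (Z : Subgroup Q) [Finite Z]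
    (hZσ : ∀ z ∈ Z, σ z ∈ Z) (hZ : (Nat.card Z : K) ≠ 0) (ψ : Q →* Module.End K V) (lam : Z →* K)
    {N : ℕ} (hN : 0 < N) (hσN : σ ^ N = 1) (s : Module.End K V)
    (hcompat : ∀ q, s * ψ q = ψ (σ q) * s) :
    ∃ P : ℕ, 0 < P ∧ P ∣ N ∧ (∀ i : ℕ, P ∣ i ↔ ∀ z : Z, ∀ h : (σ ^ i) (z : Q) ∈ Z,
        lam ⟨_, h⟩ = lam z) ∧
      ∀ v ∈ charSpace ψ lam, (∑ i ∈ range N, s ^ i) v = 0 →
        (∑ j ∈ range (N / P), (s ^ P) ^ j) v = 0 := by
  classical
  cases nonempty_fintype Z
  let σZ : Z →* Z :=
    { toFun := fun z => ⟨σ z, hZσ _ z.2⟩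
      map_one' := Subtype.ext (map_one σ)
      map_mul' := fun x y => Subtype.ext (map_mul σ _ _) }
  let f : (Z →* K) → (Z →* K) := fun l => l.comp σZ
  have hpow : ∀ (i : ℕ) (z : Z), (σ ^ i) (z : Q) ∈ Z := by
    intro i z
    induction i with
    | zero => simp
    | succ i ih => rw [pow_succ', MulAut.mul_apply]; exact hZσ _ ih
  have hit : ∀ (i : ℕ) (l : Z →* K) (z : Z), f^[i] l z = l ⟨_, hpow i z⟩ := by
    intro i
    induction i with
    | zero => intro l z; simp
    | succ i ih =>
      intro l z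
      rw [Function.iterate_succ_apply, ih]
      show l (σZ _) = _
      congr 1
      exact Subtype.ext ((by rw [pow_succ', MulAut.mul_apply]) : σ ((σ ^ i) (z : Q)) = (σ ^ (i + 1)) (z : Q))
  have hperN : Function.IsPeriodicPt f N lam := MonoidHom.ext fun z => by
    rw [hit]
    congr 1
    exact Subtype.ext (by show (σ ^ N) (z : Q) = z; rw [hσN, MulAut.one_apply])
  set P := Function.minimalPeriod f lam with hP
  have hPN : P ∣ N := hperN.minimalPeriod_dvd
  have hP0 : 0 < P := hperN.minimalPeriod_pos hN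
  have hiff : ∀ i : ℕ, P ∣ i ↔ ∀ z : Z, ∀ h : (σ ^ i) (z : Q) ∈ Z, lam ⟨_, h⟩ = lam z := by
    intro i
    rw [hP, ← Function.isPeriodicPt_iff_minimalPeriod_dvd]
    constructor
    · intro h z hz
      rw [← hit i lam z, h.eq]
    · intro h
      exact MonoidHom.ext fun z => by rw [hit]; exact h z _
  refine ⟨P, hP0, hPN, hiff, fun v hv hTv => ?_⟩
  have hcpow : ∀ (i : ℕ) q, s ^ i * ψ q = ψ ((σ ^ i) q) * s ^ i := by
    intro i q
    induction i with
    | zero => simp
    | succ i ih =>
      rw [pow_succ', mul_assoc, ih, ← mul_assoc, hcompat, mul_assoc, pow_succ' σ, MulAut.mul_apply]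
  let e : Module.End K V := (Nat.card Z : K)⁻¹ • ∑ z : Z, lam z⁻¹ • ψ z
  have he : ∀ i : ℕ, e ((s ^ i) v) = if P ∣ i then (s ^ i) v else 0 := by
    intro i
    let χ : Z →* K :=
      { toFun := fun z => lam ⟨_, hpow i z⁻¹⟩ * lam z
        map_one' := by
          rw [show (⟨_, hpow i (1 : Z)⁻¹⟩ : Z) = 1 from Subtype.ext (by simp), map_one, mul_one]
        map_mul' := fun x y => by
          rw [show (⟨_, hpow i (x * y)⁻¹⟩ : Z) = ⟨_, hpow i y⁻¹⟩ * ⟨_, hpow i x⁻¹⟩ from
            Subtype.ext (by simp [mul_inv_rev]), map_mul, map_mul]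
          ring }
    let σi : Z ≃ Z := Equiv.ofBijective (fun z => ⟨_, hpow i z⟩)
      (Finite.injective_iff_bijective.1 fun a b h =>
        Subtype.ext ((σ ^ i).injective (congrArg Subtype.val h)))
    have hsum : e ((s ^ i) v) = ((Nat.card Z : K)⁻¹ * ∑ z, χ z) • (s ^ i) v := by
      simp only [e, LinearMap.smul_apply, LinearMap.sum_apply]
      rw [mul_smul, Finset.sum_smul]
      congr 1
      rw [← σi.sum_comp fun z : Z => lam z⁻¹ • ψ z ((s ^ i) v)]
      refine Finset.sum_congr rfl fun z _ => ?_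
      have h1 : ψ (σi z) ((s ^ i) v) = lam z • (s ^ i) v := by
        show ψ ((σ ^ i) z) ((s ^ i) v) = _
        rw [← Module.End.mul_apply, ← hcpow, Module.End.mul_apply, hv z, map_smul]
      rw [h1, smul_smul]
      congr 1
      show lam (σi z)⁻¹ * lam z = lam ⟨_, hpow i z⁻¹⟩ * lam z
      congr 2
      exact Subtype.ext (by simp [σi])
    rw [hsum]
    split_ifs with hi
    · have : ∀ z, χ z = 1 := fun z => by
        show lam ⟨_, hpow i z⁻¹⟩ * lam z = 1
        rw [(hiff i).1 hi z⁻¹ _, ← map_mul, inv_mul_cancel, map_one]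
      simp [this, ← Nat.card_eq_fintype_card, inv_mul_cancel₀ hZ]
    · have hne : χ ≠ 1 := by
        intro h
        apply hi
        refine (hiff i).2 fun z hz => ?_
        have h1 : lam ⟨_, hpow i z⁻¹⟩ * lam z = 1 := DFunLike.congr_fun h z
        have h2 : lam ⟨_, hz⟩ * lam ⟨_, hpow i z⁻¹⟩ = 1 := by
          rw [← map_mul, show (⟨_, hz⟩ : Z) * ⟨_, hpow i z⁻¹⟩ = 1 from Subtype.ext (by simp),
            map_one]
        calc lam ⟨_, hz⟩ = lam ⟨_, hz⟩ * (lam ⟨_, hpow i z⁻¹⟩ * lam z) := by rw [h1, mul_one]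
          _ = _ := by rw [← mul_assoc, h2, one_mul]
      rw [sum_hom_units_eq_zero χ hne, mul_zero, zero_smul]
  have h0 : ∑ i ∈ range N, (if P ∣ i then (s ^ i) v else 0) = 0 := by
    have := congrArg e hTv
    rw [map_zero, LinearMap.sum_apply, map_sum, Finset.sum_congr rfl (fun i _ => he i)] at this
    exact this
  rw [← Finset.sum_filter] at h0
  rw [LinearMap.sum_apply]
  rw [← h0]
  refine Finset.sum_nbij' (fun j => P * j) (fun i => i / P) ?_ ?_ ?_ ?_ ?_
  · intro j hj
    simp only [Finset.mem_range] at hj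
    simp only [Finset.mem_filter, Finset.mem_range, dvd_mul_right, and_true]
    calc P * j < P * (N / P) := Nat.mul_lt_mul_of_pos_left hj hP0
      _ = N := Nat.mul_div_cancel' hPN
  · intro i hi
    simp only [Finset.mem_filter, Finset.mem_range] at hi
    simp only [Finset.mem_range]
    exact Nat.div_lt_div_of_lt_of_dvd hPN hi.1
  · intro j _
    simp [Nat.mul_div_cancel_left j hP0]
  · intro i hi
    simp only [Finset.mem_filter, Finset.mem_range] at hi
    exact Nat.mul_div_cancel' hi.2
  · intro j _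
    rw [pow_mul]

variable [FiniteDimensional K V] [IsAlgClosed K]

/-- An operator of finite order prime to the characteristic with sole eigenvalue `1` is trivial. -/
theorem eq_one_of_eigen {m : ℕ} (hm : (m : K) ≠ 0) (x : Module.End K V) (hx : x ^ m = 1)
    (h : ∀ μ, x.eigenspace μ ≠ ⊥ → μ = 1) : x = 1 := by
  have hs : x.IsSemisimple := by
    refine Module.End.isSemisimple_of_squarefree_aeval_eq_zero
      (p := Polynomial.X ^ m - Polynomial.C (1 : K)) ?_ ?_
    · exact (Polynomial.separable_X_pow_sub_C (1 : K) hm one_ne_zero).squarefree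
    · simp [hx]
  have htop : x.eigenspace 1 = ⊤ := by
    rw [eq_top_iff, ← Module.End.iSup_maxGenEigenspace_eq_top x]
    refine iSup_le fun μ => ?_
    rw [hs.isFinitelySemisimple.maxGenEigenspace_eq_eigenspace]
    by_cases hμ : x.eigenspace μ = ⊥
    · rw [hμ]; exact bot_le
    · rw [h μ hμ]
  refine LinearMap.ext fun v => ?_
  have hv : v ∈ x.eigenspace 1 := htop ▸ Submodule.mem_top
  rw [Module.End.mem_eigenspace_iff.1 hv, one_smul, Module.End.one_apply]

end CfsgLib.ShultGross
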