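import Mathlib
import Cfsg.Agent.ShultGross.Monomial
import Cfsg.Agent.ShultGross.Arith
import Cfsg.Agent.ShultGross.Split
import Cfsg.Agent.Solvable.Frattini

/-!
For an odd prime `p`, an automorphism of order `p ^ n` acting without fixed points on a `q`-group
`Q` and without fixed points on a faithful module of coprime characteristic induces an
automorphism of order dividing `p ^ (n - 1)` on `Q`.
-/

set_option autoImplicit false

open Finset Module
open scoped commutatorElement

namespace CfsgLib.ShultGross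

universe u v w

theorem fixed_of_pow_fixed {Q : Type w} [Group Q] {p n : ℕ} [hp : Fact p.Prime] (σ : MulAut Q)
    (hσ : σ ^ p ^ n = 1) {i : ℕ} (hi : i ∈ Finset.Ico 1 (p ^ n)) {x : Q} (hx : (σ ^ i) x = x) :
    (σ ^ p ^ (n - 1)) x = x := by
  rw [Finset.mem_Ico] at hi
  let S : Subgroup (MulAut Q) :=
    { carrier := {g | g x = x}
      one_mem' := rfl
      mul_mem' := fun {a b} (ha : a x = x) (hb : b x = x) => by
        show (a * b) x = x
        rw [MulAut.mul_apply, hb, ha]
      inv_mem' := fun {a} (ha : a x = x) => by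
        show a⁻¹ x = x
        conv_lhs => rw [← ha]
        exact a.symm_apply_apply x }
  obtain ⟨j, hj, hgcd⟩ := (Nat.dvd_prime_pow hp.out).1 (Nat.gcd_dvd_right i (p ^ n))
  have hjn : j ≤ n - 1 := by
    rcases Nat.eq_or_lt_of_le hj with h | h
    · exfalso
      have h1 : i.gcd (p ^ n) ≤ i := Nat.le_of_dvd hi.1 (Nat.gcd_dvd_left _ _)
      rw [hgcd, h] at h1
      omega
    · omega
  have h1 : σ ^ (i.gcd (p ^ n)) ∈ S := by
    rw [← zpow_natCast, Nat.gcd_eq_gcd_ab, zpow_add, zpow_mul, zpow_mul, zpow_natCast,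
      zpow_natCast, hσ, one_zpow, mul_one]
    exact S.zpow_mem hx _
  obtain ⟨t, ht⟩ := pow_dvd_pow p hjn
  show σ ^ p ^ (n - 1) ∈ S
  rw [ht, pow_mul, ← hgcd]
  exact S.pow_mem h1 t

private theorem comm_rearrange {G : Type w} [Group G] (hc : ∀ x y : G, x * y = y * x)
    (A B C D : G) : (A⁻¹ * C)⁻¹ * (B⁻¹ * D) = (A⁻¹ * B)⁻¹ * (C⁻¹ * D) := by
  simp only [mul_inv_rev, inv_inv, mul_assoc]
  rw [← mul_assoc C⁻¹, hc C⁻¹ A, mul_assoc, ← mul_assoc C⁻¹, hc C⁻¹ B⁻¹, mul_assoc,
    ← mul_assoc A, hc A B⁻¹, mul_assoc]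

variable {K : Type u} [Field K] [IsAlgClosed K] {V : Type v} [AddCommGroup V] [Module K V]
  [FiniteDimensional K V] {p n q : ℕ} [hp : Fact p.Prime] [hq : Fact q.Prime]

/-- The key step of the theorem of Shult and Gross. -/
theorem tau_eq_one (hp2 : p ≠ 2) (hn : 1 ≤ n) (hpK : (p : K) ≠ 0) (hqK : (q : K) ≠ 0) :
    ∀ (b : ℕ) {Q : Type w} [Group Q] [Finite Q], Nat.card Q ≤ b → IsPGroup q Q →
    ∀ σ : MulAut Q, σ ^ p ^ n = 1 → (∀ x, σ x = x → x = 1) →
    ∀ ψ : Q →* Module.End K V, Function.Injective ψ →
    ∀ s : Module.End K V, s ^ p ^ n = 1 → (∀ x, s * ψ x = ψ (σ x) * s) →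
      ∑ i ∈ range (p ^ n), s ^ i = 0 → ∀ x, (σ ^ p ^ (n - 1)) x = x := by
  intro b
  induction b with
  | zero => intro Q _ _ hc; exact absurd hc (Nat.not_le.2 Nat.card_pos)
  | succ b ih =>
    intro Q _ _ hc hQ σ hσ hfpf ψ hψ s hs hcompat hT
    by_contra! hne
    set τ := σ ^ p ^ (n - 1) with hτ
    obtain ⟨e₀, he₀⟩ := IsPGroup.iff_card.1 hQ
    have hQK : (Nat.card Q : K) ≠ 0 := by
      rw [he₀, Nat.cast_pow]
      exact pow_ne_zero _ hqK
    have hτσ : ∀ x, τ (σ x) = σ (τ x) := fun x => by
      rw [← MulAut.mul_apply, ← MulAut.mul_apply, hτ, ← pow_succ, ← pow_succ']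
    have hσpow : ∀ (L : Subgroup Q), (∀ x ∈ L, σ x ∈ L) → ∀ (i : ℕ), ∀ x ∈ L, (σ ^ i) x ∈ L := by
      intro L hL i x hx
      induction i with
      | zero => simpa using hx
      | succ i ih => rw [pow_succ', MulAut.mul_apply]; exact hL _ ih
    -- proper invariant subgroups are centralised by `τ`
    have hsmall : ∀ L : Subgroup Q, (∀ x ∈ L, σ x ∈ L) → L ≠ ⊤ → ∀ x ∈ L, τ x = x := by
      intro L hL hLt x hx
      let σL : MulAut L := MulEquiv.ofBijective
        ({ toFun := fun y => ⟨σ y, hL _ y.2⟩
           map_one' := Subtype.ext (map_one σ)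
           map_mul' := fun y z => Subtype.ext (map_mul σ _ _) } : L →* L)
        (Finite.injective_iff_bijective.1 fun y z h =>
          Subtype.ext (σ.injective (congrArg Subtype.val h)))
      have hσL : ∀ (i : ℕ) (y : L), ((σL ^ i) y : Q) = (σ ^ i) y := by
        intro i
        induction i with
        | zero => intro y; simp
        | succ i ih' =>
          intro y
          rw [pow_succ', MulAut.mul_apply, pow_succ' σ, MulAut.mul_apply, ← ih']
          rfl
      have hlt : Nat.card L < Nat.card Q :=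
        lt_of_le_of_ne (Nat.le_of_dvd Nat.card_pos (Subgroup.card_subgroup_dvd_card L))
          (fun he => hLt (Subgroup.eq_top_of_card_eq L he))
      have h := ih (Q := L) (by omega) (hQ.to_subgroup L) σL
        (MulEquiv.ext fun y => Subtype.ext (by rw [hσL, hσ, MulAut.one_apply, MulAut.one_apply]))
        (fun y hy => Subtype.ext (hfpf _ (congrArg Subtype.val hy)))
        (ψ.comp L.subtype) (hψ.comp L.subtype_injective) s hs (fun y => hcompat y) hT ⟨x, hx⟩
      have h' := congrArg Subtype.val h
      rwa [hσL] at h'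
    obtain ⟨x₁, hx₁⟩ := hne
    -- `Q` is generated by the commutators with `τ`
    set D := Subgroup.closure {y : Q | ∃ x, y = x⁻¹ * τ x} with hD
    have hDtop : D = ⊤ := by
      by_contra hDt
      have hDinv : ∀ y ∈ D, σ y ∈ D := by
        intro y hy
        refine (show D ≤ D.comap (σ : Q →* Q) from (Subgroup.closure_le _).2 ?_) hy
        rintro _ ⟨x, rfl⟩
        exact Subgroup.subset_closure ⟨σ x, by
          show σ (x⁻¹ * τ x) = (σ x)⁻¹ * τ (σ x)
          rw [map_mul, map_inv, hτσ]⟩
      apply hx₁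
      set d := x₁⁻¹ * τ x₁ with hd
      have hdfix : τ d = d := hsmall D hDinv hDt d (Subgroup.subset_closure ⟨x₁, rfl⟩)
      have hiter : ∀ i : ℕ, (τ ^ i) x₁ = x₁ * d ^ i := by
        intro i
        induction i with
        | zero => simp
        | succ i ih' =>
          rw [pow_succ', MulAut.mul_apply, ih', map_mul, map_pow, hdfix, pow_succ' d, ← mul_assoc,
            hd, mul_inv_cancel_left]
      have hτp : τ ^ p = 1 := by rw [hτ, ← pow_mul, ← pow_succ, Nat.sub_add_cancel hn, hσ]
      have h1 := hiter p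
      rw [hτp, MulAut.one_apply, left_eq_mul] at h1
      have hcop : p.Coprime (Nat.card Q) := by
        rw [hp.out.coprime_iff_not_dvd]
        intro hdvd
        letI : MulAction (Subgroup.zpowers σ) Q :=
          MulAction.compHom Q (Subgroup.zpowers σ).subtype
        have hP : IsPGroup p (Subgroup.zpowers σ) := by
          intro g
          refine ⟨n, Subtype.ext ?_⟩
          obtain ⟨k, hk⟩ := Subgroup.mem_zpowers_iff.1 g.2
          rw [SubgroupClass.coe_pow, OneMemClass.coe_one, ← hk, ← zpow_natCast, ← zpow_mul,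
            mul_comm, zpow_mul, zpow_natCast, hσ, one_zpow]
        obtain ⟨y, hy, hy1⟩ := hP.exists_fixed_point_of_prime_dvd_card_of_fixed_point Q hdvd
          (a := 1) (fun g => map_one (g : MulAut Q))
        exact hy1 (hfpf y (hy ⟨σ, Subgroup.mem_zpowers σ⟩)).symm
      have : orderOf d = 1 := Nat.eq_one_of_dvd_coprimes hcop (orderOf_dvd_of_pow_eq_one h1)
        (orderOf_dvd_natCard d)
      rw [orderOf_eq_one_iff, hd, inv_mul_eq_one] at this
      exact this.symm
    haveI : Nontrivial Q := ⟨⟨τ x₁, x₁, hx₁⟩⟩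
    -- the Frattini subgroup is the centre and `τ` has no fixed points modulo it
    set F := frattini Q with hF
    haveI hFn : F.Normal := by rw [hF]; infer_instance
    have hFne : F ≠ ⊤ := fun h => by
      have := frattini_nongenerating (G := Q) (K := ⊥) (by rw [bot_sup_eq, ← hF, h])
      exact bot_ne_top this
    have hFinv : ∀ y ∈ F, σ y ∈ F := fun y hy => by
      have h := Subgroup.characteristic_iff_map_eq.1 (inferInstance : (frattini Q).Characteristic) σ
      show σ y ∈ frattini Q
      rw [← h]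
      exact ⟨y, hy, rfl⟩
    have hFτ : ∀ y ∈ F, τ y = y := hsmall F hFinv hFne
    have hQ' : commutator Q ≤ F := CfsgLib.Solvable.commutator_le_frattini hQ
    have hFc : ∀ y ∈ F, ∀ x : Q, x * y = y * x := by
      intro y hy x
      have : D ≤ Subgroup.centralizer {y} := by
        refine (Subgroup.closure_le _).2 ?_
        rintro _ ⟨z, rfl⟩
        rw [SetLike.mem_coe, Subgroup.mem_centralizer_singleton_iff]
        have h1 := hFτ _ (hFn.conj_mem y hy z)
        rw [map_mul, map_mul, map_inv, hFτ y hy] at h1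
        calc z⁻¹ * τ z * y = z⁻¹ * (τ z * y * (τ z)⁻¹) * τ z := by group
          _ = z⁻¹ * (z * y * z⁻¹) * τ z := by rw [h1]
          _ = y * (z⁻¹ * τ z) := by group
      rw [hDtop] at this
      exact Subgroup.mem_centralizer_singleton_iff.1 (this (Subgroup.mem_top x))
    have hτF : ∀ x, x⁻¹ * τ x ∈ F → x ∈ F := by
      intro x hx
      have hab : ∀ a c : Q ⧸ F, a * c = c * a := by
        intro a c
        induction a using QuotientGroup.induction_on with
        | H a =>
          induction c using QuotientGroup.induction_on with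
          | H c =>
            rw [← QuotientGroup.mk_mul, ← QuotientGroup.mk_mul, QuotientGroup.eq]
            apply hQ'
            have := Subgroup.commutator_mem_commutator (Subgroup.mem_top c⁻¹) (Subgroup.mem_top a⁻¹)
            rw [commutatorElement_def, inv_inv, inv_inv] at this
            rw [mul_inv_rev, ← mul_assoc]
            exact this
      let f : Q ⧸ F →* Q ⧸ F := QuotientGroup.lift F
        { toFun := fun y => ((y⁻¹ * τ y : Q) : Q ⧸ F)
          map_one' := by simp
          map_mul' := fun y z => by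
            rw [map_mul]
            simp only [mul_inv_rev, QuotientGroup.mk_mul, QuotientGroup.mk_inv]
            rw [hab ((y : Q ⧸ F)⁻¹) ((τ y : Q) : Q ⧸ F)]
            calc ((z : Q ⧸ F))⁻¹ * (y : Q ⧸ F)⁻¹ * ((τ y : Q ⧸ F) * (τ z : Q ⧸ F))
                = (z : Q ⧸ F)⁻¹ * ((y : Q ⧸ F)⁻¹ * (τ y : Q ⧸ F)) * (τ z : Q ⧸ F) := by group
              _ = _ := by rw [hab (z : Q ⧸ F)⁻¹, hab ((y : Q ⧸ F)⁻¹), mul_assoc] }
        (fun y hy => by
          show ((y⁻¹ * τ y : Q) : Q ⧸ F) = 1
          rw [hFτ y hy, inv_mul_cancel, QuotientGroup.mk_one])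
      have hsur : Function.Surjective f := by
        intro a
        induction a using QuotientGroup.induction_on with
        | H y =>
          have : D ≤ f.range.comap (QuotientGroup.mk' F) := by
            refine (Subgroup.closure_le _).2 ?_
            rintro _ ⟨z, rfl⟩
            exact ⟨z, rfl⟩
          exact this (hDtop ▸ Subgroup.mem_top y)
      have hinj := (Finite.injective_iff_surjective (f := f)).2 hsur
      have h1 : f x = f 1 := by
        rw [map_one]
        exact (QuotientGroup.eq_one_iff _).2 hx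
      exact (QuotientGroup.eq_one_iff x).1 (hinj h1)
    have hfpfF : ∀ i ∈ Finset.Ico 1 (p ^ n), ∀ x, x⁻¹ * (σ ^ i) x ∈ F → x ∈ F := by
      intro i hi x hx
      apply hτF
      have hmap : F.map (σ : Q →* Q) = F :=
        Subgroup.eq_of_le_of_card_ge (by rintro _ ⟨y, hy, rfl⟩; exact hFinv y hy)
          (Subgroup.card_map_of_injective (f := (σ : Q →* Q)) σ.injective).ge
      let σF : MulAut (Q ⧸ F) := QuotientGroup.congr F F σ hmap
      have hσF : ∀ (j : ℕ) (y : Q), (σF ^ j) y = (((σ ^ j) y : Q) : Q ⧸ F) := by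
        intro j
        induction j with
        | zero => simp
        | succ j ih' => intro y; rw [pow_succ', MulAut.mul_apply, ih', pow_succ' σ]; rfl
      have hσFN : σF ^ p ^ n = 1 := MulEquiv.ext fun a => by
        induction a using QuotientGroup.induction_on with
        | H y => rw [hσF, hσ]; rfl
      have h1 := fixed_of_pow_fixed σF hσFN hi (x := (x : Q ⧸ F)) (by
        rw [hσF]; exact (QuotientGroup.eq.2 hx).symm)
      rw [hσF] at h1
      exact QuotientGroup.eq.1 h1.symm
    -- an element whose scalar will be non-trivial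
    obtain ⟨z₀, hz₀F, hz₀1, hz₀c⟩ : ∃ z : Q, (∀ x, x * z = z * x) ∧ z ≠ 1 ∧
        (z ∈ commutator Q ∨ ∀ a c : Q, a * c = c * a) := by
      by_cases h : ∀ a c : Q, a * c = c * a
      · exact ⟨τ x₁ * x₁⁻¹, fun x => h _ _, fun h' => hx₁ (mul_inv_eq_one.1 h'), Or.inr h⟩
      · push Not at h
        obtain ⟨a, c, hac⟩ := h
        have hmem := Subgroup.commutator_mem_commutator (Subgroup.mem_top a) (Subgroup.mem_top c)
        exact ⟨⁅a, c⁆, hFc _ (hQ' hmem), fun h' => hac (commutatorElement_eq_one_iff_mul_comm.1 h'),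
          Or.inl hmem⟩
    obtain ⟨μ, hμ, hμ1⟩ : ∃ μ, (ψ z₀).eigenspace μ ≠ ⊥ ∧ μ ≠ 1 := by
      by_contra! h
      apply hz₀1
      apply hψ
      rw [map_one]
      exact eq_one_of_eigen hQK _ (by rw [← map_pow, pow_card_eq_one', map_one]) h
    obtain ⟨M, ⟨hMi, hMb, hMle⟩, hmin⟩ := (wellFounded_lt (α := Submodule K V)).has_min
      {M | (∀ x, ∀ v ∈ M, ψ x v ∈ M) ∧ M ≠ ⊥ ∧ M ≤ (ψ z₀).eigenspace μ}
      ⟨(ψ z₀).eigenspace μ, fun x v hv => by
        rw [Module.End.mem_eigenspace_iff] at hv ⊢
        rw [← Module.End.mul_apply, ← map_mul, ← hz₀F x, map_mul, Module.End.mul_apply, hv,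
          map_smul], hμ, le_rfl⟩
    obtain ⟨v₀, hv₀, hv₀0⟩ := Submodule.exists_mem_ne_zero_of_ne_bot hMb
    -- the subgroup of scalars on `M`
    let R : Subgroup Q :=
      { carrier := {x | ∃ c : K, ∀ v ∈ M, ψ x v = c • v}
        one_mem' := ⟨1, fun v _ => by simp⟩
        mul_mem' := by
          rintro a b' ⟨c, hc'⟩ ⟨c', hc''⟩
          exact ⟨c' * c, fun v hv => by
            rw [map_mul, Module.End.mul_apply, hc'' v hv, map_smul, hc' v hv, smul_smul]⟩
        inv_mem' := by
          rintro a ⟨c, hc'⟩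
          refine ⟨c⁻¹, fun v hv => ?_⟩
          have h1 : v = c • ψ a⁻¹ v := by
            have h2 := hc' _ (hMi a⁻¹ v hv)
            rwa [← Module.End.mul_apply, ← map_mul, mul_inv_cancel, map_one,
              Module.End.one_apply] at h2
          rcases eq_or_ne c 0 with h0 | h0
          · rw [h0, zero_smul] at h1
            rw [h1, map_zero, smul_zero]
          · conv_rhs => rw [h1, smul_smul, inv_mul_cancel₀ h0, one_smul] }
    have hRspec : ∀ x : R, ∃ c : K, ∀ v ∈ M, ψ x v = c • v := fun x => x.2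
    choose lamf hlamf using hRspec
    have huniq : ∀ (x : Q) (hx : x ∈ R) (c : K), (∀ v ∈ M, ψ x v = c • v) → lamf ⟨x, hx⟩ = c :=
      fun x hx c hc' => smul_left_injective K hv₀0 ((hlamf ⟨x, hx⟩ v₀ hv₀).symm.trans (hc' v₀ hv₀))
    let lam : R →* K :=
      { toFun := lamf
        map_one' := huniq 1 (one_mem R) 1 (fun v _ => by simp)
        map_mul' := fun a b' => huniq _ _ _ fun v hv => by
          show ψ ((a : Q) * b') v = _
          rw [map_mul, Module.End.mul_apply, hlamf b' v hv, map_smul, hlamf a v hv, smul_smul,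
            mul_comm] }
    have hlam : ∀ (x : R), ∀ v ∈ M, ψ x v = lam x • v := hlamf
    haveI : Nontrivial M := Submodule.nontrivial_iff_ne_bot.2 hMb
    have hscalar : ∀ x : Q, (∀ y : Q, ∀ v ∈ M, ψ x (ψ y v) = ψ y (ψ x v)) → x ∈ R := by
      intro x hx
      obtain ⟨c, hc'⟩ := CfsgLib.HallHigman.exists_eq_smul_one_of_commute
        (fun y : Q => (ψ y).restrict (hMi y)) (fun W hW => by
          by_contra! h
          refine hmin (W.map M.subtype) ⟨?_, ?_, ?_⟩ ?_
          · rintro y _ ⟨w, hw, rfl⟩
            exact ⟨_, hW y w hw, rfl⟩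
          · intro hb
            refine h.1 ((Submodule.eq_bot_iff _).2 fun w hw => ?_)
            have : (w : V) ∈ W.map M.subtype := ⟨w, hw, rfl⟩
            rw [hb, Submodule.mem_bot] at this
            exact Subtype.ext this
          · exact (Submodule.map_subtype_le _ _).trans hMle
          · calc W.map M.subtype < (⊤ : Submodule K M).map M.subtype :=
                  Submodule.map_strictMono_of_injective M.subtype_injective
                    (lt_top_iff_ne_top.2 h.2)
              _ = M := Submodule.map_subtype_top M)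
        ((ψ x).restrict (hMi x)) (fun y => LinearMap.ext fun v => Subtype.ext (hx y v v.2))
      exact ⟨c, fun v hv => congrArg Subtype.val (LinearMap.congr_fun hc' ⟨v, hv⟩)⟩
    have hFR : F ≤ R := fun x hx => hscalar x fun y v _ => by
      rw [← Module.End.mul_apply, ← map_mul, ← hFc x hx y, map_mul, Module.End.mul_apply]
    have hcomm : commutator Q ≤ R := hQ'.trans hFR
    have hmemF : ∀ x y : Q, x * y * x⁻¹ * y⁻¹ ∈ F := fun x y => hQ' <| by
      have := Subgroup.commutator_mem_commutator (Subgroup.mem_top x) (Subgroup.mem_top y)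
      rwa [commutatorElement_def] at this
    let lamF : F →* K := lam.comp (Subgroup.inclusion hFR)
    have hRiff : ∀ x : Q, x ∈ R ↔ ∀ y, lamF ⟨_, hmemF x y⟩ = 1 := by
      intro x
      constructor
      · rintro ⟨c, hc'⟩ y
        refine huniq _ _ 1 fun v hv => ?_
        rw [one_smul]
        show ψ (x * y * x⁻¹ * y⁻¹) v = v
        have h1 : ∀ u ∈ M, ψ (x * y) u = ψ (y * x) u := fun u hu => by
          rw [map_mul, map_mul, Module.End.mul_apply, Module.End.mul_apply, hc' u hu, map_smul,
            hc' _ (hMi y u hu)]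
        rw [show x * y * x⁻¹ * y⁻¹ = (x * y) * (y * x)⁻¹ by group, map_mul, Module.End.mul_apply,
          h1 _ (hMi _ v hv), ← Module.End.mul_apply, ← map_mul, mul_inv_cancel, map_one,
          Module.End.one_apply]
      · intro h
        refine hscalar x fun y v hv => ?_
        have h1 : ψ (x * y * x⁻¹ * y⁻¹) (ψ (y * x) v) = (1 : K) • ψ (y * x) v := by
          rw [← h y]
          exact hlam ⟨_, hFR (hmemF x y)⟩ _ (hMi _ v hv)
        rw [← Module.End.mul_apply, ← map_mul, one_smul,
          show x * y * x⁻¹ * y⁻¹ * (y * x) = x * y by group, map_mul, map_mul] at h1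
        exact h1
    haveI hRn : R.Normal := ⟨fun x hx g => by
      have h1 : g * x * g⁻¹ = g * x * g⁻¹ * x⁻¹ * x := by group
      rw [h1]
      exact mul_mem (hFR (hmemF g x)) hx⟩
    have hN : 0 < p ^ n := pow_pos hp.out.pos n
    -- the case that all of `Q` is scalar
    by_cases hRtop : R = ⊤
    · have hz₀R : z₀ ∈ R := hRtop ▸ Subgroup.mem_top z₀
      have hlamz : lam ⟨z₀, hz₀R⟩ = μ :=
        huniq _ _ μ fun v hv => Module.End.mem_eigenspace_iff.1 (hMle hv)
      rcases hz₀c with hz₀c | hab
      · apply hμ1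
        have : commutator Q ≤ lam.ker.map R.subtype := by
          rw [commutator_def, Subgroup.commutator_le]
          intro a _ c _
          refine ⟨⟨⁅a, c⁆, hRtop ▸ Subgroup.mem_top _⟩, huniq _ _ 1 fun v hv => ?_, rfl⟩
          rw [one_smul]
          have := (hRiff a).1 (hRtop ▸ Subgroup.mem_top a) c
          have h2 := hlam ⟨_, hFR (hmemF a c)⟩ v hv
          rw [show lam ⟨_, hFR (hmemF a c)⟩ = 1 from this, one_smul] at h2
          rw [commutatorElement_def]
          exact h2
        obtain ⟨⟨z, hz⟩, hzk, hze⟩ := this hz₀c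
        simp only [Subgroup.coe_subtype] at hze
        subst hze
        exact hlamz.symm.trans hzk
      · -- `τ` has no fixed points on an abelian group
        have hτ1 : ∀ x, τ x = x → x = 1 := by
          intro x hx
          let g : Q →* Q :=
            { toFun := fun y => y⁻¹ * τ y
              map_one' := by simp
              map_mul' := fun y z => by
                rw [map_mul, mul_inv_rev, hab z⁻¹ y⁻¹, mul_assoc, ← mul_assoc z⁻¹, hab z⁻¹ (τ y),
                  mul_assoc, ← mul_assoc] }
          have hsur : Function.Surjective g := by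
            intro y
            have : D ≤ g.range := (Subgroup.closure_le _).2 (by rintro _ ⟨z, rfl⟩; exact ⟨z, rfl⟩)
            exact this (hDtop ▸ Subgroup.mem_top y)
          apply (Finite.injective_iff_surjective (f := g)).2 hsur
          show x⁻¹ * τ x = (1 : Q)⁻¹ * τ 1
          simp [hx]
        obtain ⟨P, hP0, hPN, hiff, hsplit⟩ := sum_stab σ R (fun z _ => hRtop ▸ Subgroup.mem_top _)
          (by rwa [hRtop, Subgroup.card_top]) ψ lam hN hσ s hcompat
        rcases eq_or_lt_of_le (Nat.le_of_dvd hN hPN) with hPe | hPlt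
        · have h := hsplit v₀ (fun z => hlam z v₀ hv₀) (by rw [hT, LinearMap.zero_apply])
          rw [hPe, Nat.div_self hN, Finset.sum_range_one, pow_zero, Module.End.one_apply] at h
          exact hv₀0 h
        · have hinj : Function.Injective (fun x : Q => x⁻¹ * (σ ^ P) x) := by
            intro x y hxy
            simp only at hxy
            have h2 : (σ ^ P) (y * x⁻¹) = y * x⁻¹ := by
              have h3 : (σ ^ P) y = y * (x⁻¹ * (σ ^ P) x) := by rw [hxy, mul_inv_cancel_left]
              rw [map_mul, map_inv, h3]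
              group
            exact (mul_inv_eq_one.1 (hτ1 _ (fixed_of_pow_fixed σ hσ
              (Finset.mem_Ico.2 ⟨hP0, hPlt⟩) h2))).symm
          obtain ⟨x, hx⟩ := Finite.surjective_of_injective hinj z₀
          simp only at hx
          apply hμ1
          rw [← hlamz]
          have hxR : x ∈ R := hRtop ▸ Subgroup.mem_top x
          have hσxR : (σ ^ P) x ∈ R := hRtop ▸ Subgroup.mem_top _
          rw [show (⟨z₀, hz₀R⟩ : R) = ⟨x, hxR⟩⁻¹ * ⟨_, hσxR⟩ from Subtype.ext hx.symm, map_mul,
            (hiff P).1 dvd_rfl ⟨x, hxR⟩ hσxR, ← map_mul, inv_mul_cancel, map_one]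
    -- splitting off the stabiliser
    have hFK : (Nat.card F : K) ≠ 0 := fun h => hQK (by
      obtain ⟨t, ht⟩ := Subgroup.card_subgroup_dvd_card F
      rw [ht, Nat.cast_mul, h, zero_mul])
    obtain ⟨P, hP0, hPN, hPiff, hPsplit⟩ := sum_stab σ F hFinv hFK ψ lamF hN hσ s hcompat
    have hσP : ∀ z ∈ F, (σ ^ P) z ∈ F := hσpow F hFinv P
    have hRP : ∀ z ∈ R, (σ ^ P) z ∈ R := by
      intro z hz
      rw [hRiff]
      intro y
      obtain ⟨y', rfl⟩ := (σ ^ P).surjective y
      rw [← (hRiff z).1 hz y', ← (hPiff P).1 dvd_rfl ⟨_, hmemF z y'⟩ (hσP _ (hmemF z y'))]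
      congr 1
      exact Subtype.ext (by simp)
    have hRK : (Nat.card R : K) ≠ 0 := fun h => hQK (by
      obtain ⟨t, ht⟩ := Subgroup.card_subgroup_dvd_card R
      rw [ht, Nat.cast_mul, h, zero_mul])
    obtain ⟨P₂, hP20, hP2N, hP2iff, hP2split⟩ := sum_stab (σ ^ P) R hRP hRK ψ lam
      (Nat.div_pos (Nat.le_of_dvd hN hPN) hP0)
      (by rw [← pow_mul, Nat.mul_div_cancel' hPN, hσ]) (s ^ P)
      (fun x => by
        clear hPsplit hRP hσP hPiff hPN hP0
        induction P with
        | zero => simp
        | succ P ihP =>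
          rw [pow_succ' s, mul_assoc, ihP, ← mul_assoc, hcompat, mul_assoc, pow_succ' σ,
            MulAut.mul_apply])
    set N₂ := p ^ n / P / P₂ with hN₂
    have hPP : P * P₂ * N₂ = p ^ n := by
      rw [hN₂, mul_assoc, Nat.mul_div_cancel' hP2N, Nat.mul_div_cancel' hPN]
    set σ₂ := (σ ^ P) ^ P₂ with hσ₂
    set s₂ := (s ^ P) ^ P₂ with hs₂
    have hc2 : ∀ x, s₂ * ψ x = ψ (σ₂ x) * s₂ := by
      intro x
      rw [hs₂, hσ₂, ← pow_mul, ← pow_mul]
      induction P * P₂ with
      | zero => simp
      | succ j ihj =>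
        rw [pow_succ' s, mul_assoc, ihj, ← mul_assoc, hcompat, mul_assoc, pow_succ' σ,
          MulAut.mul_apply]
    have hR2 : ∀ z ∈ R, σ₂ z ∈ R := by
      intro z hz
      rw [hσ₂]
      clear hP2iff hP2split hN₂ hPP hσ₂ hs₂ hc2 hP2N hP20
      induction P₂ with
      | zero => simpa using hz
      | succ j ihj => rw [pow_succ', MulAut.mul_apply]; exact hRP _ ihj
    set V₂ := charSpace ψ lam with hV₂
    have hMV : M ≤ V₂ := fun v hv z => hlam z v hv
    have hlamconj : ∀ (x : Q) (z : R), lam ⟨x⁻¹ * z * x, by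
        simpa using hRn.conj_mem (z : Q) z.2 x⁻¹⟩ = lam z := by
      intro x z
      refine huniq _ _ _ fun v hv => ?_
      rw [mul_assoc, map_mul, map_mul, Module.End.mul_apply, Module.End.mul_apply,
        hlam z _ (hMi x v hv), map_smul, ← Module.End.mul_apply, ← map_mul, inv_mul_cancel,
        map_one, Module.End.one_apply]
    have hV₂i : ∀ x, ∀ v ∈ V₂, ψ x v ∈ V₂ := by
      intro x v hv z
      have h1 : (z : Q) * x = x * (x⁻¹ * z * x) := by group
      rw [← Module.End.mul_apply, ← map_mul, h1, map_mul, Module.End.mul_apply,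
        hv ⟨x⁻¹ * z * x, by simpa using hRn.conj_mem (z : Q) z.2 x⁻¹⟩, map_smul, hlamconj x z]
    have hV₂s : ∀ v ∈ V₂, s₂ v ∈ V₂ := by
      intro v hv z
      have hb : Function.Bijective (fun y : R => (⟨σ₂ y, hR2 y y.2⟩ : R)) :=
        Finite.injective_iff_bijective.1 fun a c h =>
          Subtype.ext (σ₂.injective (congrArg Subtype.val h))
      obtain ⟨y, rfl⟩ := hb.2 z
      show ψ (σ₂ y) (s₂ v) = _
      rw [← Module.End.mul_apply, ← hc2, Module.End.mul_apply, hv y, map_smul,
        (hP2iff P₂).1 dvd_rfl y (hR2 y y.2)]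
    haveI : Nontrivial V₂ := ⟨⟨⟨v₀, hMV hv₀⟩, 0, fun h => hv₀0 (congrArg Subtype.val h)⟩⟩
    let ψ₂ : Q →* Module.End K V₂ :=
      { toFun := fun x => (ψ x).restrict (hV₂i x)
        map_one' := LinearMap.ext fun v => Subtype.ext (by simp)
        map_mul' := fun x y => LinearMap.ext fun v => Subtype.ext (by simp [Module.End.mul_apply]) }
    have hspow : ∀ (j : ℕ) (v : V₂), (((s₂.restrict hV₂s) ^ j) v : V) = (s₂ ^ j) v := by
      intro j
      induction j with
      | zero => intro v; simp
      | succ j ihj =>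
        intro v
        rw [pow_succ', Module.End.mul_apply, pow_succ' s₂, Module.End.mul_apply, ← ihj]
        rfl
    have hsN : s₂ ^ N₂ = 1 := by rw [hs₂, ← pow_mul, ← pow_mul, ← mul_assoc, hPP, hs]
    have hσ₂pow : ∀ i, σ₂ ^ i = σ ^ (P * P₂ * i) := fun i => by rw [hσ₂, ← pow_mul, ← pow_mul, mul_assoc]
    have hN₂K : (N₂ : K) ≠ 0 := fun h => by
      have h1 : ((p ^ n : ℕ) : K) = 0 := by rw [← hPP, Nat.cast_mul, h, mul_zero]
      rw [Nat.cast_pow] at h1
      exact pow_ne_zero n hpK h1
    have hnd : ∀ x, x ∉ R → ∃ (y : Q) (h : x * y * x⁻¹ * y⁻¹ ∈ R), lam ⟨_, h⟩ ≠ 1 := by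
      intro x hx
      by_contra! h
      exact hx ((hRiff x).2 fun y => h y (hFR (hmemF x y)))
    have hfpfR : ∀ i ∈ Finset.Ico 1 (p ^ n), (∀ z ∈ R, (σ ^ i) z ∈ R) →
        ∀ x, x⁻¹ * (σ ^ i) x ∈ R → x ∈ R := by
      intro i hi hRi x hx
      have hmapF : ∀ y ∈ F, (σ ^ i) y ∈ F := hσpow F hFinv i
      -- the commutation map is bijective modulo `F`, hence modulo `R`
      have hwd : ∀ (L : Subgroup Q) [L.Normal], F ≤ L → (∀ y ∈ L, (σ ^ i) y ∈ L) →
          ∀ a c : Q, a⁻¹ * c ∈ L →
            ((a⁻¹ * (σ ^ i) a : Q) : Q ⧸ L) = ((c⁻¹ * (σ ^ i) c : Q) : Q ⧸ L) := by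
        intro L _ _ hLi a c hac
        have h1 : (a : Q ⧸ L) = (c : Q ⧸ L) := QuotientGroup.eq.2 hac
        have h2 : (((σ ^ i) a : Q) : Q ⧸ L) = (((σ ^ i) c : Q) : Q ⧸ L) := QuotientGroup.eq.2 (by
          rw [← map_inv, ← map_mul]; exact hLi _ hac)
        simp only [QuotientGroup.mk_mul, QuotientGroup.mk_inv, h1, h2]
      let gF : Q ⧸ F → Q ⧸ F := fun a => ((a.out⁻¹ * (σ ^ i) a.out : Q) : Q ⧸ F)
      let gR : Q ⧸ R → Q ⧸ R := fun a => ((a.out⁻¹ * (σ ^ i) a.out : Q) : Q ⧸ R)
      have hgF : ∀ a : Q, gF a = ((a⁻¹ * (σ ^ i) a : Q) : Q ⧸ F) := fun a =>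
        hwd F le_rfl hmapF _ a (QuotientGroup.eq.1 (QuotientGroup.out_eq' _))
      have hgR : ∀ a : Q, gR a = ((a⁻¹ * (σ ^ i) a : Q) : Q ⧸ R) := fun a =>
        hwd R hFR hRi _ a (QuotientGroup.eq.1 (QuotientGroup.out_eq' _))
      have hinjF : Function.Injective gF := by
        intro a c h
        induction a using QuotientGroup.induction_on with
        | H a =>
          induction c using QuotientGroup.induction_on with
          | H c =>
            rw [hgF, hgF] at h
            apply QuotientGroup.eq.2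
            apply hfpfF i hi
            have hcq : ∀ u v : Q ⧸ F, u * v = v * u := fun u v => by
              induction u using QuotientGroup.induction_on with
              | H u =>
                induction v using QuotientGroup.induction_on with
                | H v =>
                  rw [← QuotientGroup.mk_mul, ← QuotientGroup.mk_mul, QuotientGroup.eq,
                    show (u * v)⁻¹ * (v * u) = v⁻¹ * u⁻¹ * v⁻¹⁻¹ * u⁻¹⁻¹ by group]
                  exact hmemF _ _
            rw [← QuotientGroup.eq_one_iff]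
            simp only [map_mul, map_inv, QuotientGroup.mk_mul, QuotientGroup.mk_inv] at h ⊢
            rw [comm_rearrange hcq, h, inv_mul_cancel]
      have hsurR : Function.Surjective gR := by
        intro a
        induction a using QuotientGroup.induction_on with
        | H a =>
          obtain ⟨b', hb'⟩ := Finite.surjective_of_injective hinjF (a : Q ⧸ F)
          induction b' using QuotientGroup.induction_on with
          | H b' =>
            refine ⟨(b' : Q ⧸ R), ?_⟩
            rw [hgF, QuotientGroup.eq] at hb'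
            rw [hgR, QuotientGroup.eq]
            exact hFR hb'
      have h1 : gR (x : Q ⧸ R) = gR ((1 : Q) : Q ⧸ R) := by
        rw [hgR, hgR]
        simpa using (QuotientGroup.eq_one_iff _).2 hx
      have h2 := (Finite.injective_iff_surjective (f := gR)).2 hsurR h1
      exact (QuotientGroup.eq_one_iff x).1 (h2.trans (QuotientGroup.mk_one R))
    obtain ⟨⟨d, hdN, hdW⟩, -⟩ := monomial_exception (V := V₂) R hQK lam ψ₂
      (fun z => LinearMap.ext fun v => Subtype.ext (v.2 z)) hcomm hnd hRtop σ₂ hR2 hN₂K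
      (s₂.restrict hV₂s)
      (LinearMap.ext fun v => Subtype.ext (by rw [hspow, hsN]; rfl))
      (fun x => LinearMap.ext fun v => Subtype.ext (LinearMap.congr_fun (hc2 x) v))
      (LinearMap.ext fun v => Subtype.ext (by
        have h1 := hP2split v v.2 (hPsplit v (fun z => v.2 (Subgroup.inclusion hFR z))
          (by rw [hT, LinearMap.zero_apply]))
        rw [LinearMap.sum_apply, Submodule.coe_sum, Finset.sum_congr rfl fun j _ => hspow j v,
          ← LinearMap.sum_apply]
        exact h1))
      (fun i hi x hx => by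
        have hRi : ∀ z ∈ R, (σ₂ ^ i) z ∈ R := fun z hz => by
          clear hi hx
          induction i with
          | zero => simpa using hz
          | succ j ihj => rw [pow_succ', MulAut.mul_apply]; exact hR2 _ ihj
        rw [hσ₂pow] at hx hRi
        rw [Finset.mem_Ico] at hi
        refine hfpfR _ (Finset.mem_Ico.2 ⟨Nat.mul_pos (Nat.mul_pos hP0 hP20) hi.1, ?_⟩) hRi x hx
        rw [← hPP]
        exact Nat.mul_lt_mul_of_pos_left hi.2 (Nat.mul_pos hP0 hP20))
    -- arithmetic of the exception
    obtain ⟨k, hk, hkN⟩ := (Nat.dvd_prime_pow hp.out).1 (⟨P * P₂, by rw [mul_comm, hPP]⟩ : N₂ ∣ p ^ n)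
    have hk1 : 1 ≤ k := by
      rcases Nat.eq_zero_or_pos k with h | h
      · exfalso
        rw [h, pow_zero] at hkN
        have hd0 : d = 0 := by omega
        rw [hd0] at hdW
        exact Nat.card_pos.ne' hdW
      · exact h
    obtain ⟨a, ha⟩ := (Nat.dvd_prime_pow hq.out).1
      (show Nat.card (Q ⧸ R) ∣ q ^ e₀ from he₀ ▸ Subgroup.card_quotient_dvd_card R)
    obtain ⟨m, hma, hdm⟩ := (Nat.dvd_prime_pow hq.out).1
      (show d ∣ q ^ a from ⟨d, by rw [← ha.2, hdW, pow_two]⟩)
    have hq2 : q = 2 := by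
      have hodd : Odd (p ^ k) := (hp.out.odd_of_ne_two hp2).pow
      have h2 : 2 ∣ q ^ m := by
        rw [← hdm]
        obtain ⟨t, ht⟩ := hodd
        exact ⟨t, by omega⟩
      exact ((Nat.prime_dvd_prime_iff_eq Nat.prime_two hq.out).1 (Nat.prime_two.dvd_of_dvd_pow h2)).symm
    subst hq2
    -- the quotient by `F` is a sum of conjugates of the quotient by `R`
    let f : Q ⧸ F → (Fin P → Q ⧸ R) := fun a i => (((σ ^ (i : ℕ)) a.out : Q) : Q ⧸ R)
    have hf : ∀ (x : Q) (i : Fin P), f x i = (((σ ^ (i : ℕ)) x : Q) : Q ⧸ R) := fun x i => by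
      show (((σ ^ (i : ℕ)) _ : Q) : Q ⧸ R) = _
      rw [QuotientGroup.eq, ← map_inv, ← map_mul]
      exact hFR (hσpow F hFinv _ _ (QuotientGroup.eq.1 (QuotientGroup.out_eq' _)))
    let K₀ : Subgroup Q :=
      { carrier := {x | ∀ i < P, (σ ^ i) x ∈ R}
        one_mem' := fun i _ => by rw [map_one]; exact one_mem R
        mul_mem' := fun {a c} ha' hc' i hi => by rw [map_mul]; exact mul_mem (ha' i hi) (hc' i hi)
        inv_mem' := fun {a} ha' i hi => by rw [map_inv]; exact inv_mem (ha' i hi) }
    have hK₀F : ∀ x ∈ K₀, x ∈ F := by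
      intro x hx
      refine hτF x ?_
      rw [hsmall K₀ (fun y hy i hi => ?_) (fun h => hRtop (eq_top_iff.2 fun y _ => ?_)) x hx,
        inv_mul_cancel]
      · exact one_mem F
      · rw [← MulAut.mul_apply, ← pow_succ]
        rcases Nat.lt_or_ge (i + 1) P with h | h
        · exact hy _ h
        · rw [show i + 1 = P by omega]
          exact hRP _ (by simpa using hy 0 hP0)
      · simpa using (h ▸ Subgroup.mem_top y : y ∈ K₀) 0 hP0
    have hfinj : Function.Injective f := by
      intro a c h
      induction a using QuotientGroup.induction_on with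
      | H a =>
        induction c using QuotientGroup.induction_on with
        | H c =>
          refine QuotientGroup.eq.2 (hK₀F _ fun i hi => ?_)
          have h1 := congrFun h ⟨i, hi⟩
          rw [hf, hf, QuotientGroup.eq] at h1
          rw [map_mul, map_inv]
          exact h1
    obtain ⟨e, he⟩ := (Nat.dvd_prime_pow hq.out).1
      (show Nat.card (Q ⧸ F) ∣ 2 ^ e₀ from he₀ ▸ Subgroup.card_quotient_dvd_card F)
    have hdiv : p ^ n ∣ 2 ^ e - 1 := by
      rw [← he.2]
      have hmap : F.map (σ : Q →* Q) = F :=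
        Subgroup.eq_of_le_of_card_ge (by rintro _ ⟨y, hy, rfl⟩; exact hFinv y hy)
          (Subgroup.card_map_of_injective (f := (σ : Q →* Q)) σ.injective).ge
      let π : Equiv.Perm (Q ⧸ F) := (QuotientGroup.congr F F σ hmap).toEquiv
      have hπ : ∀ (j : ℕ) (y : Q), (π ^ j) (y : Q ⧸ F) = (((σ ^ j) y : Q) : Q ⧸ F) := by
        intro j
        induction j with
        | zero => simp
        | succ j ih' => intro y; rw [pow_succ', Equiv.Perm.mul_apply, ih', pow_succ' σ]; rfl
      refine dvd_card_sub_one hN π 1 (Equiv.ext fun w => ?_) (by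
        rw [← QuotientGroup.mk_one]; exact (congrArg QuotientGroup.mk (map_one σ))) ?_
      · induction w using QuotientGroup.induction_on with
        | H y => rw [hπ, hσ]; rfl
      · intro i hi w hw hfix
        induction w using QuotientGroup.induction_on with
        | H y =>
          rw [hπ, eq_comm, QuotientGroup.eq] at hfix
          exact hw ((QuotientGroup.eq_one_iff y).2 (hfpfF i hi y hfix))
    have hpk : 2 ^ m + 1 = p ^ k := by rw [← hdm, ← hkN]; exact hdN
    have he_dvd := two_mul_mul_dvd_of_pow_dvd hp2 hk1 hk hpk hdiv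
    have hcardle : 2 ^ e ≤ (2 ^ (2 * m)) ^ P := by
      have h := Nat.card_le_card_of_injective f hfinj
      rw [Nat.card_fun, Nat.card_eq_fintype_card (α := Fin P), Fintype.card_fin, he.2, hdW, hdm]
        at h
      rwa [← pow_mul 2 m 2, mul_comm m 2] at h
    have hPk : P ∣ p ^ (n - k) := by
      have h1 : P * P₂ * p ^ k = p ^ (n - k) * p ^ k := by
        rw [← hkN, hPP, hkN, ← pow_add, Nat.sub_add_cancel hk]
      exact ⟨P₂, (Nat.eq_of_mul_eq_mul_right (pow_pos hp.out.pos k) h1).symm⟩
    have he0 : e ≠ 0 := by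
      intro h
      haveI : Nontrivial (Q ⧸ F) := QuotientGroup.nontrivial_iff.2 hFne
      have h1 : 1 < Nat.card (Q ⧸ F) := Finite.one_lt_card
      rw [he.2, h, pow_zero] at h1
      exact lt_irrefl 1 h1
    have hcardeq : Nat.card (Q ⧸ F) = Nat.card (Fin P → Q ⧸ R) := by
      rw [Nat.card_fun, Nat.card_eq_fintype_card (α := Fin P), Fintype.card_fin, he.2, hdW, hdm,
        ← pow_mul 2 m 2, mul_comm m 2]
      refine le_antisymm hcardle ?_
      rw [← pow_mul]
      refine Nat.pow_le_pow_right (by norm_num) (Nat.le_of_dvd (Nat.pos_of_ne_zero he0) ?_)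
      exact (Nat.mul_dvd_mul_left _ hPk).trans he_dvd
    have hfsur : Function.Surjective f := by
      cases nonempty_fintype (Q ⧸ F)
      cases nonempty_fintype (Fin P → Q ⧸ R)
      exact ((Fintype.bijective_iff_injective_and_card f).2
        ⟨hfinj, by rw [← Nat.card_eq_fintype_card, ← Nat.card_eq_fintype_card, hcardeq]⟩).2
    -- an element with a non-trivial norm
    obtain ⟨x₀, -, hx₀⟩ := SetLike.exists_of_lt (lt_top_iff_ne_top.2 hRtop)
    obtain ⟨xb, hxb⟩ := hfsur (fun i => if (i : ℕ) = 0 then (x₀ : Q ⧸ R) else 1)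
    induction xb using QuotientGroup.induction_on with
    | H x =>
    have hx0 : x ∉ R := by
      intro hxR
      have h1 := congrFun hxb ⟨0, hP0⟩
      rw [hf] at h1
      simp only [pow_zero, MulAut.one_apply, ↓reduceIte] at h1
      rw [(QuotientGroup.eq_one_iff x).2 hxR] at h1
      exact hx₀ ((QuotientGroup.eq_one_iff x₀).1 h1.symm)
    obtain ⟨y, hy, hne'⟩ := hnd x hx0
    set z : F := ⟨_, hmemF x y⟩ with hz
    letI : CommGroup F := { (inferInstance : Group F) with
      mul_comm := fun a c => Subtype.ext (hFc c c.2 a) }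
    let σF : ℕ → F := fun i => ⟨(σ ^ i) z, hσpow F hFinv i z z.2⟩
    have hperiod : ∀ i, lamF (σF i) = if P ∣ i then lamF z else 1 := by
      intro i
      split_ifs with hi
      · exact (hPiff i).1 hi z _
      · have hmod : i % P < P ∧ i % P ≠ 0 :=
          ⟨Nat.mod_lt _ hP0, fun h => hi (Nat.dvd_of_mod_eq_zero h)⟩
        have h1 : lamF (σF i) = lamF (σF (i % P)) := by
          have h2 := (hPiff (P * (i / P))).1 (dvd_mul_right _ _) (σF (i % P)) (hσpow F hFinv _ _ (σF (i % P)).2)
          rw [← h2]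
          congr 1
          refine Subtype.ext ?_
          show (σ ^ i) (z : Q) = (σ ^ (P * (i / P))) ((σ ^ (i % P)) z)
          rw [← MulAut.mul_apply, ← pow_add, add_comm, Nat.mod_add_div]
        rw [h1]
        have hxi : (σ ^ (i % P)) x ∈ R := by
          have h3 := congrFun hxb ⟨i % P, hmod.1⟩
          rw [hf] at h3
          simp only [hmod.2, ↓reduceIte] at h3
          exact (QuotientGroup.eq_one_iff _).1 h3
        rw [← (hRiff _).1 hxi ((σ ^ (i % P)) y)]
        congr 1
        exact Subtype.ext (by simp [σF, hz])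
    have hprod : lamF (∏ i ∈ range (p ^ n), σF i) = 1 := by
      have hfix : σ ((∏ i ∈ range (p ^ n), σF i : F) : Q) = (∏ i ∈ range (p ^ n), σF i : F) := by
        let g : F →* F :=
          { toFun := fun a => ⟨σ a, hFinv _ a.2⟩
            map_one' := Subtype.ext (map_one σ)
            map_mul' := fun a c => Subtype.ext (map_mul σ _ _) }
        have h1 : g (∏ i ∈ range (p ^ n), σF i) = ∏ i ∈ range (p ^ n), σF i := by
          rw [map_prod]
          have h2 : ∀ i, g (σF i) = σF (i + 1) := fun i => Subtype.ext (by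
            show σ ((σ ^ i) (z : Q)) = (σ ^ (i + 1)) (z : Q)
            rw [pow_succ', MulAut.mul_apply])
          rw [Finset.prod_congr rfl fun i _ => h2 i]
          have h3 := Finset.prod_range_succ' σF (p ^ n)
          rw [Finset.prod_range_succ] at h3
          have h4 : σF (p ^ n) = σF 0 := Subtype.ext (by simp [σF, hσ])
          rw [h4] at h3
          exact (mul_right_cancel h3).symm
        exact congrArg Subtype.val h1
      have h5 : (∏ i ∈ range (p ^ n), σF i : F) = 1 := Subtype.ext (hfpf _ hfix)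
      rw [h5, map_one]
    rw [map_prod, Finset.prod_congr rfl (fun i _ => hperiod i), ← Finset.prod_filter,
      Finset.prod_const] at hprod
    apply hne'
    show lamF z = 1
    have hc1 : lamF z ^ Nat.card Q = 1 := by
      rw [← map_pow, show z ^ Nat.card Q = 1 from
        Subtype.ext (by simp), map_one]
    have hcnt : ((range (p ^ n)).filter fun i => P ∣ i).card ∣ p ^ n := by
      have : ((range (p ^ n)).filter fun i => P ∣ i).card = p ^ n / P := by
        have himg : ((range (p ^ n)).filter fun i => P ∣ i) =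
            (range (p ^ n / P)).image (P * ·) := by
          ext i
          simp only [Finset.mem_filter, Finset.mem_range, Finset.mem_image]
          constructor
          · rintro ⟨hi, hPi⟩
            exact ⟨i / P, Nat.div_lt_div_of_lt_of_dvd hPN hi, Nat.mul_div_cancel' hPi⟩
          · rintro ⟨j, hj, rfl⟩
            exact ⟨lt_of_lt_of_eq (Nat.mul_lt_mul_of_pos_left hj hP0) (Nat.mul_div_cancel' hPN),
              dvd_mul_right _ _⟩
        rw [himg, Finset.card_image_of_injective _ fun a b h => Nat.eq_of_mul_eq_mul_left hP0 h,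
          Finset.card_range]
      rw [this]
      exact Nat.div_dvd_of_dvd hPN
    obtain ⟨t, ht⟩ := hcnt
    have hc2' : lamF z ^ (p ^ n) = 1 := by rw [ht, pow_mul, hprod, one_pow]
    have hcop : (p ^ n).Coprime (Nat.card Q) := by
      rw [he₀]
      exact Nat.Coprime.pow _ _ ((Nat.coprime_primes hp.out Nat.prime_two).2 hp2)
    have h6 := pow_gcd_eq_one.2 ⟨hc2', hc1⟩
    rwa [hcop, pow_one] at h6

end CfsgLib.ShultGross
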