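import Mathlib
import Cfsg.Agent.ShultGross.Twist
import Cfsg.Agent.ShultGross.Module

/-!
The theorem of Shult and Gross on the Fitting height.
-/

set_option autoImplicit false

open Finset Module

namespace CfsgLib.ShultGross

universe u

theorem coprime_card_of_fpf {G : Type u} [Group G] [Finite G] {p n : ℕ} [hp : Fact p.Prime]
    (σ : MulAut G) (hσ : σ ^ p ^ n = 1) (hfpf : ∀ g, σ g = g → g = 1) :
    p.Coprime (Nat.card G) := by
  rw [hp.out.coprime_iff_not_dvd]
  intro hdvd
  letI : MulAction (Subgroup.zpowers σ) G := MulAction.compHom G (Subgroup.zpowers σ).subtype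
  have hP : IsPGroup p (Subgroup.zpowers σ) := by
    intro g
    refine ⟨n, Subtype.ext ?_⟩
    obtain ⟨k, hk⟩ := Subgroup.mem_zpowers_iff.1 g.2
    rw [SubgroupClass.coe_pow, OneMemClass.coe_one, ← hk, ← zpow_natCast, ← zpow_mul,
      mul_comm, zpow_mul, zpow_natCast, hσ, one_zpow]
  obtain ⟨y, hy, hy1⟩ := hP.exists_fixed_point_of_prime_dvd_card_of_fixed_point G hdvd
    (a := 1) (fun g => map_one (g : MulAut G))
  exact hy1 (hfpf y (hy ⟨σ, Subgroup.mem_zpowers σ⟩)).symm

/-- An automorphism of order `p` fixing its commutators is trivial on a group of order prime to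
`p`. -/
theorem eq_of_fixes_twist {G : Type u} [Group G] [Finite G] {p : ℕ} (τ : MulAut G)
    (hτ : τ ^ p = 1) (hcop : p.Coprime (Nat.card G)) (hfix : ∀ y ∈ twist τ, τ y = y) (x : G) :
    τ x = x := by
  set d := x⁻¹ * τ x with hd
  have hiter : ∀ i : ℕ, (τ ^ i) x = x * d ^ i := by
    intro i
    induction i with
    | zero => simp
    | succ i ih =>
      rw [pow_succ', MulAut.mul_apply, ih, map_mul, map_pow, hfix d (mem_twist τ x), pow_succ' d,
        ← mul_assoc, hd, mul_inv_cancel_left]
  have h1 := hiter p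
  rw [hτ, MulAut.one_apply, left_eq_mul] at h1
  have : orderOf d = 1 :=
    Nat.eq_one_of_dvd_coprimes hcop (orderOf_dvd_of_pow_eq_one h1) (orderOf_dvd_natCard d)
  rw [orderOf_eq_one_iff, hd, inv_mul_eq_one] at this
  exact this.symm

/-- A nilpotent invariant normal subgroup is centralised by `τ` as soon as its Sylow subgroups
are. -/
theorem fixed_of_sylow {G : Type u} [Group G] [Finite G] (τ : MulAut G) (F : Subgroup G)
    (h : ∀ q : ℕ, q.Prime → ∀ Q : Sylow q F, ∀ x ∈ (Q : Subgroup F), τ (x : G) = (x : G)) :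
    ∀ x ∈ F, τ x = x := by
  let W : Subgroup F :=
    { carrier := {x | τ (x : G) = (x : G)}
      one_mem' := map_one τ
      mul_mem' := fun {a b} (ha : τ (a : G) = a) (hb : τ (b : G) = b) => by
        show τ ((a : G) * b) = (a : G) * b
        rw [map_mul, ha, hb]
      inv_mem' := fun {a} (ha : τ (a : G) = a) => by
        show τ ((a : G)⁻¹) = (a : G)⁻¹
        rw [map_inv, ha] }
  have hW : W = ⊤ := by
    refine Subgroup.eq_top_of_le_card W (Nat.le_of_dvd Nat.card_pos ?_)
    refine (Nat.factorization_le_iff_dvd Nat.card_pos.ne' Nat.card_pos.ne').mp fun q => ?_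
    by_cases hq : q.Prime
    · haveI := Fact.mk hq
      obtain ⟨Q⟩ : Nonempty (Sylow q F) := inferInstance
      refine (hq.pow_dvd_iff_le_factorization Nat.card_pos.ne').mp ?_
      rw [← Q.card_eq_multiplicity]
      exact Subgroup.card_dvd_of_le fun x hx => h q hq Q x hx
    · simp [hq]
  intro x hx
  exact (show (⟨x, hx⟩ : F) ∈ W from hW ▸ Subgroup.mem_top _)

/-- For an odd prime, the commutators with `σ ^ p ^ (n - 1)` generate a nilpotent subgroup. -/
theorem twist_nilpotent {p n : ℕ} [hp : Fact p.Prime] (hp2 : p ≠ 2) (hn : 1 ≤ n) :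
    ∀ (b : ℕ) {G : Type u} [Group G] [Finite G], Nat.card G ≤ b → Group.IsSolvable G →
    ∀ σ : MulAut G, σ ^ p ^ n = 1 → (∀ g, σ g = g → g = 1) →
      Group.IsNilpotent (twist (σ ^ p ^ (n - 1))) := by
  intro b
  induction b with
  | zero => intro G _ _ hc; exact absurd hc (Nat.not_le.2 Nat.card_pos)
  | succ b ih =>
    intro G _ _ hc hsolv σ hσ hfpf
    rcases subsingleton_or_nontrivial G with hG | hG
    · infer_instance
    haveI := hsolv
    obtain ⟨M, r, hr, hMn, hMi, hMb, hMab, hexp, hrM, hmin⟩ := exists_minimal_invariant hsolv σ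
    haveI := hMn
    haveI := Fact.mk hr
    set C := (MulAut.conjNormal : G →* MulAut M).ker with hCdef
    have hC : ∀ g, g ∈ C ↔ ∀ x ∈ M, g * x = x * g := by
      intro g
      rw [hCdef, MonoidHom.mem_ker]
      constructor
      · intro h x hx
        have := congrArg (fun f : MulAut M => ((f ⟨x, hx⟩ : M) : G)) h
        simpa [mul_inv_eq_iff_eq_mul] using this
      · intro h
        ext x
        simp [h x x.2]
    have hMC : M ≤ C := fun x hx => (hC x).2 fun y hy => hMab x hx y hy
    have hCi : ∀ g ∈ C, σ g ∈ C := by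
      intro g hg
      rw [hC] at hg ⊢
      intro x hx
      have hb : Function.Bijective (fun y : M => (⟨σ y, hMi _ y.2⟩ : M)) :=
        Finite.injective_iff_bijective.1 fun a c h =>
          Subtype.ext (σ.injective (congrArg Subtype.val h))
      obtain ⟨y, hy⟩ := hb.2 ⟨x, hx⟩
      have hy' : σ y = x := congrArg Subtype.val hy
      rw [← hy', ← map_mul, ← map_mul, hg _ y.2]
    set τ := σ ^ p ^ (n - 1) with hτdef
    have hτp : τ ^ p = 1 := by rw [hτdef, ← pow_mul, ← pow_succ, Nat.sub_add_cancel hn, hσ]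
    have hcardlt : ∀ L : Subgroup G, M ≤ L → Nat.card (G ⧸ L) < Nat.card G := fun L hL => by
      haveI : Nontrivial M := (Subgroup.nontrivial_iff_ne_bot M).2 hMb
      have h1 := Subgroup.card_eq_card_quotient_mul_card_subgroup L
      have h2 : 1 < Nat.card L := lt_of_lt_of_le Finite.one_lt_card (Subgroup.card_le_of_le hL)
      have h3 : 0 < Nat.card (G ⧸ L) := Nat.card_pos
      nlinarith
    obtain ⟨σM, hσM, hσM1, hfM⟩ := exists_quotient_aut σ M hMi hfpf
    have hNM : Group.IsNilpotent (twist (σM ^ p ^ (n - 1))) :=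
      ih (G := G ⧸ M) (by have := hcardlt M le_rfl; omega) inferInstance σM (hσM1 _ hσ) hfM
    obtain ⟨σC, hσC, hσC1, hfC⟩ := exists_quotient_aut σ C hCi hfpf
    set τC := σC ^ p ^ (n - 1) with hτCdef
    have hNC : Group.IsNilpotent (twist τC) :=
      ih (G := G ⧸ C) (by have := hcardlt C hMC; omega) inferInstance σC (hσC1 _ hσ) hfC
    -- `τ` acts trivially on the faithful quotient
    obtain ⟨m, ψ, s, hψ, hsN, hscompat, hsum⟩ :=
      exists_module (r := r) σ hfpf hσ M hMi hMab hexp C hC
    have hσC0 : ∀ g : G, σC (g : G ⧸ C) = ((σ g : G) : G ⧸ C) := fun g => by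
      simpa using hσC 1 g
    have hFi : ∀ y ∈ twist τC, σC y ∈ twist τC := fun y hy =>
      twist_invariant σC τC (fun x => by
        rw [← MulAut.mul_apply, ← MulAut.mul_apply, hτCdef, ← pow_succ, ← pow_succ']) hy
    haveI := twist_normal τC
    haveI := hNC
    have hpK : ((p : ℕ) : AlgebraicClosure (ZMod r)) ≠ 0 := by
      intro h0
      rw [CharP.cast_eq_zero_iff (AlgebraicClosure (ZMod r)) r] at h0
      have hrp : r = p := (Nat.prime_dvd_prime_iff_eq hr hp.out).1 h0
      have hdvd : p ∣ Nat.card G := hrp ▸ hrM.trans (Subgroup.card_subgroup_dvd_card M)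
      exact (hp.out.coprime_iff_not_dvd.1 (coprime_card_of_fpf σ hσ hfpf)) hdvd
    have hτC : ∀ x, τC x = x := by
      refine eq_of_fixes_twist τC (by rw [hτCdef, ← pow_mul, ← pow_succ, Nat.sub_add_cancel hn,
        hσC1 _ hσ]) (coprime_card_of_fpf σC (hσC1 _ hσ) hfC) ?_
      refine fixed_of_sylow τC (twist τC) fun q hq Q => ?_
      haveI := Fact.mk hq
      haveI hQn : (Q : Subgroup (twist τC)).Normal := inferInstance
      haveI := Q.characteristic_of_normal hQn
      set Q' := (Q : Subgroup (twist τC)).map (twist τC).subtype with hQ'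
      haveI hQ'n : Q'.Normal := by rw [hQ']; infer_instance
      have hQ'p : IsPGroup q Q' := Q.isPGroup'.map _
      have hQi : ∀ x ∈ Q', σC x ∈ Q' := by
        rintro _ ⟨y, hy, rfl⟩
        let σF : MulAut (twist τC) := MulEquiv.ofBijective
          ({ toFun := fun z => ⟨σC z, hFi _ z.2⟩
             map_one' := Subtype.ext (map_one σC)
             map_mul' := fun a c => Subtype.ext (map_mul σC _ _) } : twist τC →* twist τC)
          (Finite.injective_iff_bijective.1 fun a c h =>
            Subtype.ext (σC.injective (congrArg Subtype.val h)))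
        have h := Subgroup.characteristic_iff_map_eq.1
          (inferInstance : (Q : Subgroup (twist τC)).Characteristic) σF
        exact ⟨σF y, h ▸ ⟨y, hy, rfl⟩, rfl⟩
      intro x hx
      rcases eq_or_ne q r with rfl | hqr
      · have hb := core_eq_bot σ M hMi hrM hmin C hC Q' hQ'n σC hσC0 hQi hQ'p
        have h1 : (x : G ⧸ C) ∈ Q' := ⟨x, hx, rfl⟩
        rw [hb, Subgroup.mem_bot] at h1
        rw [h1, map_one]
      · let σQ : MulAut Q' := MulEquiv.ofBijective
          ({ toFun := fun z => ⟨σC z, hQi _ z.2⟩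
             map_one' := Subtype.ext (map_one σC)
             map_mul' := fun a c => Subtype.ext (map_mul σC _ _) } : Q' →* Q')
          (Finite.injective_iff_bijective.1 fun a c h =>
            Subtype.ext (σC.injective (congrArg Subtype.val h)))
        have hσQ : ∀ (i : ℕ) (z : Q'), (((σQ ^ i) z : Q') : G ⧸ C) = (σC ^ i) z := by
          intro i
          induction i with
          | zero => intro z; simp
          | succ i ih' =>
            intro z
            rw [pow_succ', MulAut.mul_apply, pow_succ' σC, MulAut.mul_apply, ← ih']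
            rfl
        have h := tau_eq_one (K := AlgebraicClosure (ZMod r))
          (V := Fin m → AlgebraicClosure (ZMod r)) (q := q) hp2 hn hpK (by
            rw [Ne, CharP.cast_eq_zero_iff (AlgebraicClosure (ZMod r)) r,
              Nat.prime_dvd_prime_iff_eq hr hq]
            exact hqr.symm)
          (Nat.card Q') le_rfl hQ'p σQ
          (MulEquiv.ext fun z => Subtype.ext (by
            rw [hσQ, hσC1 _ hσ, MulAut.one_apply, MulAut.one_apply]))
          (fun z hz => Subtype.ext (hfC _ (congrArg Subtype.val hz)))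
          (ψ.comp Q'.subtype) (hψ.comp Q'.subtype_injective) s hsN
          (fun z => by
            obtain ⟨g, hg⟩ := QuotientGroup.mk_surjective (z : G ⧸ C)
            show s * ψ (z : G ⧸ C) = ψ (σC (z : G ⧸ C)) * s
            rw [← hg, hσC0]
            exact hscompat g)
          hsum ⟨(x : G ⧸ C), ⟨x, hx, rfl⟩⟩
        have h' := congrArg Subtype.val h
        rw [hσQ] at h'
        exact h'
    -- hence the commutators centralise `M`
    have hle : twist τ ≤ C := by
      refine (Subgroup.closure_le C).2 ?_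
      rintro _ ⟨x, rfl⟩
      rw [SetLike.mem_coe, ← QuotientGroup.eq, hτdef, ← hσC]
      exact (hτC _).symm
    haveI := hNM
    let f : twist τ →* twist (σM ^ p ^ (n - 1)) :=
      ((QuotientGroup.mk' M).comp (twist τ).subtype).codRestrict _ fun x =>
        map_twist_le (QuotientGroup.mk' M) τ (σM ^ p ^ (n - 1)) (fun y => hσM _ y)
          ⟨x, x.2, rfl⟩
    refine Subgroup.isNilpotent_of_ker_le_center f ?_
    intro x hx
    have hxM : (x : G) ∈ M := (QuotientGroup.eq_one_iff _).1 (congrArg Subtype.val hx)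
    rw [Subgroup.mem_center_iff]
    exact fun y => Subtype.ext ((hC _).1 (hle y.2) x hxM)

/-- The theorem of Shult and Gross, for automorphisms of order dividing `p ^ n`. -/
theorem height_le {p : ℕ} [hp : Fact p.Prime] (hp2 : p ≠ 2) : ∀ (n : ℕ) {G : Type u} [Group G]
    [Finite G], Group.IsSolvable G → ∀ σ : MulAut G, σ ^ p ^ n = 1 → (∀ g, σ g = g → g = 1) →
    ∃ F : Fin (n + 1) → Subgroup G, F 0 = ⊥ ∧ F (Fin.last n) = ⊤ ∧ Monotone F ∧
      (∀ i, (F i).Normal) ∧
      ∀ i : Fin n, ∃ k : ℕ, (F i.succ).lowerCentralSeries k ≤ F i.castSucc := by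
  intro n
  induction n with
  | zero =>
    intro G _ _ _ σ hσ hfpf
    rw [pow_zero, pow_one] at hσ
    have hbot : (⊥ : Subgroup G) = ⊤ := eq_top_iff.2 fun g _ =>
      Subgroup.mem_bot.2 (hfpf g (by rw [hσ, MulAut.one_apply]))
    exact ⟨fun _ => ⊥, rfl, hbot, fun _ _ _ => le_rfl, fun _ => inferInstance, fun i => i.elim0⟩
  | succ n ih =>
    intro G _ _ hsolv σ hσ hfpf
    haveI := hsolv
    set τ := σ ^ p ^ n with hτdef
    have hnil : Group.IsNilpotent (twist τ) := by
      simpa using twist_nilpotent hp2 (Nat.succ_le_succ (Nat.zero_le n)) (Nat.card G) le_rfl hsolv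
        σ hσ hfpf
    haveI := twist_normal τ
    have hinv : ∀ x ∈ twist τ, σ x ∈ twist τ := fun x hx =>
      twist_invariant σ τ (fun y => by
        rw [← MulAut.mul_apply, ← MulAut.mul_apply, hτdef, ← pow_succ, ← pow_succ']) hx
    obtain ⟨σ', hσ', -, hf'⟩ := exists_quotient_aut σ (twist τ) hinv hfpf
    refine chain_cons (twist τ) hnil (ih inferInstance σ' ?_ hf')
    ext q
    induction q using QuotientGroup.induction_on with
    | H g =>
      rw [hσ', MulAut.one_apply, eq_comm, QuotientGroup.eq]
      exact mem_twist τ g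

end CfsgLib.ShultGross
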