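import Mathlib
import Cfsg.Agent.ShultGross.Monomial
import Cfsg.Agent.ShultGross.Split

/-!
Scalar characters attached to central elements of a group of class at most two acting faithfully,
the stabiliser of such a character, and the abelian case of fixed-point-free automorphisms of
`2`-power order.
-/

set_option autoImplicit false

open Finset Module
open scoped commutatorElement

namespace CfsgLib.ShultGross

universe u v w

variable {K : Type u} [Field K] [IsAlgClosed K] {V : Type v} [AddCommGroup V] [Module K V]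
  [FiniteDimensional K V]

theorem commutator_mem' {Q : Type w} [Group Q] {R : Subgroup Q} (hR : commutator Q ≤ R)
    (x y : Q) : x * y * x⁻¹ * y⁻¹ ∈ R := by
  have := hR (Subgroup.commutator_mem_commutator (Subgroup.mem_top x) (Subgroup.mem_top y))
  rwa [commutatorElement_def] at this

/-- A central element produces a non-degenerate scalar character. -/
theorem exists_scalar_data {Q : Type w} [Group Q] [Finite Q] (hQK : (Nat.card Q : K) ≠ 0)
    (hcent : commutator Q ≤ Subgroup.center Q) (ψ : Q →* Module.End K V)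
    (hψ : Function.Injective ψ) {z₀ : Q} (hz₀ : z₀ ∈ Subgroup.center Q) (hz₀1 : z₀ ≠ 1) :
    ∃ (R : Subgroup Q) (lam : R →* K), R.Normal ∧ Subgroup.center Q ≤ R ∧
      (∀ x, x ∈ R ↔ ∀ (y : Q) (h : x * y * x⁻¹ * y⁻¹ ∈ R), lam ⟨_, h⟩ = 1) ∧
      (∀ h : z₀ ∈ R, lam ⟨z₀, h⟩ ≠ 1) ∧
      (∀ x, ∀ v ∈ charSpace ψ lam, ψ x v ∈ charSpace ψ lam) ∧
      charSpace ψ lam ≠ ⊥ ∧
      ∀ x, (∀ v ∈ charSpace ψ lam, ψ x v = v) → x ∈ R := by
  obtain ⟨μ, hμ, hμ1⟩ : ∃ μ, (ψ z₀).eigenspace μ ≠ ⊥ ∧ μ ≠ 1 := by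
    by_contra! h
    apply hz₀1
    apply hψ
    rw [map_one]
    exact eq_one_of_eigen hQK _ (by rw [← map_pow, pow_card_eq_one', map_one]) h
  have hz₀F : ∀ x, x * z₀ = z₀ * x := Subgroup.mem_center_iff.1 hz₀
  obtain ⟨M, ⟨hMi, hMb, hMle⟩, hmin⟩ := (wellFounded_lt (α := Submodule K V)).has_min
    {M | (∀ x, ∀ v ∈ M, ψ x v ∈ M) ∧ M ≠ ⊥ ∧ M ≤ (ψ z₀).eigenspace μ}
    ⟨(ψ z₀).eigenspace μ, fun x v hv => by
      rw [Module.End.mem_eigenspace_iff] at hv ⊢
      rw [← Module.End.mul_apply, ← map_mul, ← hz₀F x, map_mul, Module.End.mul_apply, hv,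
        map_smul], hμ, le_rfl⟩
  obtain ⟨v₀, hv₀, hv₀0⟩ := Submodule.exists_mem_ne_zero_of_ne_bot hMb
  let R : Subgroup Q :=
    { carrier := {x | ∃ c : K, ∀ v ∈ M, ψ x v = c • v}
      one_mem' := ⟨1, fun v _ => by simp⟩
      mul_mem' := by
        rintro a b' ⟨c, hc'⟩ ⟨c', hc''⟩
        exact ⟨c' * c, fun v hv => by
          rw [map_mul, Module.End.mul_apply, hc'' v hv, map_smul, hc' v hv, smul_smul]⟩
      inv_mem' := by
        rintro a ⟨c, hc'⟩
        refine ⟨c⁻¹, fun v hv => ?_⟩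
        have h1 : v = c • ψ a⁻¹ v := by
          have h2 := hc' _ (hMi a⁻¹ v hv)
          rwa [← Module.End.mul_apply, ← map_mul, mul_inv_cancel, map_one,
            Module.End.one_apply] at h2
        rcases eq_or_ne c 0 with h0 | h0
        · rw [h0, zero_smul] at h1
          rw [h1, map_zero, smul_zero]
        · conv_rhs => rw [h1, smul_smul, inv_mul_cancel₀ h0, one_smul] }
  have hRspec : ∀ x : R, ∃ c : K, ∀ v ∈ M, ψ x v = c • v := fun x => x.2
  choose lamf hlamf using hRspec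
  have huniq : ∀ (x : Q) (hx : x ∈ R) (c : K), (∀ v ∈ M, ψ x v = c • v) → lamf ⟨x, hx⟩ = c :=
    fun x hx c hc' => smul_left_injective K hv₀0 ((hlamf ⟨x, hx⟩ v₀ hv₀).symm.trans (hc' v₀ hv₀))
  let lam : R →* K :=
    { toFun := lamf
      map_one' := huniq 1 (one_mem R) 1 (fun v _ => by simp)
      map_mul' := fun a b' => huniq _ _ _ fun v hv => by
        show ψ ((a : Q) * b') v = _
        rw [map_mul, Module.End.mul_apply, hlamf b' v hv, map_smul, hlamf a v hv, smul_smul,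
          mul_comm] }
  have hlam : ∀ (x : R), ∀ v ∈ M, ψ x v = lam x • v := hlamf
  haveI : Nontrivial M := Submodule.nontrivial_iff_ne_bot.2 hMb
  have hscalar : ∀ x : Q, (∀ y : Q, ∀ v ∈ M, ψ x (ψ y v) = ψ y (ψ x v)) → x ∈ R := by
    intro x hx
    obtain ⟨c, hc'⟩ := CfsgLib.HallHigman.exists_eq_smul_one_of_commute
      (fun y : Q => (ψ y).restrict (hMi y)) (fun W hW => by
        by_contra! h
        refine hmin (W.map M.subtype) ⟨?_, ?_, ?_⟩ ?_
        · rintro y _ ⟨w, hw, rfl⟩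
          exact ⟨_, hW y w hw, rfl⟩
        · intro hb
          refine h.1 ((Submodule.eq_bot_iff _).2 fun w hw => ?_)
          have : (w : V) ∈ W.map M.subtype := ⟨w, hw, rfl⟩
          rw [hb, Submodule.mem_bot] at this
          exact Subtype.ext this
        · exact (Submodule.map_subtype_le _ _).trans hMle
        · calc W.map M.subtype < (⊤ : Submodule K M).map M.subtype :=
                Submodule.map_strictMono_of_injective M.subtype_injective
                  (lt_top_iff_ne_top.2 h.2)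
            _ = M := Submodule.map_subtype_top M)
      ((ψ x).restrict (hMi x)) (fun y => LinearMap.ext fun v => Subtype.ext (hx y v v.2))
    exact ⟨c, fun v hv => congrArg Subtype.val (LinearMap.congr_fun hc' ⟨v, hv⟩)⟩
  have hcR : Subgroup.center Q ≤ R := fun x hx => hscalar x fun y v _ => by
    rw [← Module.End.mul_apply, ← map_mul, ← Subgroup.mem_center_iff.1 hx y, map_mul,
      Module.End.mul_apply]
  have hRn : R.Normal := ⟨fun x hx g => by
    have h1 : g * x * g⁻¹ = g * x * g⁻¹ * x⁻¹ * x := by group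
    rw [h1]
    exact mul_mem (hcR (commutator_mem' hcent g x)) hx⟩
  have hiff : ∀ x, x ∈ R ↔ ∀ (y : Q) (h : x * y * x⁻¹ * y⁻¹ ∈ R), lam ⟨_, h⟩ = 1 := by
    intro x
    constructor
    · rintro ⟨c, hc'⟩ y hy
      refine huniq _ _ 1 fun v hv => ?_
      rw [one_smul]
      have h1 : ∀ u ∈ M, ψ (x * y) u = ψ (y * x) u := fun u hu => by
        rw [map_mul, map_mul, Module.End.mul_apply, Module.End.mul_apply, hc' u hu, map_smul,
          hc' _ (hMi y u hu)]
      rw [show x * y * x⁻¹ * y⁻¹ = (x * y) * (y * x)⁻¹ by group, map_mul, Module.End.mul_apply,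
        h1 _ (hMi _ v hv), ← Module.End.mul_apply, ← map_mul, mul_inv_cancel, map_one,
        Module.End.one_apply]
    · intro h
      refine hscalar x fun y v hv => ?_
      have hy := hcR (commutator_mem' hcent x y)
      have h1 : ψ (x * y * x⁻¹ * y⁻¹) (ψ (y * x) v) = (1 : K) • ψ (y * x) v := by
        rw [← h y hy]
        exact hlam ⟨_, hy⟩ _ (hMi _ v hv)
      rw [← Module.End.mul_apply, ← map_mul, one_smul,
        show x * y * x⁻¹ * y⁻¹ * (y * x) = x * y by group, map_mul, map_mul] at h1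
      exact h1
  refine ⟨R, lam, hRn, hcR, hiff, fun h => ?_, ?_, ?_, ?_⟩
  · rw [show lam ⟨z₀, h⟩ = μ from huniq _ _ μ fun v hv =>
      Module.End.mem_eigenspace_iff.1 (hMle hv)]
    exact hμ1
  · intro x v hv z
    have h1 : (z : Q) * x = x * (x⁻¹ * z * x) := by group
    have hz : x⁻¹ * (z : Q) * x ∈ R := by simpa using hRn.conj_mem (z : Q) z.2 x⁻¹
    have hl : lam ⟨_, hz⟩ = lam z := huniq _ _ _ fun u hu => by
      rw [mul_assoc, map_mul, map_mul, Module.End.mul_apply, Module.End.mul_apply,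
        hlam z _ (hMi x u hu), map_smul, ← Module.End.mul_apply, ← map_mul, inv_mul_cancel,
        map_one, Module.End.one_apply]
    rw [← Module.End.mul_apply, ← map_mul, h1, map_mul, Module.End.mul_apply, hv ⟨_, hz⟩,
      map_smul, hl]
  · exact fun h => hv₀0 ((Submodule.eq_bot_iff _).1 h v₀ fun z => hlam z v₀ hv₀)
  · exact fun x hx => ⟨1, fun v hv => by rw [one_smul]; exact hx v fun z => hlam z v hv⟩

/-- The stabiliser of a scalar character inherits the vanishing orbit sum. -/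
theorem exists_stab {Q : Type w} [Group Q] [Finite Q] (hQK : (Nat.card Q : K) ≠ 0)
    (hcent : commutator Q ≤ Subgroup.center Q) (σ : MulAut Q) (ψ : Q →* Module.End K V)
    (R : Subgroup Q) (lam : R →* K) (hcR : Subgroup.center Q ≤ R)
    (hiff : ∀ x, x ∈ R ↔ ∀ (y : Q) (h : x * y * x⁻¹ * y⁻¹ ∈ R), lam ⟨_, h⟩ = 1)
    {N : ℕ} (hN : 0 < N) (hσN : σ ^ N = 1) (s : Module.End K V)
    (hcompat : ∀ q, s * ψ q = ψ (σ q) * s) (hT : ∑ i ∈ range N, s ^ i = 0) :
    ∃ P : ℕ, 0 < P ∧ P ∣ N ∧ (∀ z ∈ R, (σ ^ P) z ∈ R) ∧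
      (∀ v ∈ charSpace ψ lam, (s ^ P) v ∈ charSpace ψ lam) ∧
      (∀ q, s ^ P * ψ q = ψ ((σ ^ P) q) * s ^ P) ∧
      ∀ v ∈ charSpace ψ lam, (∑ j ∈ range (N / P), (s ^ P) ^ j) v = 0 := by
  have hpw : ∀ (i : ℕ) q, s ^ i * ψ q = ψ ((σ ^ i) q) * s ^ i := by
    intro i q
    induction i with
    | zero => simp
    | succ i ih =>
      rw [pow_succ', mul_assoc, ih, ← mul_assoc, hcompat, mul_assoc, pow_succ' σ, MulAut.mul_apply]
  set Z := Subgroup.center Q with hZ
  have hcard : ∀ L : Subgroup Q, (Nat.card L : K) ≠ 0 := fun L h => hQK (by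
    obtain ⟨t, ht⟩ := Subgroup.card_subgroup_dvd_card L
    rw [ht, Nat.cast_mul, h, zero_mul])
  have hZσ : ∀ z ∈ Z, σ z ∈ Z := fun z hz => by
    rw [hZ, Subgroup.mem_center_iff] at hz ⊢
    intro g
    obtain ⟨g', rfl⟩ := σ.surjective g
    rw [← map_mul, ← map_mul, hz]
  obtain ⟨P, hP0, hPN, hPiff, hPsplit⟩ := sum_stab σ Z hZσ (hcard Z) ψ
    (lam.comp (Subgroup.inclusion hcR)) hN hσN s hcompat
  have hRP : ∀ z ∈ R, (σ ^ P) z ∈ R := by
    intro z hz
    rw [hiff]
    intro y hy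
    obtain ⟨y', rfl⟩ := (σ ^ P).surjective y
    have hz' : z * y' * z⁻¹ * y'⁻¹ ∈ Z := commutator_mem' hcent z y'
    have he : (σ ^ P) z * (σ ^ P) y' * ((σ ^ P) z)⁻¹ * ((σ ^ P) y')⁻¹
        = (σ ^ P) (z * y' * z⁻¹ * y'⁻¹) := by simp
    have h1 : (σ ^ P) (z * y' * z⁻¹ * y'⁻¹) ∈ Z := he ▸ commutator_mem' hcent _ _
    have h2 := (hPiff P).1 dvd_rfl ⟨_, hz'⟩ h1
    refine Eq.trans (congrArg lam (Subtype.ext he)) (h2.trans ((hiff z).1 hz y' (hcR hz')))
  obtain ⟨P₂, hP20, hP2N, hP2iff, hP2split⟩ := sum_stab (σ ^ P) R hRP (hcard R) ψ lam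
    (Nat.div_pos (Nat.le_of_dvd hN hPN) hP0)
    (by rw [← pow_mul, Nat.mul_div_cancel' hPN, hσN]) (s ^ P) (hpw P)
  refine ⟨P * P₂, Nat.mul_pos hP0 hP20, ?_, ?_, ?_, hpw _, ?_⟩
  · calc P * P₂ ∣ P * (N / P) := Nat.mul_dvd_mul_left P hP2N
      _ = N := Nat.mul_div_cancel' hPN
  · intro z hz
    rw [pow_mul]
    clear hP2iff hP2split hP2N hP20
    induction P₂ with
    | zero => simpa using hz
    | succ j ihj => rw [pow_succ', MulAut.mul_apply]; exact hRP _ ihj
  · intro v hv z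
    have hR2 : ∀ y ∈ R, ((σ ^ P) ^ P₂) y ∈ R := by
      intro y hy
      clear hP2iff hP2split hP2N hP20
      induction P₂ with
      | zero => simpa using hy
      | succ j ihj => rw [pow_succ', MulAut.mul_apply]; exact hRP _ ihj
    have hb : Function.Bijective (fun y : R => (⟨((σ ^ P) ^ P₂) y, hR2 y y.2⟩ : R)) :=
      Finite.injective_iff_bijective.1 fun a c h =>
        Subtype.ext (((σ ^ P) ^ P₂).injective (congrArg Subtype.val h))
    obtain ⟨y, rfl⟩ := hb.2 z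
    show ψ (((σ ^ P) ^ P₂) y) ((s ^ (P * P₂)) v) = _
    have hc : ψ (((σ ^ P) ^ P₂) y) * s ^ (P * P₂) = s ^ (P * P₂) * ψ y := by
      rw [hpw, pow_mul σ]
    rw [← Module.End.mul_apply, hc, Module.End.mul_apply, hv y, map_smul,
      (hP2iff P₂).1 dvd_rfl y (hR2 y y.2)]
  · intro v hv
    have h := hP2split v hv (hPsplit v (fun z => hv (Subgroup.inclusion hcR z))
      (by rw [hT, LinearMap.zero_apply]))
    rw [← Nat.div_div_eq_div_mul, pow_mul]
    exact h

theorem sq_eq_one_iff_of_odd {Q : Type w} [Group Q] [Finite Q] (hodd : Odd (Nat.card Q)) {x : Q}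
    (hx : x * x = 1) : x = 1 := by
  have h2 : orderOf x ∣ 2 := orderOf_dvd_of_pow_eq_one (by rw [pow_two]; exact hx)
  rcases (Nat.dvd_prime Nat.prime_two).1 h2 with h | h
  · exact orderOf_eq_one_iff.1 h
  · have : 2 ∣ Nat.card Q := h ▸ orderOf_dvd_natCard x
    exact absurd (even_iff_two_dvd.2 this) (Nat.not_even_iff_odd.2 hodd)

theorem mem_of_sq_mem {Q : Type w} [Group Q] [Finite Q] (hodd : Odd (Nat.card Q)) {L : Subgroup Q}
    {x : Q} (hx : x * x ∈ L) : x ∈ L := by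
  have hcop : (orderOf x).Coprime 2 := by
    refine (Nat.coprime_comm.1 (Nat.prime_two.coprime_iff_not_dvd.2 fun h => ?_))
    exact Nat.not_even_iff_odd.2 hodd (even_iff_two_dvd.2 (h.trans (orderOf_dvd_natCard x)))
  obtain ⟨j, hj⟩ := exists_pow_eq_self_of_coprime hcop.symm
  rw [← hj, pow_two]
  exact L.pow_mem hx j

/-- An automorphism with vanishing orbit sum has trivial involution part on abelian groups of odd
order. -/
theorem abelian_fixed {E : Type w} [Group E] [Finite E] (habel : ∀ x y : E, x * y = y * x)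
    (hodd : Odd (Nat.card E)) (hEK : (Nat.card E : K) ≠ 0) {n : ℕ} (hn : 1 ≤ n) (σ : MulAut E)
    (hσ : σ ^ 2 ^ n = 1) (ψ : E →* Module.End K V) (hψ : Function.Injective ψ)
    (s : Module.End K V) (hcompat : ∀ x, s * ψ x = ψ (σ x) * s)
    (hT : ∑ i ∈ range (2 ^ n), s ^ i = 0) (x : E) : (σ ^ 2 ^ (n - 1)) x = x := by
  set τ := σ ^ 2 ^ (n - 1) with hτ
  by_contra hne
  have hττ : ∀ y, τ (τ y) = y := fun y => by
    rw [← MulAut.mul_apply, hτ, ← pow_add, ← two_mul, ← pow_succ', Nat.sub_add_cancel hn, hσ,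
      MulAut.one_apply]
  set z₀ := x⁻¹ * τ x with hz₀
  have hz₀1 : z₀ ≠ 1 := fun h => hne (inv_mul_eq_one.1 h).symm
  have hzinv : τ z₀ = z₀⁻¹ := by rw [hz₀, map_mul, map_inv, hττ, mul_inv_rev, inv_inv]
  have hcent : commutator E ≤ Subgroup.center E := fun y _ =>
    Subgroup.mem_center_iff.2 fun g => habel g y
  have htop : Subgroup.center E = ⊤ :=
    eq_top_iff.2 fun y _ => Subgroup.mem_center_iff.2 fun g => habel g y
  obtain ⟨R, lam, hRn, hcR, hiff, hz, -, hne', -⟩ := exists_scalar_data hEK hcent ψ hψ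
    (htop ▸ Subgroup.mem_top z₀) hz₀1
  obtain ⟨P, hP0, hPN, hPiff, hsplit⟩ := sum_stab σ R
    (fun y _ => hcR (htop ▸ Subgroup.mem_top _))
    (fun h => hEK (by
      obtain ⟨t, ht⟩ := Subgroup.card_subgroup_dvd_card R
      rw [ht, Nat.cast_mul, h, zero_mul])) ψ lam (pow_pos two_pos n) hσ s hcompat
  obtain ⟨v, hv, hv0⟩ := Submodule.exists_mem_ne_zero_of_ne_bot hne'
  rcases eq_or_lt_of_le (Nat.le_of_dvd (pow_pos two_pos n) hPN) with hPe | hPlt
  · have h := hsplit v hv (by rw [hT, LinearMap.zero_apply])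
    rw [hPe, Nat.div_self (pow_pos two_pos n), Finset.sum_range_one, pow_zero,
      Module.End.one_apply] at h
    exact hv0 h
  · obtain ⟨j, hj, rfl⟩ := (Nat.dvd_prime_pow Nat.prime_two).1 hPN
    have hjn : j ≤ n - 1 := by
      rcases Nat.lt_or_ge j n with h | h
      · omega
      · exact absurd hPlt (Nat.not_lt.2 (Nat.pow_le_pow_right two_pos h))
    have hzR : z₀ ∈ R := hcR (htop ▸ Subgroup.mem_top _)
    have h1 : lam ⟨τ z₀, hcR (htop ▸ Subgroup.mem_top _)⟩ = lam ⟨z₀, hzR⟩ :=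
      (hPiff (2 ^ (n - 1))).1 (pow_dvd_pow 2 hjn) ⟨z₀, hzR⟩ _
    have h2 : lam ⟨z₀, hzR⟩ * lam ⟨z₀, hzR⟩ = 1 := by
      nth_rewrite 1 [← h1]
      rw [← map_mul]
      convert map_one lam
      exact Subtype.ext (by simp [hzinv])
    apply hz hzR
    have h3 : (⟨z₀, hzR⟩ : R) ^ Nat.card E = 1 := Subtype.ext (by simp)
    have h4 := congrArg lam h3
    rw [map_pow, map_one] at h4
    have h5 := pow_gcd_eq_one.2 ⟨(show lam ⟨z₀, hzR⟩ ^ 2 = 1 by rw [pow_two, h2]), h4⟩
    rwa [(Nat.prime_two.coprime_iff_not_dvd.2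
      fun h => Nat.not_even_iff_odd.2 hodd (even_iff_two_dvd.2 h)), pow_one] at h5

theorem mersenne_exponent {q m k : ℕ} (hq : q.Prime) (hq2 : q ≠ 2) (hm : 1 ≤ m)
    (h : q ^ m + 1 = 2 ^ k) : m = 1 := by
  have hq3 : 3 ≤ q := by have := hq.two_le; omega
  obtain ⟨a, ha⟩ := hq.odd_of_ne_two hq2
  rcases Nat.even_or_odd m with ⟨b, hb⟩ | ⟨b, hb⟩
  · -- an odd square plus one is twice an odd number
    exfalso
    have h4 : ∃ c, q ^ m = 4 * c + 1 := by
      refine ⟨((a * a + a) * 4 + 1) ^ b / 4, ?_⟩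
      have h1 : q ^ m = ((a * a + a) * 4 + 1) ^ b := by
        rw [hb, ← two_mul, pow_mul, ha]; ring_nf
      rw [h1]
      have h2 : ((a * a + a) * 4 + 1) ^ b % 4 = 1 := by
        rw [Nat.pow_mod]; simp [Nat.add_mod, Nat.mul_mod]
      omega
    obtain ⟨c, hc⟩ := h4
    have hk : 2 ≤ k := by
      by_contra hk
      have : 2 ^ k ≤ 2 := by
        calc 2 ^ k ≤ 2 ^ 1 := Nat.pow_le_pow_right two_pos (by omega)
          _ = 2 := pow_one 2
      have : 3 ≤ q ^ m := hq3.trans (Nat.le_self_pow (by omega) q)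
      omega
    obtain ⟨k', rfl⟩ : ∃ k', k = k' + 2 := ⟨k - 2, by omega⟩
    rw [hc, pow_add] at h
    omega
  · have hdvd : q + 1 ∣ 2 ^ k := by
      rw [← h, hb]
      simpa using (Odd.nat_add_dvd_pow_add_pow q 1 (n := 2 * b + 1) ⟨b, rfl⟩)
    obtain ⟨j, hjk, hj⟩ := (Nat.dvd_prime_pow Nat.prime_two).1 hdvd
    rcases Nat.eq_or_lt_of_le hjk with rfl | hlt
    · have : q ^ m = q ^ 1 := by rw [pow_one]; omega
      exact Nat.pow_right_injective hq.two_le this
    · exfalso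
      have hsq : q ^ 2 ≡ 1 [MOD 2 ^ (j + 1)] := by
        refine ((Nat.modEq_iff_dvd' (Nat.one_le_pow _ _ hq.pos)).2 ⟨a, ?_⟩).symm
        have h5 : 2 ^ (j + 1) * a = (q + 1) * (2 * a) := by rw [hj, pow_succ]; ring
        rw [h5, ha, pow_two]
        have : (2 * a + 1) * (2 * a + 1) = (2 * a + 1 + 1) * (2 * a) + 1 := by ring
        omega
      have hmod : q ^ m + 1 ≡ q + 1 [MOD 2 ^ (j + 1)] := by
        refine Nat.ModEq.add_right 1 ?_
        have h6 := (hsq.pow b).mul_right q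
        rw [one_pow, one_mul, ← pow_mul, ← pow_succ] at h6
        rwa [hb]
      have h0 : q ^ m + 1 ≡ 0 [MOD 2 ^ (j + 1)] := by
        rw [h, Nat.modEq_zero_iff_dvd]; exact pow_dvd_pow 2 hlt
      have hd := Nat.modEq_zero_iff_dvd.1 (hmod.symm.trans h0)
      rw [hj] at hd
      have := Nat.le_of_dvd (pow_pos two_pos j) hd
      rw [pow_succ] at this
      have := pow_pos two_pos j (a := 2)
      omega

end CfsgLib.ShultGross
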