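import Mathlib
import Cfsg.Agent.ShultGross.CharData
import Cfsg.Agent.ShultGross.Height

/-!
A group of odd prime power order normalised by an operator `g` of order `2 ^ k` satisfying
`(g - 1) (g ^ 2 ^ (k - 1) + 1) = 0`: the involution part acts trivially, unless the group is the
exceptional one.
-/

set_option autoImplicit false

open Finset Module
open scoped commutatorElement

namespace CfsgLib.ShultGross

universe u v w

variable {K : Type u} [Field K] {V : Type v} [AddCommGroup V] [Module K V]

/-- Restriction of a representation to an invariant subspace. -/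
def subRep {Q : Type w} [Monoid Q] (ψ : Q →* Module.End K V) (W : Submodule K V)
    (hW : ∀ x, ∀ v ∈ W, ψ x v ∈ W) : Q →* Module.End K W where
  toFun x := (ψ x).restrict (hW x)
  map_one' := LinearMap.ext fun v => Subtype.ext (by simp)
  map_mul' x y := LinearMap.ext fun v => Subtype.ext (by simp [Module.End.mul_apply])

theorem coe_subRep {Q : Type w} [Monoid Q] (ψ : Q →* Module.End K V) (W : Submodule K V)
    (hW : ∀ x, ∀ v ∈ W, ψ x v ∈ W) (x : Q) (v : W) : (subRep ψ W hW x v : V) = ψ x v := rfl

theorem coe_restrict_pow (f : Module.End K V) (W : Submodule K V) (hW : ∀ v ∈ W, f v ∈ W)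
    (i : ℕ) (v : W) : (((f.restrict hW) ^ i) v : V) = (f ^ i) v := by
  induction i with
  | zero => simp
  | succ i ih =>
    rw [pow_succ', Module.End.mul_apply, pow_succ' f, Module.End.mul_apply, ← ih]
    rfl

theorem sum_neg_pow_eq_zero {R : Type v} [Ring R] (g : R) {k : ℕ} (hk : 2 ≤ k)
    (h : (g - 1) * (g ^ 2 ^ (k - 1) + 1) = 0) : ∑ i ∈ range (2 ^ k), (-g) ^ i = 0 := by
  obtain ⟨k', rfl⟩ : ∃ k', k = k' + 2 := ⟨k - 2, by omega⟩
  rw [show k' + 2 - 1 = k' + 1 by omega] at h
  have hpair : ∀ m : ℕ, ∑ i ∈ range (2 * m), (-g) ^ i =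
      (∑ j ∈ range m, (g ^ 2) ^ j) * (1 - g) := by
    intro m
    induction m with
    | zero => simp
    | succ m ih =>
      rw [show 2 * (m + 1) = 2 * m + 1 + 1 by ring, Finset.sum_range_succ, Finset.sum_range_succ,
        ih, Finset.sum_range_succ, add_mul, add_assoc]
      congr 1
      rw [pow_succ, pow_mul, neg_sq, mul_neg, mul_sub, mul_one, sub_eq_add_neg]
  rw [show 2 ^ (k' + 2) = 2 * 2 ^ (k' + 1) by ring, hpair,
    show 2 ^ (k' + 1) = 2 ^ k' + 2 ^ k' by ring, Finset.sum_range_add]
  have e : ∀ j : ℕ, (g ^ 2) ^ (2 ^ k' + j) = (g ^ 2) ^ j * g ^ 2 ^ (k' + 1) := fun j => by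
    rw [← pow_mul, ← pow_mul, ← pow_add]
    congr 1
    ring
  rw [Finset.sum_congr rfl fun j _ => e j, ← Finset.sum_mul, ← mul_one_add, mul_assoc,
    show (1 + g ^ 2 ^ (k' + 1)) * (1 - g) = -((g - 1) * (g ^ 2 ^ (k' + 1) + 1)) by
      have hc : Commute (g ^ 2 ^ (k' + 1)) g := Commute.pow_self g _
      rw [add_mul, mul_add, mul_sub, mul_sub, sub_mul, mul_one, mul_one, mul_one, one_mul, one_mul,
        hc.eq]
      abel,
    h, neg_zero, mul_zero]

variable [IsAlgClosed K] [FiniteDimensional K V]

/-- The involution part of `g` is trivial on a group of odd prime power order, unless exceptional. -/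
theorem image_fixed {t k : ℕ} [ht : Fact t.Prime] (hk : 2 ≤ k)
    (hexc : ¬ ∃ a, t ^ a + 1 = 2 ^ k) (h2K : (2 : K) ≠ 0) : ∀ (b : ℕ) {Y : Type w} [Group Y]
    [Finite Y], Nat.card Y ≤ b → IsPGroup t Y → Odd (Nat.card Y) → (Nat.card Y : K) ≠ 0 →
    ∀ γ : MulAut Y, γ ^ 2 ^ k = 1 → ∀ ψ : Y →* Module.End K V, Function.Injective ψ →
    ∀ g : Module.End K V, g ^ 2 ^ k = 1 → (∀ y, g * ψ y = ψ (γ y) * g) →
      (g - 1) * (g ^ 2 ^ (k - 1) + 1) = 0 → ∀ y, (γ ^ 2 ^ (k - 1)) y = y := by
  intro b
  induction b with
  | zero => intro Y _ _ hc; exact absurd hc (Nat.not_le.2 Nat.card_pos)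
  | succ b ih =>
    intro Y _ _ hc hY hodd hYK γ hγ ψ hψ g hg hcompat hrel
    by_contra! hne
    obtain ⟨y₁, hy₁⟩ := hne
    set τ := γ ^ 2 ^ (k - 1) with hτ
    have hτ2 : τ ^ 2 = 1 := by
      rw [hτ, ← pow_mul, ← pow_succ, Nat.sub_add_cancel (by omega), hγ]
    have hcomm : ∀ y, τ (γ y) = γ (τ y) := fun y => by
      rw [← MulAut.mul_apply, ← MulAut.mul_apply, hτ, ← pow_succ, ← pow_succ']
    have hsmall : ∀ L : Subgroup Y, (∀ y ∈ L, γ y ∈ L) → L ≠ ⊤ → ∀ y ∈ L, τ y = y := by
      intro L hL hLt y hy
      let γL : MulAut L := MulEquiv.ofBijective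
        ({ toFun := fun z => ⟨γ z, hL _ z.2⟩
           map_one' := Subtype.ext (map_one γ)
           map_mul' := fun a c => Subtype.ext (map_mul γ _ _) } : L →* L)
        (Finite.injective_iff_bijective.1 fun a c h =>
          Subtype.ext (γ.injective (congrArg Subtype.val h)))
      have hγL : ∀ (i : ℕ) (z : L), ((γL ^ i) z : Y) = (γ ^ i) z := by
        intro i
        induction i with
        | zero => intro z; simp
        | succ i ih' =>
          intro z
          rw [pow_succ', MulAut.mul_apply, pow_succ' γ, MulAut.mul_apply, ← ih']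
          rfl
      have hdvd := Subgroup.card_subgroup_dvd_card L
      have hlt : Nat.card L < Nat.card Y :=
        lt_of_le_of_ne (Nat.le_of_dvd Nat.card_pos hdvd)
          (fun he => hLt (Subgroup.eq_top_of_card_eq L he))
      have h := ih (Y := L) (by omega) (hY.to_subgroup L) (hodd.of_dvd_nat hdvd)
        (fun h0 => hYK (by obtain ⟨c, hc'⟩ := hdvd; rw [hc', Nat.cast_mul, h0, zero_mul]))
        γL (MulEquiv.ext fun z => Subtype.ext (by
          rw [hγL, hγ, MulAut.one_apply, MulAut.one_apply]))
        (ψ.comp L.subtype) (hψ.comp L.subtype_injective) g hg (fun z => hcompat z) hrel ⟨y, hy⟩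
      have h' := congrArg Subtype.val h
      rw [hγL] at h'
      exact h'
    have hDtop : twist τ = ⊤ := by
      by_contra hD
      refine hy₁ (eq_of_fixes_twist τ hτ2 ?_ (hsmall _ (fun y hy => twist_invariant γ τ hcomm hy) hD)
        y₁)
      exact Nat.prime_two.coprime_iff_not_dvd.2 fun h =>
        Nat.not_even_iff_odd.2 hodd (even_iff_two_dvd.2 h)
    -- the group has class at most two
    have hFne : frattini Y ≠ ⊤ := fun h => by
      have h' := frattini_nongenerating (G := Y) (K := ⊥) (by rw [bot_sup_eq, h])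
      exact hy₁ (by rw [Subgroup.mem_bot.1 (h'.symm ▸ Subgroup.mem_top y₁ : y₁ ∈ (⊥ : Subgroup Y)),
        map_one])
    have hFfix : ∀ z ∈ frattini Y, τ z = z := hsmall _ (fun z hz => by
      have h := Subgroup.characteristic_iff_map_eq.1
        (inferInstance : (frattini Y).Characteristic) γ
      rw [← h]
      exact ⟨z, hz, rfl⟩) hFne
    have hFc : frattini Y ≤ Subgroup.center Y := by
      intro y hy
      rw [Subgroup.mem_center_iff]
      intro x
      have : twist τ ≤ Subgroup.centralizer {y} := by
        refine (Subgroup.closure_le _).2 ?_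
        rintro _ ⟨z, rfl⟩
        rw [SetLike.mem_coe, Subgroup.mem_centralizer_singleton_iff]
        have h1 := hFfix _ ((inferInstance : (frattini Y).Normal).conj_mem y hy z)
        rw [map_mul, map_mul, map_inv, hFfix y hy] at h1
        calc z⁻¹ * τ z * y = z⁻¹ * (τ z * y * (τ z)⁻¹) * τ z := by group
          _ = z⁻¹ * (z * y * z⁻¹) * τ z := by rw [h1]
          _ = y * (z⁻¹ * τ z) := by group
      rw [hDtop] at this
      exact Subgroup.mem_centralizer_singleton_iff.1 (this (Subgroup.mem_top x))
    have hcent : commutator Y ≤ Subgroup.center Y :=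
      (CfsgLib.Solvable.commutator_le_frattini hY).trans hFc
    have hN : 0 < 2 ^ k := pow_pos two_pos k
    have hNK : ((2 ^ k : ℕ) : K) ≠ 0 := by
      rw [Nat.cast_pow]; exact pow_ne_zero k h2K
    set s := -g with hs
    have hsN : s ^ 2 ^ k = 1 := by
      rw [hs, (Nat.even_pow.2 ⟨even_two, by omega⟩).neg_pow, hg]
    have hscompat : ∀ y, s * ψ y = ψ (γ y) * s := fun y => by
      rw [hs, neg_mul, mul_neg, hcompat]
    have hT : ∑ i ∈ range (2 ^ k), s ^ i = 0 := sum_neg_pow_eq_zero g hk hrel
    by_cases habel : ∀ a c : Y, a * c = c * a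
    · exact hy₁ (abelian_fixed habel hodd hYK (by omega) γ hγ ψ hψ s hscompat hT y₁)
    push Not at habel
    obtain ⟨a, c, hac⟩ := habel
    have hmem : ⁅a, c⁆ ∈ commutator Y :=
      Subgroup.commutator_mem_commutator (Subgroup.mem_top a) (Subgroup.mem_top c)
    obtain ⟨R, lam, hRn, hcR, hiff, hz, hVi, hVne, hone⟩ := exists_scalar_data hYK hcent ψ hψ
      (hcent hmem) (fun h => hac (commutatorElement_eq_one_iff_mul_comm.1 h))
    haveI := hRn
    have hR : R ≠ ⊤ := by
      intro h
      apply hz (h ▸ Subgroup.mem_top _)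
      have := (hiff a).1 (h ▸ Subgroup.mem_top a) c (h ▸ Subgroup.mem_top _)
      refine (congrArg lam (Subtype.ext ?_)).trans this
      exact commutatorElement_def a c
    obtain ⟨P, hP0, hPN, hRP, hVs, hPc, hPT⟩ :=
      exists_stab hYK hcent γ ψ R lam hcR hiff hN hγ s hscompat hT
    obtain ⟨v₀, hv₀, hv₀0⟩ := Submodule.exists_mem_ne_zero_of_ne_bot hVne
    obtain ⟨j, hj, rfl⟩ := (Nat.dvd_prime_pow Nat.prime_two).1 hPN
    have hjk : j ≤ k - 1 := by
      rcases Nat.lt_or_ge j k with h | h
      · omega
      · exfalso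
        have hPk : 2 ^ k / 2 ^ j = 1 := by
          rw [show j = k by omega, Nat.div_self hN]
        have := hPT v₀ hv₀
        rw [hPk, Finset.sum_range_one, pow_zero, Module.End.one_apply] at this
        exact hv₀0 this
    rcases Nat.eq_zero_or_pos j with rfl | hj0
    · -- the stabiliser is everything
      simp only [pow_zero, pow_one, Nat.div_one] at hRP hVs hPc hPT
      have hmap : R.map (γ : Y →* Y) = R :=
        Subgroup.eq_of_le_of_card_ge (by rintro _ ⟨y, hy, rfl⟩; exact hRP y hy)
          (Subgroup.card_map_of_injective (f := (γ : Y →* Y)) γ.injective).ge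
      let γR : MulAut (Y ⧸ R) := QuotientGroup.congr R R γ hmap
      have hγR : ∀ (i : ℕ) (y : Y), (γR ^ i) y = (((γ ^ i) y : Y) : Y ⧸ R) := by
        intro i
        induction i with
        | zero => simp
        | succ i ih' => intro y; rw [pow_succ', MulAut.mul_apply, ih', pow_succ' γ]; rfl
      have hqc : ∀ u v : Y ⧸ R, u * v = v * u := fun u v => by
        induction u using QuotientGroup.induction_on with
        | H u =>
          induction v using QuotientGroup.induction_on with
          | H v =>
            rw [← QuotientGroup.mk_mul, ← QuotientGroup.mk_mul, QuotientGroup.eq,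
              show (u * v)⁻¹ * (v * u) = v⁻¹ * u⁻¹ * v⁻¹⁻¹ * u⁻¹⁻¹ by group]
            exact hcR (commutator_mem' hcent _ _)
      let f : Y ⧸ R →* Y ⧸ R :=
        { toFun := fun y => y⁻¹ * (γR ^ 2 ^ (k - 1)) y
          map_one' := by simp
          map_mul' := fun u v => by
            rw [map_mul, mul_inv_rev, hqc v⁻¹ u⁻¹, mul_assoc, ← mul_assoc v⁻¹,
              hqc v⁻¹ ((γR ^ 2 ^ (k - 1)) u), mul_assoc, ← mul_assoc] }
      have hsur : Function.Surjective f := by
        intro u
        induction u using QuotientGroup.induction_on with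
        | H u =>
          have : twist τ ≤ f.range.comap (QuotientGroup.mk' R) := by
            refine (Subgroup.closure_le _).2 ?_
            rintro _ ⟨z, rfl⟩
            exact ⟨(z : Y ⧸ R), by
              show (z : Y ⧸ R)⁻¹ * (γR ^ 2 ^ (k - 1)) (z : Y ⧸ R) = _
              rw [hγR]; rfl⟩
          exact this (hDtop ▸ Subgroup.mem_top u)
      have hinj := (Finite.injective_iff_surjective (f := f)).2 hsur
      have hVW : Nontrivial (charSpace ψ lam) := Submodule.nontrivial_iff_ne_bot.2 hVne
      obtain ⟨⟨d, hdN, hdW⟩, -⟩ := monomial_exception (V := charSpace ψ lam) R hYK lam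
        (subRep ψ _ hVi) (fun z => LinearMap.ext fun v => Subtype.ext (v.2 z)) (hcent.trans hcR)
        (fun x hx => by by_contra! h; exact hx ((hiff x).2 h)) hR γ hRP hNK (s.restrict hVs)
        (LinearMap.ext fun v => Subtype.ext (by rw [coe_restrict_pow, hsN]; rfl))
        (fun y => LinearMap.ext fun v => Subtype.ext (LinearMap.congr_fun (hPc y) v))
        (LinearMap.ext fun v => Subtype.ext (by
          rw [LinearMap.sum_apply, Submodule.coe_sum,
            Finset.sum_congr rfl fun i _ => coe_restrict_pow s _ hVs i v, ← LinearMap.sum_apply]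
          exact hPT v v.2))
        (fun i hi y hy => by
          have h1 := fixed_of_pow_fixed γR (n := k) (MulEquiv.ext fun u => by
            induction u using QuotientGroup.induction_on with
            | H u => rw [hγR, hγ]; rfl) hi (x := (y : Y ⧸ R))
            (by rw [hγR]; exact (QuotientGroup.eq.2 hy).symm)
          have h2 : f (y : Y ⧸ R) = f 1 := by
            rw [map_one]
            show (y : Y ⧸ R)⁻¹ * (γR ^ 2 ^ (k - 1)) (y : Y ⧸ R) = 1
            rw [h1, inv_mul_cancel]
          exact (QuotientGroup.eq_one_iff y).1 (hinj h2))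
      obtain ⟨e, he⟩ := IsPGroup.iff_card.1 (hY.to_quotient R)
      obtain ⟨a', -, ha'⟩ := (Nat.dvd_prime_pow ht.out).1
        (show d ∣ t ^ e from ⟨d, by rw [← he, hdW, pow_two]⟩)
      exact hexc ⟨a', by rw [← ha', hdN]⟩
    · -- the involution part is `-1` on the eigenspace
      set W := charSpace ψ lam
      have hev : Even (2 ^ j) := Nat.even_pow.2 ⟨even_two, by omega⟩
      have hgP : g ^ 2 ^ j = s ^ 2 ^ j := by rw [hs, hev.neg_pow]
      have hghalf : ∀ v ∈ W, (g ^ 2 ^ (k - 1)) v ∈ W := by
        obtain ⟨c', hc'⟩ := pow_dvd_pow 2 hjk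
        rw [hc', pow_mul, hgP]
        clear hc'
        intro v hv
        induction c' with
        | zero => simpa using hv
        | succ c' ihc => rw [pow_succ', Module.End.mul_apply]; exact hVs _ ihc
      have hneg : ∀ v ∈ W, (g ^ 2 ^ (k - 1)) v = -v := by
        intro v hv
        set w := (g ^ 2 ^ (k - 1)) v + v with hw
        have hgw : g w = w := by
          have := LinearMap.congr_fun hrel v
          simp only [Module.End.mul_apply, LinearMap.add_apply, Module.End.one_apply,
            LinearMap.sub_apply, LinearMap.zero_apply, sub_eq_zero] at this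
          exact this
        have hpw : ∀ i : ℕ, ((s ^ 2 ^ j) ^ i) w = w := by
          intro i
          rw [← hgP, ← pow_mul]
          induction 2 ^ j * i with
          | zero => simp
          | succ i ih' => rw [pow_succ', Module.End.mul_apply, ih', hgw]
        have h0 := hPT w (add_mem (hghalf v hv) hv)
        rw [LinearMap.sum_apply, Finset.sum_congr rfl fun i _ => hpw i, Finset.sum_const,
          card_range, ← Nat.cast_smul_eq_nsmul K] at h0
        rcases smul_eq_zero.1 h0 with h | h
        · exfalso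
          apply hNK
          rw [← Nat.div_mul_cancel hPN, Nat.cast_mul, h, zero_mul]
        · exact eq_neg_of_add_eq_zero_left h
      apply hR
      rw [eq_top_iff, ← hDtop]
      refine (Subgroup.closure_le R).2 ?_
      rintro _ ⟨y, rfl⟩
      refine hone _ fun v hv => ?_
      have hpowc : ∀ (i : ℕ) z, g ^ i * ψ z = ψ ((γ ^ i) z) * g ^ i := by
        intro i z
        induction i with
        | zero => simp
        | succ i ih' =>
          rw [pow_succ', mul_assoc, ih', ← mul_assoc, hcompat, mul_assoc, pow_succ' γ,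
            MulAut.mul_apply]
      have h1 := LinearMap.congr_fun (hpowc (2 ^ (k - 1)) y) v
      rw [Module.End.mul_apply, Module.End.mul_apply, hneg _ (hVi y v hv), hneg v hv, map_neg,
        neg_inj] at h1
      rw [map_mul, Module.End.mul_apply, hτ, ← h1, ← Module.End.mul_apply, ← map_mul,
        inv_mul_cancel, map_one, Module.End.one_apply]

end CfsgLib.ShultGross
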