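import Mathlib
import Cfsg.Agent.ShultGross.GrossImage
import Cfsg.Agent.ShultGross.Module

/-!
The key step of the theorem of Gross: if a `2`-power automorphism has no fixed points on a module
on which the `q`-group `Q` is faithful, then the commutators of a `t`-group with the involution
part centralise `Q`.
-/

set_option autoImplicit false
set_option linter.style.haveILetI false

open Finset Module
open scoped commutatorElement

namespace CfsgLib.ShultGross

universe u v w

/-- An elementary abelian `r`-group as a module, remembering two-term relations. -/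
theorem exists_operators_add {r : ℕ} [Fact r.Prime] (W : Type w) [CommGroup W] [Finite W]
    (hexp : ∀ x : W, x ^ r = 1) :
    ∃ (m : ℕ) (Φ : MulAut W →* Module.End (AlgebraicClosure (ZMod r))
        (Fin m → AlgebraicClosure (ZMod r))), Function.Injective Φ ∧
      ∀ a b c d : MulAut W, (∀ x, a x * b x = c x * d x) → Φ a + Φ b = Φ c + Φ d := by
  obtain ⟨m, Θ, hΘ⟩ := @exists_end_embedding r _ (Additive W) _ _
    (AddCommGroup.zmodModule fun v : Additive W => hexp v.toMul)
  let toEnd : MulAut W →* AddMonoid.End (Additive W) :=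
    { toFun := fun f => MonoidHom.toAdditive f.toMonoidHom
      map_one' := AddMonoidHom.ext fun _ => rfl
      map_mul' := fun _ _ => AddMonoidHom.ext fun _ => rfl }
  refine ⟨m, Θ.toMonoidHom.comp toEnd, hΘ.comp fun f g h => ?_, fun a b c d h => ?_⟩
  · ext x
    exact congrArg (fun k : AddMonoid.End (Additive W) => Additive.toMul (k (Additive.ofMul x))) h
  · show Θ (toEnd a) + Θ (toEnd b) = Θ (toEnd c) + Θ (toEnd d)
    rw [← map_add Θ, ← map_add Θ]
    exact congrArg Θ (AddMonoidHom.ext fun v => congrArg Additive.ofMul (h v.toMul))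

theorem mulAut_pow_mem {G : Type w} [Group G] (σ : MulAut G) (L : Subgroup G)
    (hL : ∀ x ∈ L, σ x ∈ L) (i : ℕ) {x : G} (hx : x ∈ L) : (σ ^ i) x ∈ L := by
  induction i with
  | zero => simpa using hx
  | succ i ih => rw [pow_succ', MulAut.mul_apply]; exact hL _ ih

variable {K : Type u} [Field K] [IsAlgClosed K] {V : Type v} [AddCommGroup V] [Module K V]
  [FiniteDimensional K V] {q t n : ℕ} [hq : Fact q.Prime] [ht : Fact t.Prime]

/-- The exceptional configuration forces a linear relation on the Frattini quotient. -/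
theorem relation_of_mixed {Q : Type w} [Group Q] [Finite Q] (hn : 1 ≤ n) (hQ : IsPGroup q Q)
    (hodd : Odd (Nat.card Q)) (hQK : (Nat.card Q : K) ≠ 0) (h2K : (2 : K) ≠ 0) (σ : MulAut Q)
    (hσ : σ ^ 2 ^ n = 1) (hcent : commutator Q ≤ Subgroup.center Q)
    (hτc : ∀ z ∈ Subgroup.center Q, (σ ^ 2 ^ (n - 1)) z = z) (ψ : Q →* Module.End K V)
    (hψ : Function.Injective ψ) (s : Module.End K V) (hsN : s ^ 2 ^ n = 1)
    (hcompat : ∀ x, s * ψ x = ψ (σ x) * s) (hT : ∑ i ∈ range (2 ^ n), s ^ i = 0)
    (hmixed : ∀ R : Subgroup Q, Subgroup.center Q ≤ R → R ≠ ⊤ →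
      (∀ (f : MulAut Q), (∀ z ∈ Subgroup.center Q, f z = z) → ∀ y ∈ R, f y ∈ R) →
      ∃ y, y⁻¹ * (σ ^ 2 ^ (n - 1)) y ∉ R)
    (hne : ∃ a c : Q, a * c ≠ c * a) :
    ∃ k : ℕ, 2 ≤ k ∧ k ≤ n ∧ q + 1 = 2 ^ k ∧ ∀ y : Q,
      (y * (σ ^ 2 ^ (n - 1)) y)⁻¹ * (σ ^ 2 ^ (n - k)) (y * (σ ^ 2 ^ (n - 1)) y)
        ∈ Subgroup.center Q := by
  set τ := σ ^ 2 ^ (n - 1) with hτ
  have hττ : ∀ y, τ (τ y) = y := fun y => by
    rw [← MulAut.mul_apply, hτ, ← pow_add, ← two_mul, ← pow_succ', Nat.sub_add_cancel hn, hσ,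
      MulAut.one_apply]
  have hN : 0 < 2 ^ n := pow_pos two_pos n
  have hq2 : q ≠ 2 := by
    rintro rfl
    obtain ⟨e, he⟩ := IsPGroup.iff_card.1 hQ
    obtain ⟨a, c, hac⟩ := hne
    rw [he] at hodd
    rcases Nat.eq_zero_or_pos e with rfl | he0
    · haveI : Subsingleton Q := (Nat.card_eq_one_iff_unique.1 (by rw [he, pow_zero])).1
      exact hac (Subsingleton.elim _ _)
    · exact Nat.not_even_iff_odd.2 hodd (Nat.even_pow.2 ⟨even_two, he0.ne'⟩)
  -- the exceptional parameters for one character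
  have key : ∀ z ∈ commutator Q, z ≠ 1 → ∃ (R : Subgroup Q) (lam : R →* K),
      Subgroup.center Q ≤ R ∧
      (∀ x, x ∈ R → ∀ (y : Q) (h : x * y * x⁻¹ * y⁻¹ ∈ R), lam ⟨_, h⟩ = 1) ∧
      (∀ h : z ∈ R, lam ⟨z, h⟩ ≠ 1) ∧
      ∃ k : ℕ, 2 ≤ k ∧ k ≤ n ∧ q + 1 = 2 ^ k ∧
        ∀ y : Q, (y * τ y)⁻¹ * (σ ^ 2 ^ (n - k)) (y * τ y) ∈ R := by
    intro z hz hz1
    obtain ⟨R, lam, hRn, hcR, hiff, hzR, hVi, hVne, hone⟩ :=
      exists_scalar_data hQK hcent ψ hψ (hcent hz) hz1
    refine ⟨R, lam, hcR, fun x hx => (hiff x).1 hx, hzR, ?_⟩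
    haveI := hRn
    have hqc : ∀ u v : Q ⧸ R, u * v = v * u := fun u v => by
      induction u using QuotientGroup.induction_on with
      | H u =>
        induction v using QuotientGroup.induction_on with
        | H v =>
          rw [← QuotientGroup.mk_mul, ← QuotientGroup.mk_mul, QuotientGroup.eq,
            show (u * v)⁻¹ * (v * u) = v⁻¹ * u⁻¹ * v⁻¹⁻¹ * u⁻¹⁻¹ by group]
          exact hcR (commutator_mem' hcent _ _)
    have hfR : ∀ f : MulAut Q, (∀ y ∈ Subgroup.center Q, f y = y) → ∀ y ∈ R, f y ∈ R := by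
      intro f hf y hy
      rw [hiff]
      intro u hu
      obtain ⟨u', rfl⟩ := f.surjective u
      have hm := commutator_mem' hcent y u'
      have he : f y * f u' * (f y)⁻¹ * (f u')⁻¹ = y * u' * y⁻¹ * u'⁻¹ := by
        rw [← map_inv f y, ← map_inv f u', ← map_mul, ← map_mul, ← map_mul, hf _ hm]
      exact (congrArg lam (Subtype.ext he)).trans ((hiff y).1 hy u' (hcR hm))
    have hτR : ∀ y ∈ R, τ y ∈ R := hfR τ hτc
    -- the commutator pairing
    let β : Q → Q → K := fun x y => lam ⟨_, hcR (commutator_mem' hcent x y)⟩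
    have hβmul : ∀ x x' y, β (x * x') y = β x' y * β x y := by
      intro x x' y
      show lam _ = lam _ * lam _
      rw [← map_mul]
      congr 1
      refine Subtype.ext ?_
      show x * x' * y * (x * x')⁻¹ * y⁻¹ = (x' * y * x'⁻¹ * y⁻¹) * (x * y * x⁻¹ * y⁻¹)
      have hc := Subgroup.mem_center_iff.1 (commutator_mem' hcent x' y) x
      calc x * x' * y * (x * x')⁻¹ * y⁻¹
          = x * (x' * y * x'⁻¹ * y⁻¹) * (y * x⁻¹ * y⁻¹) := by group
        _ = (x' * y * x'⁻¹ * y⁻¹) * x * (y * x⁻¹ * y⁻¹) := by rw [hc]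
        _ = _ := by group
    have hβswap : ∀ x y, β x y * β y x = 1 := by
      intro x y
      show lam _ * lam _ = 1
      rw [← map_mul]
      convert map_one lam
      refine Subtype.ext ?_
      show x * y * x⁻¹ * y⁻¹ * (y * x * y⁻¹ * x⁻¹) = 1
      group
    have hβR : ∀ r ∈ R, ∀ y, β r y = 1 := fun r hr y => (hiff r).1 hr y _
    have hβR' : ∀ r ∈ R, ∀ y, β y r = 1 := fun r hr y => by
      have := hβswap y r
      rwa [hβR r hr y, mul_one] at this
    have hβτ : ∀ x y, β (τ x) (τ y) = β x y := fun x y => congrArg lam (Subtype.ext (by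
      show τ x * τ y * (τ x)⁻¹ * (τ y)⁻¹ = x * y * x⁻¹ * y⁻¹
      rw [← map_inv τ x, ← map_inv τ y, ← map_mul, ← map_mul, ← map_mul,
        hτc _ (commutator_mem' hcent x y)]))
    have hβinv : ∀ x y, β x⁻¹ y * β x y = 1 := fun x y => by
      rw [← hβmul, mul_inv_cancel]
      exact hβR 1 (one_mem R) y
    -- the two eigenspaces of `τ` modulo `R`
    let D : Subgroup Q :=
      { carrier := {y | y * τ y ∈ R}
        one_mem' := by simp
        mul_mem' := fun {a c} (ha : a * τ a ∈ R) (hc : c * τ c ∈ R) => by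
          show a * c * τ (a * c) ∈ R
          rw [← QuotientGroup.eq_one_iff] at ha hc ⊢
          simp only [map_mul, QuotientGroup.mk_mul] at ha hc ⊢
          rw [mul_assoc, ← mul_assoc (c : Q ⧸ R), hqc (c : Q ⧸ R), mul_assoc, ← mul_assoc, ha, hc,
            one_mul]
        inv_mem' := fun {a} (ha : a * τ a ∈ R) => by
          show a⁻¹ * τ a⁻¹ ∈ R
          rw [← QuotientGroup.eq_one_iff] at ha ⊢
          simp only [map_inv, QuotientGroup.mk_mul, QuotientGroup.mk_inv] at ha ⊢
          rw [← mul_inv_rev, hqc, ha, inv_one] }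
    have hsymm : ∀ y, τ (y⁻¹ * τ y) = (y⁻¹ * τ y)⁻¹ := fun y => by
      rw [map_mul, map_inv, hττ, mul_inv_rev, inv_inv]
    have hDR : ¬ D ≤ R := by
      intro hD
      have hR : R ≠ ⊤ := fun h => by
        obtain ⟨a, c, hac⟩ := hne
        have hmem := h ▸ Subgroup.mem_top z
        apply hzR hmem
        have hker : commutator Q ≤ (lam.ker).map R.subtype := by
          rw [commutator_def, Subgroup.commutator_le]
          intro x _ y _
          refine ⟨⟨⁅x, y⁆, h ▸ Subgroup.mem_top _⟩, ?_, rfl⟩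
          refine (congrArg lam (Subtype.ext (commutatorElement_def x y))).trans
            ((hiff x).1 (h ▸ Subgroup.mem_top x) y (h ▸ Subgroup.mem_top _))
        obtain ⟨⟨z', hz'⟩, hk, rfl⟩ := hker hz
        exact hk
      obtain ⟨y, hy⟩ := hmixed R hcR hR hfR
      refine hy (hD ?_)
      show y⁻¹ * τ y * τ (y⁻¹ * τ y) ∈ R
      rw [hsymm, mul_inv_cancel]
      exact one_mem R
    obtain ⟨P, hP0, hPN, hRP, hVs, hPc, hPT⟩ :=
      exists_stab hQK hcent σ ψ R lam hcR hiff hN hσ s hcompat hT
    obtain ⟨v₀, hv₀, hv₀0⟩ := Submodule.exists_mem_ne_zero_of_ne_bot hVne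
    obtain ⟨j, hj, rfl⟩ := (Nat.dvd_prime_pow Nat.prime_two).1 hPN
    have hjn : j < n := by
      rcases Nat.eq_or_lt_of_le hj with rfl | h
      · exfalso
        have := hPT v₀ hv₀
        rw [Nat.div_self hN, Finset.sum_range_one, pow_zero, Module.End.one_apply] at this
        exact hv₀0 this
      · exact h
    have hdiv : 2 ^ n / 2 ^ j = 2 ^ (n - j) := Nat.pow_div hj two_pos
    set σ₂ := σ ^ 2 ^ j with hσ₂
    have hcomm2 : ∀ y, τ (σ₂ y) = σ₂ (τ y) := fun y => by
      rw [← MulAut.mul_apply, ← MulAut.mul_apply, hτ, hσ₂, ← pow_add, ← pow_add, add_comm]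
    have hDσ : ∀ y ∈ D, σ₂ y ∈ D := fun y (hy : y * τ y ∈ R) => by
      show σ₂ y * τ (σ₂ y) ∈ R
      rw [hcomm2, ← map_mul]
      exact hRP _ hy
    let σD : MulAut D := MulEquiv.ofBijective
      ({ toFun := fun y => ⟨σ₂ y, hDσ _ y.2⟩
         map_one' := Subtype.ext (map_one σ₂)
         map_mul' := fun a c => Subtype.ext (map_mul σ₂ _ _) } : D →* D)
      (Finite.injective_iff_bijective.1 fun a c h =>
        Subtype.ext (σ₂.injective (congrArg Subtype.val h)))
    have hσD : ∀ (i : ℕ) (y : D), ((σD ^ i) y : Q) = (σ₂ ^ i) y := by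
      intro i
      induction i with
      | zero => intro y; simp
      | succ i ih' =>
        intro y
        rw [pow_succ', MulAut.mul_apply, pow_succ' σ₂, MulAut.mul_apply, ← ih']
        rfl
    have hRD : R ≤ D := fun y hy => mul_mem hy (hτR y hy)
    let R' := R.subgroupOf D
    let lam' : R' →* K := lam.comp
      { toFun := fun y => ⟨((y : D) : Q), y.2⟩
        map_one' := rfl
        map_mul' := fun _ _ => rfl }
    haveI : R'.Normal := hRn.subgroupOf D
    have hmapR : R.map (σ₂ : Q →* Q) = R :=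
      Subgroup.eq_of_le_of_card_ge (by rintro _ ⟨y, hy, rfl⟩; exact hRP y hy)
        (Subgroup.card_map_of_injective (f := (σ₂ : Q →* Q)) σ₂.injective).ge
    let σR : MulAut (Q ⧸ R) := QuotientGroup.congr R R σ₂ hmapR
    have hσR : ∀ (i : ℕ) (y : Q), (σR ^ i) y = (((σ₂ ^ i) y : Q) : Q ⧸ R) := by
      intro i
      induction i with
      | zero => simp
      | succ i ih' => intro y; rw [pow_succ', MulAut.mul_apply, ih', pow_succ' σ₂]; rfl
    have hτ2 : σ₂ ^ 2 ^ (n - j - 1) = τ := by
      rw [hσ₂, hτ, ← pow_mul, ← pow_add]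
      congr 2
      omega
    have hσ₂N : σ₂ ^ 2 ^ (n - j) = 1 := by
      rw [hσ₂, ← pow_mul, ← pow_add, Nat.add_sub_cancel' hj, hσ]
    haveI hVW : Nontrivial (charSpace ψ lam) := Submodule.nontrivial_iff_ne_bot.2 hVne
    have hDK : (Nat.card D : K) ≠ 0 := fun h => hQK (by
      obtain ⟨c, hc⟩ := Subgroup.card_subgroup_dvd_card D
      rw [hc, Nat.cast_mul, h, zero_mul])
    have hsum2 : ∑ i ∈ range (2 ^ (n - j)), ((s ^ 2 ^ j).restrict hVs) ^ i = 0 :=
      LinearMap.ext fun v => Subtype.ext (by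
        rw [LinearMap.sum_apply, Submodule.coe_sum,
          Finset.sum_congr rfl fun i _ => coe_restrict_pow _ _ hVs i v, ← LinearMap.sum_apply,
          ← hdiv]
        exact hPT v v.2)
    have hs2N : ((s ^ 2 ^ j).restrict hVs) ^ 2 ^ (n - j) = 1 := LinearMap.ext fun v => Subtype.ext (by
      rw [coe_restrict_pow, ← pow_mul, ← pow_add, Nat.add_sub_cancel' hj, hsN]
      rfl)
    obtain ⟨⟨d, hdN, hdW⟩, hcommS⟩ := monomial_exception (V := charSpace ψ lam) R' hDK lam'
      ((subRep ψ _ hVi).comp D.subtype) (fun y => LinearMap.ext fun v => Subtype.ext (v.2 ⟨_, y.2⟩))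
      (by
        rw [commutator_def, Subgroup.commutator_le]
        intro x _ y _
        rw [commutatorElement_def]
        exact hcR (commutator_mem' hcent (x : Q) y))
      (fun x hx => by
        by_contra! h
        apply hx
        show (x : Q) ∈ R
        rw [hiff]
        intro u hu
        -- split `u` along the eigenspaces
        have hd' : u⁻¹ * τ u ∈ D := by
          show u⁻¹ * τ u * τ (u⁻¹ * τ u) ∈ R
          rw [hsymm, mul_inv_cancel]
          exact one_mem R
        have hc' : β (x : Q) (u * τ u) = 1 := by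
          set c := u * τ u with hcdef
          have hcC : c⁻¹ * τ c ∈ R := by
            rw [hcdef, map_mul, hττ, mul_inv_rev,
              show (τ u)⁻¹ * u⁻¹ * (τ u * u) = (τ u)⁻¹ * u⁻¹ * (τ u)⁻¹⁻¹ * u⁻¹⁻¹ by group]
            exact hcR (commutator_mem' hcent _ _)
          have h1 : β (τ x) (τ c) = β (x : Q)⁻¹ c := by
            have e1 : τ (x : Q) = (x : Q)⁻¹ * ((x : Q) * τ x) := by rw [inv_mul_cancel_left]
            have e2 : ∀ a : Q, β a (τ c) = β a c := fun a => by
              have h2 := hβswap (τ c) a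
              have h3 := hβswap c a
              rw [show τ c = c * (c⁻¹ * τ c) by rw [mul_inv_cancel_left], hβmul, hβR _ hcC, one_mul]
                at h2
              rw [← show τ c = c * (c⁻¹ * τ c) by rw [mul_inv_cancel_left]] at h2
              exact mul_left_cancel₀ (fun h0 => by rw [h0, zero_mul] at h3; exact zero_ne_one h3)
                (h2.trans h3.symm)
            rw [e2, e1, hβmul, hβR _ x.2, one_mul]
          rw [hβτ] at h1
          have h2 := hβinv (x : Q) c
          rw [← h1] at h2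
          have h3 : (⟨_, hcR (commutator_mem' hcent (x : Q) c)⟩ : R) ^ Nat.card Q = 1 :=
            Subtype.ext (by simp)
          have h4 := congrArg lam h3
          rw [map_pow, map_one] at h4
          have h5 := pow_gcd_eq_one.2 ⟨(show β (x : Q) c ^ 2 = 1 by rw [pow_two, h2]), h4⟩
          rwa [(Nat.prime_two.coprime_iff_not_dvd.2
            fun h' => Nat.not_even_iff_odd.2 hodd (even_iff_two_dvd.2 h')), pow_one] at h5
        have hd'' : β (x : Q) (u⁻¹ * τ u) = 1 := by
          refine (congrArg lam (Subtype.ext rfl)).trans (h ⟨_, hd'⟩ ?_)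
          exact hcR (commutator_mem' hcent (x : Q) _)
        -- `u` is a square root of the quotient of the two components
        have h6 : β (x : Q) u * β (x : Q) u = 1 := by
          have hA := hβswap (x : Q) (u * τ u)
          have hB := hβswap (x : Q) (u⁻¹ * τ u)
          have hC := hβswap (x : Q) u
          rw [hc', one_mul, hβmul] at hA
          rw [hd'', one_mul, hβmul] at hB
          have hD2 := hβinv u (x : Q)
          calc β (x : Q) u * β (x : Q) u
              = β (x : Q) u * β (x : Q) u * ((β (τ u) x * β u x) * (β u⁻¹ x * β u x)) /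
                  ((β (τ u) x * β u⁻¹ x)) := by rw [hA, hD2, hB]; simp
            _ = _ := by
              rw [hB, div_one]
              calc β (x : Q) u * β (x : Q) u * ((β (τ u) x * β u x) * (β u⁻¹ x * β u x))
                  = (β (x : Q) u * β u x) * (β (x : Q) u * β u x) * (β (τ u) x * β u⁻¹ x) := by ring
                _ = 1 := by rw [hC, hB]; simp
        have h3 : (⟨_, hcR (commutator_mem' hcent (x : Q) u)⟩ : R) ^ Nat.card Q = 1 :=
          Subtype.ext (by simp)
        have h4 := congrArg lam h3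
        rw [map_pow, map_one] at h4
        have h5 := pow_gcd_eq_one.2 ⟨(show β (x : Q) u ^ 2 = 1 by rw [pow_two, h6]), h4⟩
        rwa [(Nat.prime_two.coprime_iff_not_dvd.2
          fun h' => Nat.not_even_iff_odd.2 hodd (even_iff_two_dvd.2 h')), pow_one] at h5)
      (fun h => hDR fun y hy => Subgroup.mem_subgroupOf.1 (h ▸ Subgroup.mem_top (⟨y, hy⟩ : D)))
      σD (fun y hy => hRP (y : Q) hy)
      (show ((2 ^ (n - j) : ℕ) : K) ≠ 0 by rw [Nat.cast_pow]; exact pow_ne_zero _ h2K)
      ((s ^ 2 ^ j).restrict hVs) hs2N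
      (fun y => LinearMap.ext fun v => Subtype.ext (LinearMap.congr_fun (hPc (y : Q)) v))
      hsum2
      (fun i hi y hy => by
        show (y : Q) ∈ R
        have hy' : (y : Q)⁻¹ * (σ₂ ^ i) y ∈ R := by
          rw [← hσD]; exact hy
        have h1 := fixed_of_pow_fixed σR (n := n - j) (MulEquiv.ext fun u => by
          induction u using QuotientGroup.induction_on with
          | H u => rw [hσR, hσ₂N]; rfl) hi (x := ((y : Q) : Q ⧸ R))
          (by rw [hσR]; exact (QuotientGroup.eq.2 hy').symm)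
        rw [hσR, hτ2, eq_comm, QuotientGroup.eq] at h1
        refine mem_of_sq_mem hodd ?_
        have h2 : (y : Q) * τ y ∈ R := y.2
        rw [← QuotientGroup.eq_one_iff] at h1 h2 ⊢
        simp only [QuotientGroup.mk_mul, QuotientGroup.mk_inv] at h1 h2 ⊢
        rwa [← inv_mul_eq_one.1 h1] at h2)
    obtain ⟨e, he⟩ := IsPGroup.iff_card.1 ((hQ.to_subgroup D).to_quotient R')
    obtain ⟨m, -, hm⟩ := (Nat.dvd_prime_pow hq.out).1
      (show d ∣ q ^ e from ⟨d, by rw [← he, hdW, pow_two]⟩)
    have hm1 : 1 ≤ m := by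
      by_contra hm0
      obtain rfl : m = 0 := by omega
      rw [pow_zero] at hm
      rw [hm, one_pow] at hdW
      apply hDR
      have hsub : (⊤ : Subgroup D) ≤ R' := fun y _ => by
        haveI : Subsingleton (D ⧸ R') := (Nat.card_eq_one_iff_unique.1 hdW).1
        exact (QuotientGroup.eq_one_iff y).1 (Subsingleton.elim _ _)
      exact fun y hy => hsub (Subgroup.mem_top (⟨y, hy⟩ : D))
    have hm_eq : m = 1 := mersenne_exponent hq.out hq2 hm1 (by rw [← hm]; exact hdN)
    rw [hm_eq, pow_one] at hm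
    rw [hm] at hdN
    have hk2 : 2 ≤ n - j := by
      by_contra hlt
      have : 2 ^ (n - j) ≤ 2 := by
        calc 2 ^ (n - j) ≤ 2 ^ 1 := Nat.pow_le_pow_right two_pos (by omega)
          _ = 2 := pow_one 2
      have := hq.out.two_le
      omega
    refine ⟨n - j, hk2, Nat.sub_le _ _, hdN, fun y => ?_⟩
    rw [show n - (n - j) = j by omega]
    set w := y * τ y with hw
    have hwC : w⁻¹ * τ w ∈ R := by
      rw [hw, map_mul, hττ, mul_inv_rev,
        show (τ y)⁻¹ * y⁻¹ * (τ y * y) = (τ y)⁻¹ * y⁻¹ * (τ y)⁻¹⁻¹ * y⁻¹⁻¹ by group]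
      exact hcR (commutator_mem' hcent _ _)
    have hcw := hcommS (subRep ψ _ hVi w) (fun d' => by
      have hβ1 : β w d' = 1 := by
        have h1 : β (τ w) (τ (d' : Q)) = β w (d' : Q)⁻¹ := by
          have e2 : ∀ a : Q, β a (τ (d' : Q)) = β a (d' : Q)⁻¹ := fun a => by
            have h2 := hβswap (τ (d' : Q)) a
            have h3 := hβswap (d' : Q)⁻¹ a
            have h4 : τ (d' : Q) = (d' : Q)⁻¹ * ((d' : Q) * τ d') := by rw [inv_mul_cancel_left]
            rw [h4, hβmul, hβR _ d'.2, one_mul, ← h4] at h2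
            exact mul_left_cancel₀ (fun h0 => by rw [h0, zero_mul] at h3; exact zero_ne_one h3)
              (h2.trans h3.symm)
          rw [e2, show τ w = w * (w⁻¹ * τ w) by rw [mul_inv_cancel_left], hβmul, hβR _ hwC, one_mul]
        rw [hβτ] at h1
        have h3 : β w (d' : Q)⁻¹ * β w d' = 1 := by
          have hA := hβswap w (d' : Q)
          have hB := hβswap w (d' : Q)⁻¹
          have hC := hβinv (d' : Q) w
          calc β w (d' : Q)⁻¹ * β w d'
              = β w (d' : Q)⁻¹ * β w d' * (β (d' : Q)⁻¹ w * β (d' : Q) w) := by rw [hC, mul_one]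
            _ = (β w (d' : Q)⁻¹ * β (d' : Q)⁻¹ w) * (β w d' * β (d' : Q) w) := by ring
            _ = 1 := by rw [hA, hB, one_mul]
        rw [← h1] at h3
        have h3' : (⟨_, hcR (commutator_mem' hcent w (d' : Q))⟩ : R) ^ Nat.card Q = 1 :=
          Subtype.ext (by simp)
        have h4 := congrArg lam h3'
        rw [map_pow, map_one] at h4
        have h5 := pow_gcd_eq_one.2 ⟨(show β w d' ^ 2 = 1 by rw [pow_two, h3]), h4⟩
        rwa [(Nat.prime_two.coprime_iff_not_dvd.2
          fun h' => Nat.not_even_iff_odd.2 hodd (even_iff_two_dvd.2 h')), pow_one] at h5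
      refine LinearMap.ext fun v => Subtype.ext ?_
      show ψ w (ψ (d' : Q) v) = ψ (d' : Q) (ψ w v)
      have h6 := (hVi _ _ (hVi w _ v.2) : ψ (d' : Q) (ψ w v) ∈ charSpace ψ lam)
        ⟨_, hcR (commutator_mem' hcent w (d' : Q))⟩
      rw [show lam ⟨_, hcR (commutator_mem' hcent w (d' : Q))⟩ = 1 from hβ1, one_smul] at h6
      simp only [← Module.End.mul_apply, ← map_mul] at h6 ⊢
      rw [← h6]
      congr 2
      group)
    have hs1 := hs2N
    refine hone _ fun v hv => ?_
    have hsur : ∃ u ∈ charSpace ψ lam, (s ^ 2 ^ j) u = v := by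
      have hpos : 0 < 2 ^ (n - j) := pow_pos two_pos _
      refine ⟨((s ^ 2 ^ j) ^ (2 ^ (n - j) - 1)) v, ?_, ?_⟩
      · rw [← coe_restrict_pow _ _ hVs _ ⟨v, hv⟩]
        exact SetLike.coe_mem _
      · rw [← Module.End.mul_apply, ← pow_succ', Nat.sub_add_cancel hpos, ← pow_mul, ← pow_add,
          Nat.add_sub_cancel' hj, hsN, Module.End.one_apply]
    obtain ⟨u, hu, rfl⟩ := hsur
    have h7 : ψ w ((s ^ 2 ^ j) u) = (s ^ 2 ^ j) (ψ w u) :=
      congrArg Subtype.val (LinearMap.congr_fun hcw.eq ⟨u, hu⟩)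
    rw [← Module.End.mul_apply (s ^ 2 ^ j), hPc, Module.End.mul_apply] at h7
    rw [map_mul, Module.End.mul_apply, ← h7, ← Module.End.mul_apply, ← map_mul, inv_mul_cancel,
      map_one, Module.End.one_apply]
  obtain ⟨a, c, hac⟩ := hne
  have hmem : ⁅a, c⁆ ∈ commutator Q :=
    Subgroup.commutator_mem_commutator (Subgroup.mem_top a) (Subgroup.mem_top c)
  obtain ⟨-, -, -, -, -, k, hk2, hkn, hqk, -⟩ :=
    key _ hmem (fun h => hac (commutatorElement_eq_one_iff_mul_comm.1 h))
  refine ⟨k, hk2, hkn, hqk, fun y => ?_⟩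
  rw [Subgroup.mem_center_iff]
  intro u
  by_contra hu
  set e := (y * τ y)⁻¹ * (σ ^ 2 ^ (n - k)) (y * τ y) with he
  have hz : e * u * e⁻¹ * u⁻¹ ∈ commutator Q := by
    have := Subgroup.commutator_mem_commutator (Subgroup.mem_top e) (Subgroup.mem_top u)
    rwa [commutatorElement_def] at this
  have hz1 : e * u * e⁻¹ * u⁻¹ ≠ 1 := fun h => hu (by
    have h' := commutatorElement_eq_one_iff_mul_comm.1 ((commutatorElement_def e u).trans h)
    exact h'.symm)
  obtain ⟨R, lam, hcR, hiff, hzR, k', -, -, hqk', hyR⟩ := key _ hz hz1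
  obtain rfl : k' = k := Nat.pow_right_injective le_rfl (hqk'.symm.trans hqk)
  exact hzR (hcR (hcent hz)) (hiff _ (hyR y) u (hcR (hcent hz)))

/-- The commutators of a `t`-group with the involution part centralise `Q`. -/
theorem gross_key (hqt : q ≠ t) (hn : 1 ≤ n) (h2K : (2 : K) ≠ 0) : ∀ (b : ℕ) {Q T : Type w}
    [Group Q] [Finite Q] [Group T] [Finite T], Nat.card Q ≤ b → IsPGroup q Q → IsPGroup t T →
    Odd (Nat.card Q) → Odd (Nat.card T) → (Nat.card Q : K) ≠ 0 →
    ∀ (σ : MulAut Q) (σT : MulAut T), σ ^ 2 ^ n = 1 → σT ^ 2 ^ n = 1 →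
    ∀ ρ : T →* MulAut Q, (∀ x y, σ (ρ x y) = ρ (σT x) (σ y)) →
    ∀ ψ : Q →* Module.End K V, Function.Injective ψ → ∀ s : Module.End K V, s ^ 2 ^ n = 1 →
      (∀ x, s * ψ x = ψ (σ x) * s) → ∑ i ∈ range (2 ^ n), s ^ i = 0 →
      ∀ (x : T) (y : Q), ρ (x⁻¹ * (σT ^ 2 ^ (n - 1)) x) y = y := by
  intro b
  induction b with
  | zero => intro Q T _ _ _ _ hc; exact absurd hc (Nat.not_le.2 Nat.card_pos)
  | succ b ih =>
    intro Q T _ _ _ _ hc hQ hT hodd hoddT hQK σ σT hσ hσT ρ hρ ψ hψ s hsN hcompat hsum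
    set τ := σ ^ 2 ^ (n - 1) with hτ
    set τT := σT ^ 2 ^ (n - 1) with hτT
    set X := twist τT with hX
    suffices X ≤ ρ.ker by
      intro x y
      rw [MonoidHom.mem_ker.1 (this (mem_twist τT x)), MulAut.one_apply]
    by_contra hne
    have hρpow : ∀ (i : ℕ) x y, (σ ^ i) (ρ x y) = ρ ((σT ^ i) x) ((σ ^ i) y) := by
      intro i x y
      induction i with
      | zero => simp
      | succ i ih' =>
        rw [pow_succ', MulAut.mul_apply, ih', hρ, pow_succ' σT, MulAut.mul_apply, MulAut.mul_apply]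
    have hττ : ∀ y, τ (τ y) = y := fun y => by
      rw [← MulAut.mul_apply, hτ, ← pow_add, ← two_mul, ← pow_succ', Nat.sub_add_cancel hn, hσ,
        MulAut.one_apply]
    have hττT : ∀ x, τT (τT x) = x := fun x => by
      rw [← MulAut.mul_apply, hτT, ← pow_add, ← two_mul, ← pow_succ', Nat.sub_add_cancel hn, hσT,
        MulAut.one_apply]
    have hinvd : ∀ x, τT (x⁻¹ * τT x) = (x⁻¹ * τT x)⁻¹ := fun x => by
      rw [map_mul, map_inv, hττT, mul_inv_rev, inv_inv]
    haveI hXn : X.Normal := twist_normal τT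
    have hXσ : ∀ x ∈ X, σT x ∈ X := fun x hx => twist_invariant σT τT (fun z => by
      rw [← MulAut.mul_apply, ← MulAut.mul_apply, hτT, ← pow_succ, ← pow_succ']) hx
    have hcop : (Nat.card T).Coprime (Nat.card Q) := by
      obtain ⟨e, he⟩ := IsPGroup.iff_card.1 hQ
      obtain ⟨e', he'⟩ := IsPGroup.iff_card.1 hT
      rw [he, he']
      exact ((Nat.coprime_primes ht.out hq.out).2 hqt.symm).pow _ _
    -- invariant proper subgroups are centralised
    have hsmall : ∀ L : Subgroup Q, (∀ y ∈ L, σ y ∈ L) → (∀ x, ∀ y ∈ L, ρ x y ∈ L) → L ≠ ⊤ →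
        ∀ x ∈ X, ∀ y ∈ L, ρ x y = y := by
      intro L hLσ hLρ hLt x hx y hy
      let σL : MulAut L := MulEquiv.ofBijective
        ({ toFun := fun z => ⟨σ z, hLσ _ z.2⟩
           map_one' := Subtype.ext (map_one σ)
           map_mul' := fun a c => Subtype.ext (map_mul σ _ _) } : L →* L)
        (Finite.injective_iff_bijective.1 fun a c h =>
          Subtype.ext (σ.injective (congrArg Subtype.val h)))
      let ρL : T →* MulAut L :=
        { toFun := fun z =>
            { toFun := fun u => ⟨ρ z u, hLρ z u u.2⟩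
              invFun := fun u => ⟨ρ z⁻¹ u, hLρ z⁻¹ u u.2⟩
              left_inv := fun u => Subtype.ext (by simp)
              right_inv := fun u => Subtype.ext (by simp)
              map_mul' := fun u u' => Subtype.ext (map_mul _ _ _) }
          map_one' := by ext u; simp
          map_mul' := fun a c => by ext u; simp [MulAut.mul_apply] }
      have hσL : ∀ (i : ℕ) (z : L), ((σL ^ i) z : Q) = (σ ^ i) z := by
        intro i
        induction i with
        | zero => intro z; simp
        | succ i ih' =>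
          intro z
          rw [pow_succ', MulAut.mul_apply, pow_succ' σ, MulAut.mul_apply, ← ih']
          rfl
      have hdvd := Subgroup.card_subgroup_dvd_card L
      have hlt : Nat.card L < Nat.card Q :=
        lt_of_le_of_ne (Nat.le_of_dvd Nat.card_pos hdvd)
          (fun he => hLt (Subgroup.eq_top_of_card_eq L he))
      have h := ih (Q := L) (T := T) (by omega) (hQ.to_subgroup L) hT (hodd.of_dvd_nat hdvd) hoddT
        (fun h0 => hQK (by obtain ⟨c, hc'⟩ := hdvd; rw [hc', Nat.cast_mul, h0, zero_mul]))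
        σL σT (MulEquiv.ext fun z => Subtype.ext (by
          rw [hσL, hσ, MulAut.one_apply, MulAut.one_apply]))
        hσT ρL (fun z u => Subtype.ext (hρ z u)) (ψ.comp L.subtype)
        (hψ.comp L.subtype_injective) s hsN (fun z => hcompat z) hsum
      have hle : X ≤ ρL.ker := (Subgroup.closure_le _).2 (by
        rintro _ ⟨z, rfl⟩
        exact MonoidHom.mem_ker.2 (MulEquiv.ext fun u => h z u))
      exact congrArg (fun f : MulAut L => ((f ⟨y, hy⟩ : L) : Q)) (MonoidHom.mem_ker.1 (hle hx))
    -- `Q = [Q, X]`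
    set DQ := Subgroup.closure {z : Q | ∃ x ∈ X, ∃ y, z = y⁻¹ * ρ x y} with hDQ
    have hDQtop : DQ = ⊤ := by
      by_contra hD
      apply hne
      intro x hx
      rw [MonoidHom.mem_ker]
      refine MulEquiv.ext fun y => eq_of_fixes_twist (ρ x) (p := Nat.card T) ?_ hcop ?_ y
      · rw [← map_pow, pow_card_eq_one', map_one]
      · intro z hz
        refine hsmall DQ ?_ ?_ hD x hx z
          ((show twist (ρ x) ≤ DQ from (Subgroup.closure_le _).2 (by
            rintro _ ⟨u, rfl⟩; exact Subgroup.subset_closure ⟨x, hx, u, rfl⟩)) hz)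
        · intro u hu
          refine (show DQ ≤ DQ.comap (σ : Q →* Q) from (Subgroup.closure_le _).2 ?_) hu
          rintro _ ⟨x', hx', y', rfl⟩
          exact Subgroup.subset_closure ⟨σT x', hXσ x' hx', σ y', by
            show σ (y'⁻¹ * ρ x' y') = _
            rw [map_mul, map_inv, hρ]⟩
        · intro z' u hu
          refine (show DQ ≤ DQ.comap (ρ z' : Q →* Q) from (Subgroup.closure_le _).2 ?_) hu
          rintro _ ⟨x', hx', y', rfl⟩
          refine Subgroup.subset_closure ⟨z' * x' * z'⁻¹, hXn.conj_mem x' hx' z', ρ z' y', ?_⟩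
          show ρ z' (y'⁻¹ * ρ x' y') = _
          rw [map_mul, map_inv, ← MulAut.mul_apply, ← MulAut.mul_apply, ← map_mul, ← map_mul,
            inv_mul_cancel_right]
    haveI : Nontrivial Q := by
      rcases subsingleton_or_nontrivial Q with h | h
      · exact absurd (fun x _ => MonoidHom.mem_ker.2 (MulEquiv.ext fun y => Subsingleton.elim _ _))
          hne
      · exact h
    have hchar : ∀ (L : Subgroup Q) [L.Characteristic] (f : MulAut Q), ∀ y ∈ L, f y ∈ L := by
      intro L _ f y hy
      rw [← Subgroup.characteristic_iff_map_eq.1 (inferInstance : L.Characteristic) f]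
      exact ⟨y, hy, rfl⟩
    set F := frattini Q with hF
    haveI hFn : F.Normal := by rw [hF]; infer_instance
    have hFne : F ≠ ⊤ := fun h => bot_ne_top
      (frattini_nongenerating (G := Q) (K := ⊥) (by rw [bot_sup_eq, ← hF, h]))
    have hFX : ∀ x ∈ X, ∀ y ∈ F, ρ x y = y :=
      hsmall F (hchar (frattini Q) σ) (fun x => hchar (frattini Q) (ρ x)) hFne
    have hFc : F ≤ Subgroup.center Q := by
      intro y hy
      rw [Subgroup.mem_center_iff]
      intro u
      have : DQ ≤ Subgroup.centralizer {y} := by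
        refine (Subgroup.closure_le _).2 ?_
        rintro _ ⟨x, hx, z, rfl⟩
        rw [SetLike.mem_coe, Subgroup.mem_centralizer_singleton_iff]
        have h1 := hFX x hx _ (hFn.conj_mem y hy z)
        rw [map_mul, map_mul, map_inv, hFX x hx y hy] at h1
        calc z⁻¹ * ρ x z * y = z⁻¹ * (ρ x z * y * (ρ x z)⁻¹) * ρ x z := by group
          _ = z⁻¹ * (z * y * z⁻¹) * ρ x z := by rw [h1]
          _ = y * (z⁻¹ * ρ x z) := by group
      rw [hDQtop] at this
      exact Subgroup.mem_centralizer_singleton_iff.1 (this (Subgroup.mem_top u))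
    have hQ'F : commutator Q ≤ F := CfsgLib.Solvable.commutator_le_frattini hQ
    have hcent : commutator Q ≤ Subgroup.center Q := hQ'F.trans hFc
    have hXoddsq : ∀ x, ∀ L : Subgroup T, (x⁻¹ * τT x) * (x⁻¹ * τT x) ∈ L → x⁻¹ * τT x ∈ L :=
      fun x L h => mem_of_sq_mem hoddT h
    -- `τ` does not act as a scalar `1`
    have hmixed : ∀ R : Subgroup Q, Subgroup.center Q ≤ R → R ≠ ⊤ →
        (∀ (f : MulAut Q), (∀ z ∈ Subgroup.center Q, f z = z) → ∀ y ∈ R, f y ∈ R) →
        (∀ z ∈ Subgroup.center Q, ∀ x ∈ X, ρ x z = z) → ∃ y, y⁻¹ * τ y ∉ R := by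
      intro R hcR hRne hRf hXc
      by_contra! hsc
      apply hRne
      rw [eq_top_iff, ← hDQtop]
      refine (Subgroup.closure_le R).2 ?_
      haveI hRn : R.Normal := ⟨fun r hr g => by
        rw [show g * r * g⁻¹ = g * r * g⁻¹ * r⁻¹ * r by group]
        exact mul_mem (hcR (commutator_mem' hcent g r)) hr⟩
      have hXR : ∀ x ∈ X, ∀ y ∈ R, ρ x y ∈ R := fun x hx => hRf (ρ x) fun z hz => hXc z hz x hx
      let W : Subgroup T :=
        { carrier := {x | x ∈ X ∧ ∀ y, y⁻¹ * ρ x y ∈ R}
          one_mem' := ⟨one_mem X, fun y => by simp⟩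
          mul_mem' := fun {a c} (ha : _ ∧ _) (hc' : _ ∧ _) => ⟨mul_mem ha.1 hc'.1, fun y => by
            rw [map_mul, MulAut.mul_apply]
            have h1 := hXR a ha.1 _ (hc'.2 y)
            rw [map_mul, map_inv] at h1
            have := mul_mem (ha.2 y) h1
            rwa [mul_assoc, mul_inv_cancel_left] at this⟩
          inv_mem' := fun {a} (ha : _ ∧ _) => ⟨inv_mem ha.1, fun y => by
            have h1 := inv_mem (ha.2 (ρ a⁻¹ y))
            rwa [← MulAut.mul_apply, ← map_mul, mul_inv_cancel, map_one, MulAut.one_apply,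
              mul_inv_rev, inv_inv] at h1⟩ }
      have hW : X ≤ W := by
        refine (Subgroup.closure_le W).2 ?_
        rintro _ ⟨x, rfl⟩
        refine hXoddsq x W ⟨mul_mem (mem_twist τT x) (mem_twist τT x), fun y => ?_⟩
        set d := x⁻¹ * τT x with hd
        have hdX : d ∈ X := mem_twist τT x
        have hdinv : τT d = d⁻¹ := hinvd x
        clear_value d
        -- `d⁻¹` and `d` act in the same way modulo `R`
        have h2 : ∀ u, (ρ d u)⁻¹ * ρ d⁻¹ u ∈ R := fun u => by
          have h1 : (ρ d u)⁻¹ * τ (ρ d u) ∈ R := hsc _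
          rw [show τ (ρ d u) = ρ (τT d) (τ u) from hρpow _ _ _, hdinv] at h1
          have h3 : ρ d⁻¹ (u⁻¹ * τ u) ∈ R := hXR _ (inv_mem hdX) _ (hsc u)
          have := mul_mem h1 (inv_mem h3)
          rwa [map_mul (ρ d⁻¹), map_inv (ρ d⁻¹), mul_inv_rev, inv_inv, mul_assoc,
            mul_inv_cancel_left] at this
        have h4 := hXR d hdX _ (h2 y)
        rw [map_mul, map_inv (ρ d), ← MulAut.mul_apply, ← MulAut.mul_apply, ← map_mul, ← map_mul,
          mul_inv_cancel, map_one, MulAut.one_apply] at h4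
        have h5 := hRn.conj_mem _ h4 y
        have h6 := inv_mem h5
        rw [show (y * ((ρ (d * d) y)⁻¹ * y) * y⁻¹)⁻¹ = y * (y⁻¹ * ρ (d * d) y) * y⁻¹ by group] at h6
        have h7 := hRn.conj_mem _ h6 y⁻¹
        rwa [show y⁻¹ * (y * (y⁻¹ * ρ (d * d) y) * y⁻¹) * y⁻¹⁻¹ = y⁻¹ * ρ (d * d) y by group]
          at h7
      rintro _ ⟨x, hx, y, rfl⟩
      exact (hW hx).2 y
    by_cases habel : ∀ a c : Q, a * c = c * a
    · have hτfix : ∀ y, τ y = y := abelian_fixed habel hodd hQK hn σ hσ ψ hψ s hcompat hsum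
      apply hne
      refine (Subgroup.closure_le _).2 ?_
      rintro _ ⟨x, rfl⟩
      refine hXoddsq x ρ.ker (MonoidHom.mem_ker.2 (MulEquiv.ext fun y => ?_))
      set d := x⁻¹ * τT x with hd
      have h1 : τ (ρ d y) = ρ (τT d) (τ y) := hρpow _ _ _
      rw [hinvd x, ← hd, hτfix, hτfix] at h1
      rw [map_mul, MulAut.mul_apply, h1, ← MulAut.mul_apply, ← map_mul, mul_inv_cancel, map_one]
    push Not at habel
    -- the centre is the Frattini subgroup
    have hU : ∀ e : Q, (∀ x ∈ X, e⁻¹ * ρ x e ∈ F) → e ∈ F := by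
      intro e he
      letI : CommGroup (Q ⧸ F) := { (inferInstance : Group (Q ⧸ F)) with
        mul_comm := fun a c => by
          induction a using QuotientGroup.induction_on with
          | H a =>
            induction c using QuotientGroup.induction_on with
            | H c =>
              show ((a * c : Q) : Q ⧸ F) = ((c * a : Q) : Q ⧸ F)
              rw [QuotientGroup.eq,
                show (a * c)⁻¹ * (c * a) = c⁻¹ * a⁻¹ * c⁻¹⁻¹ * a⁻¹⁻¹ by group]
              exact commutator_mem' hQ'F _ _ }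
      cases nonempty_fintype X
      let Nm : Q →* Q ⧸ F :=
        { toFun := fun y => ∏ x : X, ((ρ x y : Q) : Q ⧸ F)
          map_one' := by simp
          map_mul' := fun a c => by simp [Finset.prod_mul_distrib] }
      have hker : DQ ≤ Nm.ker := by
        refine (Subgroup.closure_le _).2 ?_
        rintro _ ⟨x, hx, y, rfl⟩
        rw [SetLike.mem_coe, MonoidHom.mem_ker, map_mul, map_inv, inv_mul_eq_one]
        show ∏ z : X, ((ρ z y : Q) : Q ⧸ F) = ∏ z : X, ((ρ z (ρ x y) : Q) : Q ⧸ F)
        refine (Fintype.prod_equiv (Equiv.mulRight (⟨x, hx⟩ : X)) _ _ fun z => ?_).symm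
        show ((ρ z (ρ x y) : Q) : Q ⧸ F) = ((ρ ((z : T) * x) y : Q) : Q ⧸ F)
        rw [map_mul, MulAut.mul_apply]
      have h1 : Nm e = 1 := MonoidHom.mem_ker.1 (hker (hDQtop ▸ Subgroup.mem_top e))
      have h2 : Nm e = (e : Q ⧸ F) ^ Nat.card X := by
        show ∏ z : X, ((ρ z e : Q) : Q ⧸ F) = _
        rw [Finset.prod_congr rfl (fun (z : X) _ => (QuotientGroup.eq.2 (he z z.2)).symm),
          Finset.prod_const, card_univ, Nat.card_eq_fintype_card]
      rw [h2] at h1
      rw [← QuotientGroup.eq_one_iff, ← orderOf_eq_one_iff]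
      refine Nat.eq_one_of_dvd_coprimes hcop ((orderOf_dvd_of_pow_eq_one h1).trans
        (Subgroup.card_subgroup_dvd_card X)) ((orderOf_dvd_natCard _).trans ?_)
      exact Subgroup.card_quotient_dvd_card F
    have hZne : Subgroup.center Q ≠ ⊤ := fun h => by
      obtain ⟨a, c, hac⟩ := habel
      exact hac ((Subgroup.mem_center_iff.1 (h ▸ Subgroup.mem_top c : c ∈ Subgroup.center Q)) a)
    have hZX : ∀ x ∈ X, ∀ y ∈ Subgroup.center Q, ρ x y = y :=
      hsmall _ (hchar _ σ) (fun x => hchar _ (ρ x)) hZne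
    have hZF : Subgroup.center Q ≤ F := fun y hy => hU y fun x hx => by
      rw [hZX x hx y hy, inv_mul_cancel]; exact one_mem F
    have hτc : ∀ z ∈ Subgroup.center Q, τ z = z := by
      intro z hz
      let σZ : MulAut (Subgroup.center Q) := MulEquiv.ofBijective
        ({ toFun := fun u => ⟨σ u, hchar _ σ u u.2⟩
           map_one' := Subtype.ext (map_one σ)
           map_mul' := fun a c => Subtype.ext (map_mul σ _ _) } :
          Subgroup.center Q →* Subgroup.center Q)
        (Finite.injective_iff_bijective.1 fun a c h =>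
          Subtype.ext (σ.injective (congrArg Subtype.val h)))
      have hσZ : ∀ (i : ℕ) (u : Subgroup.center Q), ((σZ ^ i) u : Q) = (σ ^ i) u := by
        intro i
        induction i with
        | zero => intro u; simp
        | succ i ih' =>
          intro u
          rw [pow_succ', MulAut.mul_apply, pow_succ' σ, MulAut.mul_apply, ← ih']
          rfl
      have hdvd := Subgroup.card_subgroup_dvd_card (Subgroup.center Q)
      have h := abelian_fixed (fun a c => Subtype.ext ((Subgroup.mem_center_iff.1 a.2 c).symm))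
        (hodd.of_dvd_nat hdvd)
        (fun h0 => hQK (by obtain ⟨c, hc'⟩ := hdvd; rw [hc', Nat.cast_mul, h0, zero_mul]))
        hn σZ (MulEquiv.ext fun u => Subtype.ext (by
          rw [hσZ, hσ, MulAut.one_apply, MulAut.one_apply]))
        (ψ.comp (Subgroup.center Q).subtype) (hψ.comp (Subgroup.center Q).subtype_injective) s
        (fun u => hcompat u) hsum ⟨z, hz⟩
      have h' := congrArg Subtype.val h
      rwa [hσZ] at h'
    obtain ⟨k, hk2, hkn, hqk, hrel⟩ := relation_of_mixed hn hQ hodd hQK h2K σ hσ hcent hτc ψ hψ s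
      hsN hcompat hsum
      (fun R hcR hR hRf => hmixed R hcR hR hRf fun z hz x hx => hZX x hx z hz) habel
    -- pass to the Frattini quotient
    letI : CommGroup (Q ⧸ F) := { (inferInstance : Group (Q ⧸ F)) with
      mul_comm := fun a c => by
        induction a using QuotientGroup.induction_on with
        | H a =>
          induction c using QuotientGroup.induction_on with
          | H c =>
            show ((a * c : Q) : Q ⧸ F) = ((c * a : Q) : Q ⧸ F)
            rw [QuotientGroup.eq,
              show (a * c)⁻¹ * (c * a) = c⁻¹ * a⁻¹ * c⁻¹⁻¹ * a⁻¹⁻¹ by group]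
            exact commutator_mem' hQ'F _ _ }
    have hmapF : ∀ f : MulAut Q, F.map (f : Q →* Q) = F := fun f =>
      Subgroup.characteristic_iff_map_eq.1 (inferInstance : (frattini Q).Characteristic) f
    let bar : MulAut Q →* MulAut (Q ⧸ F) :=
      { toFun := fun f => QuotientGroup.congr F F f (hmapF f)
        map_one' := by
          ext u
          induction u using QuotientGroup.induction_on
          simp
        map_mul' := fun f f' => by
          ext u
          induction u using QuotientGroup.induction_on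
          simp [MulAut.mul_apply] }
    have hbar : ∀ f (y : Q), bar f (y : Q ⧸ F) = ((f y : Q) : Q ⧸ F) := fun f y => rfl
    obtain ⟨m, Φ, hΦ, hΦadd⟩ := exists_operators_add (r := q) (Q ⧸ F) (fun u => by
      induction u using QuotientGroup.induction_on with
      | H u =>
        rw [← QuotientGroup.mk_pow, QuotientGroup.eq_one_iff]
        exact CfsgLib.Solvable.pow_mem_frattini hQ u)
    set g₀ := bar (σ ^ 2 ^ (n - k)) with hg₀
    have hg₀half : g₀ ^ 2 ^ (k - 1) = bar τ := by
      rw [hg₀, ← map_pow, ← pow_mul, ← pow_add, hτ]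
      congr 3
      omega
    have hg₀N : g₀ ^ 2 ^ k = 1 := by
      rw [hg₀, ← map_pow, ← pow_mul, ← pow_add, Nat.sub_add_cancel hkn, hσ, map_one]
    set ρbar := bar.comp ρ with hρbar
    set Y := X.map ρbar with hY
    have hconj : ∀ x, g₀ * ρbar x = ρbar ((σT ^ 2 ^ (n - k)) x) * g₀ := fun x => by
      show bar _ * bar _ = bar _ * bar _
      rw [← map_mul, ← map_mul]
      congr 1
      exact MulEquiv.ext fun y => hρpow _ x y
    have hYinv : ∀ u ∈ Y, g₀ * u * g₀⁻¹ ∈ Y := by
      rintro _ ⟨x, hx, rfl⟩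
      rw [hconj, mul_inv_cancel_right]
      exact ⟨_, mulAut_pow_mem σT X hXσ _ hx, rfl⟩
    let γ : MulAut Y := MulEquiv.ofBijective
      ({ toFun := fun u => ⟨g₀ * u * g₀⁻¹, hYinv _ u.2⟩
         map_one' := Subtype.ext (by simp)
         map_mul' := fun a c => Subtype.ext (by simp [mul_assoc]) } : Y →* Y)
      (Finite.injective_iff_bijective.1 fun a c h =>
        Subtype.ext (mul_left_cancel (mul_right_cancel (congrArg Subtype.val h))))
    have hγ : ∀ (i : ℕ) (u : Y), (((γ ^ i) u : Y) : MulAut (Q ⧸ F)) = g₀ ^ i * u * (g₀ ^ i)⁻¹ := by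
      intro i
      induction i with
      | zero => intro u; simp
      | succ i ih' =>
        intro u
        rw [pow_succ' γ, MulAut.mul_apply]
        show g₀ * _ * g₀⁻¹ = _
        rw [ih', pow_succ']
        group
    have hYp : IsPGroup t Y := (hT.to_subgroup X).map ρbar
    obtain ⟨e, heY⟩ := IsPGroup.iff_card.1 hYp
    have hnatK : ∀ a : ℕ, ¬ q ∣ a → (a : AlgebraicClosure (ZMod q)) ≠ 0 := fun a ha h =>
      ha ((CharP.cast_eq_zero_iff (AlgebraicClosure (ZMod q)) q a).1 h)
    have hq3 : ¬ q ∣ 2 := fun h => by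
      have h' := (Nat.prime_dvd_prime_iff_eq hq.out Nat.prime_two).1 h
      have : 2 ^ k = 3 := by omega
      have h4 : 4 ∣ 2 ^ k := pow_dvd_pow 2 hk2
      omega
    have hYodd : Odd (Nat.card Y) := hoddT.of_dvd_nat
      ((Subgroup.card_map_dvd X ρbar).trans (Subgroup.card_subgroup_dvd_card X))
    have himg := image_fixed (K := AlgebraicClosure (ZMod q))
      (V := Fin m → AlgebraicClosure (ZMod q)) (t := t) hk2
      (fun ⟨a, ha⟩ => hqt (by
        have h1 : t ^ a = q := by omega
        exact (Nat.prime_dvd_prime_iff_eq hq.out ht.out).1 (hq.out.dvd_of_dvd_pow (n := a) (by rw [h1]))))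
      (by exact_mod_cast hnatK 2 hq3) (Nat.card Y) le_rfl hYp hYodd
      (by
        rw [heY]
        refine hnatK _ fun h => hqt ((Nat.prime_dvd_prime_iff_eq hq.out ht.out).1
          (hq.out.dvd_of_dvd_pow h)))
      γ (MulEquiv.ext fun u => Subtype.ext (by
        rw [hγ, hg₀N, MulAut.one_apply]; simp))
      (Φ.comp Y.subtype) (hΦ.comp Y.subtype_injective) (Φ g₀) (by rw [← map_pow, hg₀N, map_one])
      (fun u => by
        show Φ g₀ * Φ (u : MulAut (Q ⧸ F)) = Φ (g₀ * u * g₀⁻¹) * Φ g₀
        rw [← map_mul, ← map_mul, inv_mul_cancel_right])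
      (by
        rw [← map_pow, hg₀half, sub_mul, mul_add, mul_one, one_mul, ← map_mul, sub_eq_zero,
          ← map_one Φ]
        refine hΦadd _ _ _ _ fun u => ?_
        induction u using QuotientGroup.induction_on with
        | H y =>
          rw [MulAut.mul_apply, MulAut.one_apply, hg₀, hbar, hbar, hbar, ← QuotientGroup.mk_mul,
            ← QuotientGroup.mk_mul, ← map_mul]
          have h := hZF (hrel y)
          rw [← QuotientGroup.eq] at h
          have hcomm' : ((τ y * y : Q) : Q ⧸ F) = ((y * τ y : Q) : Q ⧸ F) := by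
            rw [QuotientGroup.mk_mul, QuotientGroup.mk_mul, mul_comm]
          rw [hcomm', h, QuotientGroup.eq]
          have h8 : (τ y * y)⁻¹ * (y * τ y) ∈ F := QuotientGroup.eq.1 hcomm'
          have h9 := hchar (frattini Q) (σ ^ 2 ^ (n - k)) _ h8
          rw [map_mul, map_inv] at h9
          exact h9)
    -- the commutators act trivially on the Frattini quotient
    have hXbar : X ≤ ρbar.ker := by
      refine (Subgroup.closure_le _).2 ?_
      rintro _ ⟨x, rfl⟩
      refine hXoddsq x ρbar.ker ?_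
      set d := x⁻¹ * τT x with hd
      have h1 := congrArg Subtype.val (himg ⟨ρbar d, ⟨d, mem_twist τT x, rfl⟩⟩)
      rw [hγ, hg₀half] at h1
      have h2 : bar τ * ρbar d * (bar τ)⁻¹ = ρbar (τT d) := by
        rw [mul_inv_eq_iff_eq_mul]
        show bar _ * bar _ = bar _ * bar _
        rw [← map_mul, ← map_mul]
        congr 1
        exact MulEquiv.ext fun y => hρpow _ d y
      simp only at h1
      rw [h2, hinvd x, ← hd, map_inv] at h1
      rw [MonoidHom.mem_ker, map_mul]
      nth_rewrite 1 [← h1]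
      rw [inv_mul_cancel]
    apply hFne
    rw [eq_top_iff, ← hDQtop]
    refine (Subgroup.closure_le F).2 ?_
    rintro _ ⟨x, hx, y, rfl⟩
    rw [SetLike.mem_coe, ← QuotientGroup.eq, ← hbar]
    show (y : Q ⧸ F) = ρbar x (y : Q ⧸ F)
    rw [MonoidHom.mem_ker.1 (hXbar hx), MulAut.one_apply]

end CfsgLib.ShultGross
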