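import Mathlib
import Cfsg.Agent.ShultGross.GrossKey
import Cfsg.Agent.ShultGross.Height
import Cfsg.Agent.Coprime.ActionHom
import Cfsg.Agent.Solvable.Fitting
import Cfsg.Agent.S3794

/-!
The theorem of Gross on the Fitting height of a group with an automorphism of `2`-power order
without fixed points.
-/

set_option autoImplicit false
set_option linter.style.haveILetI false

open Finset Module
open scoped commutatorElement

namespace CfsgLib.ShultGross

universe u

section General

variable {H : Type u} [Group H]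

theorem exists_restrict [Finite H] (σ : MulAut H) (L : Subgroup H) (hL : ∀ x ∈ L, σ x ∈ L) :
    ∃ σ' : MulAut L, ∀ (i : ℕ) (x : L), ((σ' ^ i) x : H) = (σ ^ i) x := by
  refine ⟨MulEquiv.ofBijective
    ({ toFun := fun z => ⟨σ z, hL _ z.2⟩
       map_one' := Subtype.ext (map_one σ)
       map_mul' := fun a c => Subtype.ext (map_mul σ _ _) } : L →* L)
    (Finite.injective_iff_bijective.1 fun a c h =>
      Subtype.ext (σ.injective (congrArg Subtype.val h))), fun i => ?_⟩
  induction i with
  | zero => intro z; simp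
  | succ i ih =>
    intro z
    rw [pow_succ', MulAut.mul_apply, pow_succ' σ, MulAut.mul_apply, ← ih]
    rfl

theorem commute_of_parts [Finite H] (z y : H) (h : ∀ q : ℕ, q.Prime → q ∣ orderOf y →
    ∀ w ∈ Subgroup.zpowers y, ∀ i : ℕ, w ^ q ^ i = 1 → z * w = w * z) : z * y = y * z := by
  let W : Subgroup (Subgroup.zpowers y) :=
    (Subgroup.centralizer ({z} : Set H)).subgroupOf (Subgroup.zpowers y)
  have hW : W = ⊤ := by
    refine Subgroup.eq_top_of_le_card W (Nat.le_of_dvd Nat.card_pos ?_)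
    refine (Nat.factorization_le_iff_dvd Nat.card_pos.ne' Nat.card_pos.ne').mp fun q => ?_
    by_cases hq : q.Prime
    · haveI := Fact.mk hq
      obtain ⟨Q⟩ : Nonempty (Sylow q (Subgroup.zpowers y)) := inferInstance
      refine (hq.pow_dvd_iff_le_factorization Nat.card_pos.ne').mp ?_
      rw [← Q.card_eq_multiplicity]
      refine Subgroup.card_dvd_of_le fun x hx => ?_
      show (x : H) ∈ Subgroup.centralizer ({z} : Set H)
      rw [Subgroup.mem_centralizer_singleton_iff]
      obtain ⟨i, hi⟩ := Q.isPGroup' ⟨x, hx⟩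
      by_cases hdvd : q ∣ orderOf y
      · exact (h q hq hdvd x x.2 i (congrArg (fun a => ((a : Subgroup.zpowers y) : H))
          (congrArg Subtype.val hi))).symm
      · have hb : (Q : Subgroup (Subgroup.zpowers y)) = ⊥ := by
          rw [← Subgroup.card_eq_one, Q.card_eq_multiplicity, Nat.card_zpowers,
            Nat.factorization_eq_zero_of_not_dvd hdvd, pow_zero]
        rw [hb, Subgroup.mem_bot] at hx
        rw [hx, Subgroup.coe_one, one_mul, mul_one]
    · simp [hq]
  have hy : (⟨y, Subgroup.mem_zpowers y⟩ : Subgroup.zpowers y) ∈ W := hW ▸ Subgroup.mem_top _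
  exact (Subgroup.mem_centralizer_singleton_iff.1 (show y ∈ Subgroup.centralizer ({z} : Set H)
    from hy)).symm

theorem isNilpotent_of_parts [Finite H] {t : ℕ} [ht : Fact t.Prime] (K Z : Subgroup H)
    (hZ : ∀ z ∈ Z, ∃ i : ℕ, z ^ t ^ i ∈ K)
    (hc : ∀ q : ℕ, q.Prime → q ≠ t → ∀ w ∈ K, ∀ i : ℕ, w ^ q ^ i = 1 → ∀ z ∈ Z, z * w = w * z) :
    Group.IsNilpotent Z := by
  have hP : IsPGroup t (Z ⧸ Subgroup.center Z) := by
    intro a
    induction a using QuotientGroup.induction_on with
    | H z =>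
      obtain ⟨i, hi⟩ := hZ z z.2
      obtain ⟨b, c, hc', hbc⟩ := Nat.exists_eq_pow_mul_and_not_dvd
        (orderOf_pos ((z : H) ^ t ^ i)).ne' t ht.out.ne_one
      refine ⟨i + b, ?_⟩
      rw [← QuotientGroup.mk_pow, QuotientGroup.eq_one_iff, Subgroup.mem_center_iff]
      intro g
      refine Subtype.ext ?_
      rw [Subgroup.coe_mul, Subgroup.coe_mul, SubgroupClass.coe_pow, pow_add, pow_mul]
      refine commute_of_parts _ _ fun q hq hdvd w hw j hj => ?_
      refine hc q hq ?_ w ((Subgroup.zpowers_le.2 (K.pow_mem hi _)) hw) j hj g g.2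
      rintro rfl
      rw [orderOf_pow_of_dvd (pow_pos ht.out.pos b).ne' ⟨c, hbc⟩, hbc,
        Nat.mul_div_cancel_left _ (pow_pos ht.out.pos b)] at hdvd
      exact hc' hdvd
  haveI := hP.isNilpotent
  exact Subgroup.isNilpotent_of_ker_le_center (QuotientGroup.mk' (Subgroup.center Z))
    (by rw [QuotientGroup.ker_mk']) 

theorem mem_sylow_of_nilpotent [Finite H] {q : ℕ} [Fact q.Prime] {F : Subgroup H}
    [Group.IsNilpotent F] (P : Sylow q F) {w : H} (hwF : w ∈ F) {i : ℕ} (hw : w ^ q ^ i = 1) :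
    w ∈ (P : Subgroup F).map F.subtype := by
  have hPn : (P : Subgroup F).Normal := inferInstance
  have hz : IsPGroup q (Subgroup.zpowers (⟨w, hwF⟩ : F)) := fun g => ⟨i, by
    obtain ⟨k, hk⟩ := Subgroup.mem_zpowers_iff.1 g.2
    apply Subtype.ext
    rw [SubgroupClass.coe_pow, ← hk, OneMemClass.coe_one, ← zpow_natCast, ← zpow_mul, mul_comm,
      zpow_mul, zpow_natCast, show (⟨w, hwF⟩ : F) ^ q ^ i = 1 from Subtype.ext hw, one_zpow]⟩
  obtain ⟨P', hP'⟩ := hz.exists_le_sylow
  haveI := Sylow.unique_of_normal P hPn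
  rw [Subsingleton.elim P' P] at hP'
  exact ⟨_, hP' (Subgroup.mem_zpowers _), rfl⟩

theorem isNilpotent_of_ker_le {T : Type u} {P : Type u} {R : Type u} [Group T] [Group P] [Group R]
    [Group.IsNilpotent P] (f : T →* P) (g : T →* R) (hg : Function.Surjective g)
    (h : f.ker ≤ g.ker) : Group.IsNilpotent R := by
  haveI : Group.IsNilpotent (T ⧸ f.ker) :=
    Group.nilpotent_of_mulEquiv (QuotientGroup.quotientKerEquivRange f).symm
  exact Group.nilpotent_of_surjective (QuotientGroup.lift f.ker g h) fun r => by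
    obtain ⟨x, rfl⟩ := hg r
    exact ⟨x, rfl⟩

theorem char_map_invariant (σ : MulAut H) (F : Subgroup H) (hF : ∀ x ∈ F, σ x ∈ F) [Finite H]
    (L : Subgroup F) [hL : L.Characteristic] : ∀ x ∈ L.map F.subtype, σ x ∈ L.map F.subtype := by
  rintro _ ⟨y, hy, rfl⟩
  obtain ⟨σF, hσF⟩ := exists_restrict σ F hF
  have h := Subgroup.characteristic_iff_map_eq.1 hL σF
  refine ⟨σF y, h ▸ ⟨y, hy, rfl⟩, ?_⟩
  simpa using hσF 1 y

end General

/-- The quotient acting faithfully on a minimal invariant subgroup. -/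
theorem twist_nilpotent_step {G : Type u} [Group G] [Finite G] {n r : ℕ} [Fact r.Prime]
    (hn : 1 ≤ n) (σ : MulAut G) (hσ : σ ^ 2 ^ n = 1) (hfpf : ∀ g, σ g = g → g = 1)
    (hsolv : Group.IsSolvable G) (M : Subgroup G) [M.Normal] (hMi : ∀ x ∈ M, σ x ∈ M)
    (hMab : ∀ x ∈ M, ∀ y ∈ M, x * y = y * x) (hexp : ∀ x ∈ M, x ^ r = 1) (hrM : r ∣ Nat.card M)
    (hmin : ∀ L : Subgroup G, L.Normal → (∀ x ∈ L, σ x ∈ L) → L ≤ M → L ≠ M → L = ⊥)
    (C : Subgroup G) [C.Normal] (hC : ∀ g, g ∈ C ↔ ∀ x ∈ M, g * x = x * g)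
    (σC : MulAut (G ⧸ C)) (hσC0 : ∀ g : G, σC (g : G ⧸ C) = ((σ g : G) : G ⧸ C))
    (hσCn : σC ^ 2 ^ n = 1) (hfC : ∀ x, σC x = x → x = 1)
    (K : Subgroup (G ⧸ C)) [hKn : K.Normal] (hKi : ∀ x ∈ K, σC x ∈ K)
    [hKnil : Group.IsNilpotent K]
    [hFnil : Group.IsNilpotent ((twist (σC ^ 2 ^ (n - 1))).map (QuotientGroup.mk' K))] :
    Group.IsNilpotent (twist (σC ^ 2 ^ (n - 1))) := by
  haveI := Fact.mk Nat.prime_two
  haveI := hsolv
  set H := G ⧸ C with hH
  set τ := σC ^ 2 ^ (n - 1) with hτ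
  have hodd : Odd (Nat.card H) := by
    have := coprime_card_of_fpf σC hσCn hfC
    rwa [Nat.coprime_two_left] at this
  have hr2 : r ≠ 2 := by
    rintro rfl
    have h1 := coprime_card_of_fpf σ hσ hfpf
    rw [Nat.coprime_two_left] at h1
    exact Nat.not_even_iff_odd.2 h1
      (even_iff_two_dvd.2 (hrM.trans (Subgroup.card_subgroup_dvd_card M)))
  have h2K : (2 : AlgebraicClosure (ZMod r)) ≠ 0 := by
    intro h
    have h' : ((2 : ℕ) : AlgebraicClosure (ZMod r)) = 0 := by exact_mod_cast h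
    rw [CharP.cast_eq_zero_iff (AlgebraicClosure (ZMod r)) r] at h'
    exact hr2 ((Nat.prime_dvd_prime_iff_eq Fact.out Nat.prime_two).1 h')
  obtain ⟨m, ψ, s, hψ, hsN, hscompat, hsum⟩ :=
    exists_module (r := r) σ hfpf hσ M hMi hMab hexp C hC
  have hscompat' : ∀ x : H, s * ψ x = ψ (σC x) * s := fun x => by
    induction x using QuotientGroup.induction_on with
    | H g => rw [hσC0]; exact hscompat g
  -- the part for each prime
  have hZ : ∀ (t : ℕ) [Fact t.Prime], ∃ T : Sylow t H, ∀ x ∈ (T : Subgroup H),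
      x⁻¹ * τ x ∈ Cfsg.fittingSubgroup H := by
    intro t _
    have hA : (Nat.card (Subgroup.zpowers σC)).Coprime (Nat.card H) := by
      rw [Nat.card_zpowers]
      exact ((Nat.coprime_two_left.2 hodd).pow_left n).coprime_dvd_left
        (orderOf_dvd_of_pow_eq_one hσCn)
    obtain ⟨T, hT⟩ := CfsgLib.Coprime.exists_invariant_sylow_hom (Subgroup.zpowers σC).subtype hA
      (Or.inr inferInstance) t
    refine ⟨T, fun x₀ hx₀ => ?_⟩
    have hTi : ∀ x ∈ (T : Subgroup H), σC x ∈ (T : Subgroup H) :=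
      hT ⟨σC, Subgroup.mem_zpowers σC⟩
    set Z := Subgroup.normalClosure {d : H | ∃ x ∈ (T : Subgroup H), d = x⁻¹ * τ x} with hZdef
    obtain ⟨σT, hσT⟩ := exists_restrict σC (T : Subgroup H) hTi
    refine CfsgLib.Solvable.le_fittingSubgroup (N := Z) ?_
      (Subgroup.subset_normalClosure ⟨x₀, hx₀, rfl⟩)
    refine isNilpotent_of_parts (t := t) K Z ?_ ?_
    · -- the image modulo `K` is a `t`-group
      set Fb := (twist τ).map (QuotientGroup.mk' K) with hFb
      haveI : Fb.Normal := (twist_normal τ).map _ (QuotientGroup.mk'_surjective K)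
      obtain ⟨S⟩ : Nonempty (Sylow t Fb) := inferInstance
      haveI hSn : (S : Subgroup Fb).Normal := inferInstance
      haveI := S.characteristic_of_normal hSn
      intro z hz
      have hle : Z ≤ ((S : Subgroup Fb).map Fb.subtype).comap (QuotientGroup.mk' K) := by
        refine Subgroup.normalClosure_le_normal ?_
        rintro _ ⟨x, hx, rfl⟩
        obtain ⟨i, hi⟩ := T.isPGroup'
          ⟨x⁻¹ * τ x, mul_mem (inv_mem hx) (mulAut_pow_mem σC _ hTi _ hx)⟩
        refine mem_sylow_of_nilpotent S ⟨_, mem_twist τ x, rfl⟩ (i := i) ?_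
        rw [← map_pow]
        have h1 : (x⁻¹ * τ x) ^ t ^ i = 1 := congrArg Subtype.val hi
        rw [h1, map_one]
      obtain ⟨s', hs', hs'e⟩ := hle hz
      obtain ⟨i, hi⟩ := S.isPGroup' ⟨s', hs'⟩
      refine ⟨i, ?_⟩
      rw [← QuotientGroup.eq_one_iff, QuotientGroup.mk_pow]
      have h1 : s' ^ t ^ i = 1 := congrArg Subtype.val hi
      have h2 := congrArg Fb.subtype h1
      rw [map_pow, map_one, hs'e] at h2
      exact h2
    · -- the parts of `K` for the other primes are centralised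
      intro q hq hqt w hw i hwi z hz
      haveI := Fact.mk hq
      obtain ⟨P⟩ : Nonempty (Sylow q K) := inferInstance
      haveI hPn : (P : Subgroup K).Normal := inferInstance
      haveI := P.characteristic_of_normal hPn
      set Q := (P : Subgroup K).map K.subtype with hQdef
      haveI hQn : Q.Normal := by rw [hQdef]; infer_instance
      have hwQ : w ∈ Q := mem_sylow_of_nilpotent P hw hwi
      have hQp : IsPGroup q Q := P.isPGroup'.map _
      have hQi : ∀ x ∈ Q, σC x ∈ Q := char_map_invariant σC K hKi (P : Subgroup K)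
      rcases eq_or_ne q r with rfl | hqr
      · have hb := core_eq_bot σ M hMi hrM hmin C hC Q hQn σC hσC0 hQi hQp
        rw [hb, Subgroup.mem_bot] at hwQ
        rw [hwQ, mul_one, one_mul]
      obtain ⟨σQ, hσQ⟩ := exists_restrict σC Q hQi
      obtain ⟨e, he⟩ := IsPGroup.iff_card.1 hQp
      have hQK : (Nat.card Q : AlgebraicClosure (ZMod r)) ≠ 0 := by
        rw [Ne, CharP.cast_eq_zero_iff (AlgebraicClosure (ZMod r)) r, he]
        exact fun h => hqr ((Nat.prime_dvd_prime_iff_eq Fact.out hq).1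
          ((Fact.out : r.Prime).dvd_of_dvd_pow h)).symm
      let ρ : (T : Subgroup H) →* MulAut Q :=
        (MulAut.conjNormal : H →* MulAut Q).comp (T : Subgroup H).subtype
      have hkey := gross_key (K := AlgebraicClosure (ZMod r))
        (V := Fin m → AlgebraicClosure (ZMod r)) (q := q) (t := t) hqt hn h2K (Nat.card Q)
        (Q := Q) (T := (T : Subgroup H)) le_rfl hQp T.isPGroup'
        (hodd.of_dvd_nat (Subgroup.card_subgroup_dvd_card Q))
        (hodd.of_dvd_nat (Subgroup.card_subgroup_dvd_card (T : Subgroup H))) hQK σQ σT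
        (MulEquiv.ext fun y => Subtype.ext (by rw [hσQ, hσCn, MulAut.one_apply, MulAut.one_apply]))
        (MulEquiv.ext fun y => Subtype.ext (by rw [hσT, hσCn, MulAut.one_apply, MulAut.one_apply]))
        ρ (fun x y => Subtype.ext (by
          have h1 := hσQ 1 (ρ x y)
          have h2 := hσQ 1 y
          have h3 := hσT 1 x
          rw [pow_one, pow_one] at h1 h2 h3
          show _ = ((σT x : (T : Subgroup H)) : H) * ((σQ y : Q) : H) * ((σT x : (T : Subgroup H)) : H)⁻¹
          rw [h1, h2, h3]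
          show σC ((x : H) * y * (x : H)⁻¹) = _
          rw [map_mul, map_mul, map_inv]))
        (ψ.comp Q.subtype) (hψ.comp Q.subtype_injective) s hsN
        (fun y => by
          have h2 := hσQ 1 y
          rw [pow_one, pow_one] at h2
          show s * ψ (y : H) = ψ ((σQ y : Q) : H) * s
          rw [h2]
          exact hscompat' _) hsum
      have hle : Z ≤ Subgroup.centralizer (Q : Set H) := by
        refine Subgroup.normalClosure_le_normal ?_
        rintro _ ⟨x, hx, rfl⟩
        rw [SetLike.mem_coe, Subgroup.mem_centralizer_iff]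
        intro y hy
        have h := congrArg Subtype.val (hkey ⟨x, hx⟩ ⟨y, hy⟩)
        have h' : (x⁻¹ * τ x) * y * (x⁻¹ * τ x)⁻¹ = y := by
          have hx' : (((⟨x, hx⟩ : (T : Subgroup H))⁻¹ *
              (σT ^ 2 ^ (n - 1)) ⟨x, hx⟩ : (T : Subgroup H)) : H) = x⁻¹ * τ x := by
            rw [Subgroup.coe_mul, hσT]; rfl
          rw [← hx']
          exact h
        exact (mul_inv_eq_iff_eq_mul.1 h').symm
      exact (Subgroup.mem_centralizer_iff.1 (hle hz) w hwQ).symm
  -- the commutators lie in the Fitting subgroup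
  haveI := CfsgLib.Solvable.fittingSubgroup_normal (G := H)
  haveI := CfsgLib.Solvable.fittingSubgroup_isNilpotent (G := H)
  have hle : twist τ ≤ Cfsg.fittingSubgroup H := by
    let S : Subgroup H :=
      { carrier := {x | x⁻¹ * τ x ∈ Cfsg.fittingSubgroup H}
        one_mem' := by simp
        mul_mem' := fun {a b} (ha : a⁻¹ * τ a ∈ _) (hb : b⁻¹ * τ b ∈ _) => by
          show (a * b)⁻¹ * τ (a * b) ∈ Cfsg.fittingSubgroup H
          rw [show (a * b)⁻¹ * τ (a * b) = b⁻¹ * (a⁻¹ * τ a) * b⁻¹⁻¹ * (b⁻¹ * τ b) by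
            rw [map_mul]; group]
          exact mul_mem (Subgroup.Normal.conj_mem inferInstance _ ha b⁻¹) hb
        inv_mem' := fun {a} (ha : a⁻¹ * τ a ∈ _) => by
          show a⁻¹⁻¹ * τ a⁻¹ ∈ Cfsg.fittingSubgroup H
          rw [show a⁻¹⁻¹ * τ a⁻¹ = a * (a⁻¹ * τ a)⁻¹ * a⁻¹ by rw [map_inv]; group]
          exact Subgroup.Normal.conj_mem inferInstance _ (inv_mem ha) a }
    have hS : S = ⊤ := by
      refine Subgroup.eq_top_of_le_card S (Nat.le_of_dvd Nat.card_pos ?_)
      refine (Nat.factorization_le_iff_dvd Nat.card_pos.ne' Nat.card_pos.ne').mp fun q => ?_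
      by_cases hq : q.Prime
      · haveI := Fact.mk hq
        obtain ⟨T, hT⟩ := hZ q
        refine (hq.pow_dvd_iff_le_factorization Nat.card_pos.ne').mp ?_
        rw [← T.card_eq_multiplicity]
        exact Subgroup.card_dvd_of_le fun x hx => hT x hx
      · simp [hq]
    refine (Subgroup.closure_le _).2 ?_
    rintro _ ⟨x, rfl⟩
    exact (show x ∈ S from hS ▸ Subgroup.mem_top x)
  exact Group.nilpotent_of_mulEquiv (Subgroup.subgroupOfEquivOfLe hle)

/-- For an automorphism of order dividing `2 ^ n`, the commutators with the involution part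
generate a subgroup which is nilpotent modulo a nilpotent normal subgroup. -/
theorem twist_nilpotent_by_nilpotent {n : ℕ} (hn : 1 ≤ n) :
    ∀ (b : ℕ) {G : Type u} [Group G] [Finite G], Nat.card G ≤ b → Group.IsSolvable G →
    ∀ σ : MulAut G, σ ^ 2 ^ n = 1 → (∀ g, σ g = g → g = 1) →
      ∃ (N : Subgroup G) (_ : N.Normal), (∀ x ∈ N, σ x ∈ N) ∧ Group.IsNilpotent N ∧
        Group.IsNilpotent ((twist (σ ^ 2 ^ (n - 1))).map (QuotientGroup.mk' N)) := by
  intro b
  induction b with
  | zero => intro G _ _ hc; exact absurd hc (Nat.not_le.2 Nat.card_pos)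
  | succ b ih =>
    intro G _ _ hc hsolv σ hσ hfpf
    haveI := hsolv
    rcases subsingleton_or_nontrivial G with hG | hG
    · exact ⟨⊥, inferInstance, fun x hx => by rw [Subgroup.mem_bot] at hx ⊢; rw [hx, map_one],
        inferInstance, inferInstance⟩
    obtain ⟨M, r, hr, hMn, hMi, hMb, hMab, hexp, hrM, hmin⟩ := exists_minimal_invariant hsolv σ
    haveI := hMn
    haveI := Fact.mk hr
    set C := (MulAut.conjNormal : G →* MulAut M).ker with hCdef
    have hC : ∀ g, g ∈ C ↔ ∀ x ∈ M, g * x = x * g := by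
      intro g
      rw [hCdef, MonoidHom.mem_ker]
      constructor
      · intro h x hx
        have := congrArg (fun f : MulAut M => ((f ⟨x, hx⟩ : M) : G)) h
        simpa [mul_inv_eq_iff_eq_mul] using this
      · intro h
        ext x
        simp [h x x.2]
    have hMC : M ≤ C := fun x hx => (hC x).2 fun y hy => hMab x hx y hy
    have hCi : ∀ g ∈ C, σ g ∈ C := by
      intro g hg
      rw [hC] at hg ⊢
      intro x hx
      have hb : Function.Bijective (fun y : M => (⟨σ y, hMi _ y.2⟩ : M)) :=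
        Finite.injective_iff_bijective.1 fun a c h =>
          Subtype.ext (σ.injective (congrArg Subtype.val h))
      obtain ⟨y, hy⟩ := hb.2 ⟨x, hx⟩
      have hy' : σ y = x := congrArg Subtype.val hy
      rw [← hy', ← map_mul, ← map_mul, hg _ y.2]
    have hcardlt : ∀ L : Subgroup G, M ≤ L → Nat.card (G ⧸ L) < Nat.card G := fun L hL => by
      haveI : Nontrivial M := (Subgroup.nontrivial_iff_ne_bot M).2 hMb
      have h1 := Subgroup.card_eq_card_quotient_mul_card_subgroup L
      have h2 : 1 < Nat.card L := lt_of_lt_of_le Finite.one_lt_card (Subgroup.card_le_of_le hL)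
      have h3 : 0 < Nat.card (G ⧸ L) := Nat.card_pos
      nlinarith
    obtain ⟨σM, hσM, hσM1, hfM⟩ := exists_quotient_aut σ M hMi hfpf
    obtain ⟨σC, hσC, hσC1, hfC⟩ := exists_quotient_aut σ C hCi hfpf
    obtain ⟨K1, hK1n, hK1i, hK1nil, hF1⟩ :=
      ih (G := G ⧸ M) (by have := hcardlt M le_rfl; omega) inferInstance σM (hσM1 _ hσ) hfM
    obtain ⟨K2, hK2n, hK2i, hK2nil, hF2⟩ :=
      ih (G := G ⧸ C) (by have := hcardlt C hMC; omega) inferInstance σC (hσC1 _ hσ) hfC
    haveI := hK1n
    haveI := hK1nil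
    haveI := hF1
    haveI := hK2n
    haveI := hK2nil
    haveI := hF2
    haveI hFC : Group.IsNilpotent (twist (σC ^ 2 ^ (n - 1))) :=
      twist_nilpotent_step hn σ hσ hfpf hsolv M hMi hMab hexp hrM hmin C hC σC
        (fun g => by simpa using hσC 1 g) (hσC1 _ hσ) hfC K2 hK2i
    set τ := σ ^ 2 ^ (n - 1) with hτ
    set N := K1.comap (QuotientGroup.mk' M) ⊓ C with hN
    haveI : N.Normal := by rw [hN]; infer_instance
    refine ⟨N, inferInstance, ?_, ?_, ?_⟩
    · intro x hx
      refine Subgroup.mem_inf.2 ⟨?_, hCi x hx.2⟩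
      have h1 := hK1i _ hx.1
      have h2 := hσM 1 x
      rw [pow_one, pow_one] at h2
      rw [Subgroup.mem_comap]
      rw [QuotientGroup.mk'_apply] at h1 ⊢
      rw [← h2]
      exact h1
    · let f : N →* K1 :=
        ((QuotientGroup.mk' M).comp N.subtype).codRestrict K1 fun x => x.2.1
      refine Subgroup.isNilpotent_of_ker_le_center f ?_
      intro x hx
      have hxM : (x : G) ∈ M := (QuotientGroup.eq_one_iff _).1 (congrArg Subtype.val hx)
      rw [Subgroup.mem_center_iff]
      exact fun y => Subtype.ext ((hC _).1 y.2.2 x hxM)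
    · let f1 : twist τ →* (twist (σM ^ 2 ^ (n - 1))).map (QuotientGroup.mk' K1) :=
        (((QuotientGroup.mk' K1).comp (QuotientGroup.mk' M)).comp (twist τ).subtype).codRestrict _
          fun x => ⟨_, map_twist_le (QuotientGroup.mk' M) τ (σM ^ 2 ^ (n - 1))
            (fun y => hσM _ y) ⟨x, x.2, rfl⟩, rfl⟩
      let f2 : twist τ →* twist (σC ^ 2 ^ (n - 1)) :=
        ((QuotientGroup.mk' C).comp (twist τ).subtype).codRestrict _ fun x =>
          map_twist_le (QuotientGroup.mk' C) τ (σC ^ 2 ^ (n - 1)) (fun y => hσC _ y)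
            ⟨x, x.2, rfl⟩
      refine isNilpotent_of_ker_le (f1.prod f2) ((QuotientGroup.mk' N).subgroupMap (twist τ))
        (MonoidHom.subgroupMap_surjective _ _) ?_
      intro x hx
      rw [MonoidHom.mem_ker] at hx ⊢
      have h1 : f1 x = 1 := congrArg Prod.fst hx
      have h2 : f2 x = 1 := congrArg Prod.snd hx
      refine Subtype.ext ((QuotientGroup.eq_one_iff _).2 (Subgroup.mem_inf.2 ⟨?_, ?_⟩))
      · rw [Subgroup.mem_comap]
        exact (QuotientGroup.eq_one_iff _).1 (congrArg Subtype.val h1)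
      · exact (QuotientGroup.eq_one_iff _).1 (congrArg Subtype.val h2)

/-- The theorem of Gross, for automorphisms of order dividing `2 ^ (m + 2)`. -/
theorem gross_height_le : ∀ (m : ℕ) {G : Type u} [Group G] [Finite G], Group.IsSolvable G →
    ∀ σ : MulAut G, σ ^ 2 ^ (m + 2) = 1 → (∀ g, σ g = g → g = 1) →
    ∃ F : Fin (2 * m + 2 + 1) → Subgroup G, F 0 = ⊥ ∧ F (Fin.last (2 * m + 2)) = ⊤ ∧ Monotone F ∧
      (∀ i, (F i).Normal) ∧
      ∀ i : Fin (2 * m + 2), ∃ k : ℕ, (F i.succ).lowerCentralSeries k ≤ F i.castSucc := by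
  intro m
  induction m with
  | zero =>
    intro G _ _ hsolv σ hσ hfpf
    have hnil : Group.IsNilpotent (commutator G) :=
      Cfsg.Agent.S3794.result hsolv σ (by simpa using hσ) hfpf
    let R := G ⧸ commutator G
    letI : CommGroup R := { (inferInstance : Group R) with
      mul_comm := fun a c => mul_comm (G := Abelianization G) a c }
    refine chain_cons (commutator G) hnil (chain_cons (G := R) ⊤ inferInstance ?_)
    haveI : Subsingleton (R ⧸ (⊤ : Subgroup R)) := QuotientGroup.subsingleton_quotient_top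
    exact ⟨fun _ => ⊥, rfl, Subsingleton.elim _ _, fun _ _ _ => le_rfl, fun _ => inferInstance,
      fun i => i.elim0⟩
  | succ m ih =>
    intro G _ _ hsolv σ hσ hfpf
    haveI := hsolv
    obtain ⟨N, hNn, hNi, hNnil, hF⟩ :=
      twist_nilpotent_by_nilpotent (n := m + 1 + 2) (by omega) (Nat.card G) le_rfl hsolv σ hσ hfpf
    haveI := hNn
    obtain ⟨σ1, hσ1, hσ11, hf1⟩ := exists_quotient_aut σ N hNi hfpf
    rw [show m + 1 + 2 - 1 = m + 2 by omega] at hF
    set τ := σ ^ 2 ^ (m + 2) with hτ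
    set τ1 := σ1 ^ 2 ^ (m + 2) with hτ1
    have heq : twist τ1 = (twist τ).map (QuotientGroup.mk' N) := by
      refine le_antisymm ((Subgroup.closure_le _).2 ?_)
        (map_twist_le (QuotientGroup.mk' N) τ τ1 fun y => hσ1 _ y)
      rintro _ ⟨a, rfl⟩
      induction a using QuotientGroup.induction_on with
      | H g =>
        refine ⟨_, mem_twist τ g, ?_⟩
        rw [hτ1, hσ1]
        rfl
    haveI hnil1 : Group.IsNilpotent (twist τ1) := by rw [heq]; exact hF
    haveI := twist_normal τ1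
    have hinv : ∀ x ∈ twist τ1, σ1 x ∈ twist τ1 := fun x hx =>
      twist_invariant σ1 τ1 (fun y => by
        rw [← MulAut.mul_apply, ← MulAut.mul_apply, hτ1, ← pow_succ, ← pow_succ']) hx
    obtain ⟨σ2, hσ2, -, hf2⟩ := exists_quotient_aut σ1 (twist τ1) hinv hf1
    refine chain_cons N hNnil (chain_cons (twist τ1) hnil1 (ih inferInstance σ2 ?_ hf2))
    ext q
    induction q using QuotientGroup.induction_on with
    | H g =>
      rw [hσ2, MulAut.one_apply, eq_comm, QuotientGroup.eq]
      exact mem_twist τ1 g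

end CfsgLib.ShultGross
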